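import Cfsg.Agent.H0.TRX
import Cfsg.Agent.H15.M.M24

/-! Generated by tools/h0/tr.py. -/

set_option maxRecDepth 100000
set_option maxHeartbeats 0

namespace H0.Mo.X24
open H16 H0.TR

noncomputable def p3t_W : List (List ℕ) := [[nat_lit 4, nat_lit 1, nat_lit 4, nat_lit 7, nat_lit 6, nat_lit 1, nat_lit 2, nat_lit 8, nat_lit 3, nat_lit 9, nat_lit 8, nat_lit 0, nat_lit 7],
  [nat_lit 0, nat_lit 2, nat_lit 5, nat_lit 6, nat_lit 7, nat_lit 6, nat_lit 3, nat_lit 4, nat_lit 8, nat_lit 0, nat_lit 1, nat_lit 9, nat_lit 8, nat_lit 1, nat_lit 10, nat_lit 9, nat_lit 8, nat_lit 2, nat_lit 4],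
  [nat_lit 1, nat_lit 3, nat_lit 6, nat_lit 7, nat_lit 6, nat_lit 5, nat_lit 8, nat_lit 2, nat_lit 4, nat_lit 9, nat_lit 8, nat_lit 1, nat_lit 6, nat_lit 10, nat_lit 9, nat_lit 8, nat_lit 2, nat_lit 4]]
noncomputable def p3t_P : ℕ → ℕ → ℕ := wdsP H15.MM24.P p3t_W
noncomputable def p3Pd : List ℕ := [nat_lit 0xbdab28468e64ded5a92440c47080c5,
  nat_lit 0xaded37c1cca36325a9283844430065,
  nat_lit 0xaded07ba6c8b6544ad450102239903]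
noncomputable def p3P (k u : ℕ) : ℕ := Nat.land (Nat.shiftRight (nth (nat_lit 0) p3Pd k) (Nat.mul u (nat_lit 5))) (nat_lit 31)
noncomputable def p3Ed : ℕ := nat_lit 0xbc116a4e516ad2571c757b14620820
noncomputable def p3E (u : ℕ) : ℕ := Nat.land (Nat.shiftRight p3Ed (Nat.mul u (nat_lit 5))) (nat_lit 31)
noncomputable def p3Id : ℕ := nat_lit 0xbd113946163ade6715b55118348820
noncomputable def p3I (u : ℕ) : ℕ := Nat.land (Nat.shiftRight p3Id (Nat.mul u (nat_lit 5))) (nat_lit 31)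
noncomputable def p3B : List ℕ := [nat_lit 23, nat_lit 0, nat_lit 1, nat_lit 2, nat_lit 9, nat_lit 12, nat_lit 3]
noncomputable def p3C : List (List (List ℕ)) := [[[],
  [],
  []], [[],
  [],
  [nat_lit 0, nat_lit 0]], [[],
  [],
  []]]
noncomputable def p3e : List (List ℕ) := [[],
  [],
  [],
  [],
  [],
  [],
  [],
  [],
  [],
  [nat_lit 0, nat_lit 1, nat_lit 1],
  [nat_lit 1],
  [nat_lit 0],
  [nat_lit 0, nat_lit 2]]
noncomputable def p3l0Dd : ℕ := nat_lit 0x4b80cd3192e30500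
noncomputable def p3l0D (u : ℕ) : ℕ := Nat.land (Nat.shiftRight p3l0Dd (Nat.mul u (nat_lit 7))) (nat_lit 127)
noncomputable def p3l0Pd : ℕ := nat_lit 0x637185420
noncomputable def p3l0P (u : ℕ) : ℕ := Nat.land (Nat.shiftRight p3l0Pd (Nat.mul u (nat_lit 4))) (nat_lit 15)
noncomputable def p3l0Qd : ℕ := nat_lit 0x468327150
noncomputable def p3l0Q (u : ℕ) : ℕ := Nat.land (Nat.shiftRight p3l0Qd (Nat.mul u (nat_lit 4))) (nat_lit 15)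
noncomputable def p3l0 : Lev := ⟨9, 13, p3l0D, p3l0P, p3l0Q⟩
noncomputable def p3l1Dd : ℕ := nat_lit 0x4d20
noncomputable def p3l1D (u : ℕ) : ℕ := Nat.land (Nat.shiftRight p3l1Dd (Nat.mul u (nat_lit 5))) (nat_lit 31)
noncomputable def p3l1Pd : ℕ := nat_lit 0xf1
noncomputable def p3l1P (u : ℕ) : ℕ := Nat.land (Nat.shiftRight p3l1Pd (Nat.mul u (nat_lit 3))) (nat_lit 7)
noncomputable def p3l1Qd : ℕ := nat_lit 0x1080
noncomputable def p3l1Q (u : ℕ) : ℕ := Nat.land (Nat.shiftRight p3l1Qd (Nat.mul u (nat_lit 2))) (nat_lit 3)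
noncomputable def p3l1 : Lev := ⟨3, 10, p3l1D, p3l1P, p3l1Q⟩
noncomputable def cov3r_W : List (List ℕ) := [[nat_lit 7, nat_lit 1, nat_lit 6, nat_lit 0, nat_lit 2, nat_lit 7, nat_lit 6, nat_lit 8, nat_lit 3, nat_lit 9, nat_lit 8, nat_lit 1, nat_lit 2, nat_lit 6],
  [nat_lit 1, nat_lit 2, nat_lit 7, nat_lit 8, nat_lit 0, nat_lit 9, nat_lit 8, nat_lit 1, nat_lit 2, nat_lit 6, nat_lit 7, nat_lit 10, nat_lit 9, nat_lit 8, nat_lit 2, nat_lit 5, nat_lit 5, nat_lit 6, nat_lit 8]]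
noncomputable def cov3r_P : ℕ → ℕ → ℕ := wdsP H15.MM24.P cov3r_W
noncomputable def cov3T0 : CT := (.split (.more (.split (.more (.split (.more .one (.more (.leaf (nat_lit 0) [nat_lit 2, nat_lit 3, nat_lit 4, nat_lit 6, nat_lit 1, nat_lit 2, nat_lit 7, nat_lit 6, nat_lit 2, nat_lit 6, nat_lit 4, nat_lit 8, nat_lit 1, nat_lit 2]) (.more (.leaf (nat_lit 0) [nat_lit 6, nat_lit 0, nat_lit 2, nat_lit 7, nat_lit 8, nat_lit 9, nat_lit 10, nat_lit 9, nat_lit 8, nat_lit 2]) .one)))) (.more (.fuse [nat_lit 2, nat_lit 2] [] (.leaf (nat_lit 0) [nat_lit 0, nat_lit 3, nat_lit 4, nat_lit 6, nat_lit 1, nat_lit 2, nat_lit 7, nat_lit 6, nat_lit 5, nat_lit 8, nat_lit 9, nat_lit 10, nat_lit 9, nat_lit 8, nat_lit 1, nat_lit 3])) (.more (.fuse [nat_lit 2] [] (.leaf (nat_lit 0) [nat_lit 1, nat_lit 5, nat_lit 6, nat_lit 7, nat_lit 8, nat_lit 2, nat_lit 9, nat_lit 10,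 nat_lit 9, nat_lit 8, nat_lit 0, nat_lit 2])) .one)))) (.more (.split (.more (.fuse [nat_lit 1] [] (.leaf (nat_lit 1) [nat_lit 6, nat_lit 0, nat_lit 2, nat_lit 6, nat_lit 7, nat_lit 6, nat_lit 1, nat_lit 4, nat_lit 8, nat_lit 9, nat_lit 10, nat_lit 9, nat_lit 8, nat_lit 1, nat_lit 6])) (.more (.fuse [nat_lit 1] [] (.leaf (nat_lit 1) [nat_lit 0, nat_lit 2, nat_lit 6, nat_lit 8, nat_lit 1, nat_lit 3, nat_lit 9, nat_lit 8, nat_lit 10, nat_lit 9, nat_lit 8, nat_lit 0, nat_lit 1, nat_lit 5])) (.more (.fuse [nat_lit 1] [] (.leaf (nat_lit 0) [nat_lit 8, nat_lit 0, nat_lit 4, nat_lit 6, nat_lit 2, nat_lit 7, nat_lit 6, nat_lit 0, nat_lit 8, nat_lit 1, nat_lit 2, nat_lit 6])) .one)))) (.more (.split (.more (.fuse [nat_lit 1, nat_lit 1] [] (.leaf (nat_lit 1) [nat_lit 2, nat_lit 6, nat_lit 0, nat_lit 7, nat_lit 8, nat_lit 1, nat_lit 6, nat_lit 5, nat_lit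 9, nat_lit 10, nat_lit 9, nat_lit 8, nat_lit 0, nat_lit 1])) (.more (.fuse [nat_lit 1, nat_lit 1] [] (.leaf (nat_lit 0) [nat_lit 2, nat_lit 3, nat_lit 5, nat_lit 6, nat_lit 0, nat_lit 1, nat_lit 2, nat_lit 7, nat_lit 8, nat_lit 2, nat_lit 4, nat_lit 9, nat_lit 8, nat_lit 1, nat_lit 2])) (.more (.fuse [nat_lit 1, nat_lit 1] [] (.leaf (nat_lit 1) [nat_lit 6, nat_lit 0, nat_lit 3, nat_lit 8, nat_lit 9, nat_lit 8, nat_lit 0, nat_lit 2, nat_lit 10, nat_lit 9, nat_lit 8, nat_lit 1])) .one)))) .one))))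
noncomputable def c3ax_W : List (List ℕ) := [[nat_lit 7, nat_lit 1, nat_lit 6, nat_lit 0, nat_lit 2, nat_lit 7, nat_lit 6, nat_lit 8, nat_lit 3, nat_lit 9, nat_lit 8, nat_lit 1, nat_lit 2, nat_lit 6]]
noncomputable def c3ax_P : ℕ → ℕ → ℕ := wdsP H15.MM24.P c3ax_W
noncomputable def c3ath_W : List (List ℕ) := [[nat_lit 0, nat_lit 6, nat_lit 7, nat_lit 6, nat_lit 0, nat_lit 1, nat_lit 5],
  [nat_lit 1, nat_lit 3, nat_lit 5, nat_lit 6, nat_lit 7, nat_lit 6],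
  [nat_lit 3, nat_lit 4, nat_lit 6, nat_lit 7, nat_lit 6, nat_lit 2],
  [nat_lit 1, nat_lit 3, nat_lit 5, nat_lit 6, nat_lit 7, nat_lit 6],
  [nat_lit 1, nat_lit 3, nat_lit 5, nat_lit 6, nat_lit 7, nat_lit 6],
  [nat_lit 1, nat_lit 3, nat_lit 5, nat_lit 6, nat_lit 7, nat_lit 6],
  [nat_lit 3, nat_lit 5, nat_lit 6, nat_lit 7, nat_lit 6, nat_lit 1],
  [nat_lit 5, nat_lit 2, nat_lit 5, nat_lit 6, nat_lit 7, nat_lit 6, nat_lit 8, nat_lit 9, nat_lit 10, nat_lit 9, nat_lit 8, nat_lit 0, nat_lit 3],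
  [nat_lit 2, nat_lit 6, nat_lit 7, nat_lit 6, nat_lit 8, nat_lit 10, nat_lit 9, nat_lit 8, nat_lit 0, nat_lit 10],
  [nat_lit 4, nat_lit 6, nat_lit 7, nat_lit 6, nat_lit 4, nat_lit 8, nat_lit 1, nat_lit 4, nat_lit 8],
  [nat_lit 0],
  [nat_lit 1],
  [nat_lit 2],
  [nat_lit 3],
  [nat_lit 4],
  [nat_lit 5],
  [nat_lit 8],
  [nat_lit 6],
  [nat_lit 7],
  [nat_lit 9],
  [nat_lit 10]]
noncomputable def c3ath_P : ℕ → ℕ → ℕ := wdsP H15.MM24.P c3ath_W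
noncomputable def c3atl0Dd : ℕ := nat_lit 0xb0b48ca893b180be5e2b1508a4c25124823f200c4641e128502600
noncomputable def c3atl0D (u : ℕ) : ℕ := Nat.land (Nat.shiftRight c3atl0Dd (Nat.mul u (nat_lit 9))) (nat_lit 511)
noncomputable def c3atl0Pd : ℕ := nat_lit 0x1a5aa34ed470a47790b18217565c20
noncomputable def c3atl0P (u : ℕ) : ℕ := Nat.land (Nat.shiftRight c3atl0Pd (Nat.mul u (nat_lit 5))) (nat_lit 31)
noncomputable def c3atl0Qd : ℕ := nat_lit 0x14490935075bea32d2c664d2abb820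
noncomputable def c3atl0Q (u : ℕ) : ℕ := Nat.land (Nat.shiftRight c3atl0Qd (Nat.mul u (nat_lit 5))) (nat_lit 31)
noncomputable def c3atl0 : Lev := ⟨24, 21, c3atl0D, c3atl0P, c3atl0Q⟩
noncomputable def c3atl1Dd : ℕ := nat_lit 0x4e2f25d481608a8f3a1a83623110843220140783a15098482200
noncomputable def c3atl1D (u : ℕ) : ℕ := Nat.land (Nat.shiftRight c3atl1Dd (Nat.mul u (nat_lit 9))) (nat_lit 511)
noncomputable def c3atl1Pd : ℕ := nat_lit 0x5c25629133d88e3422d7aea990a83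
noncomputable def c3atl1P (u : ℕ) : ℕ := Nat.land (Nat.shiftRight c3atl1Pd (Nat.mul u (nat_lit 5))) (nat_lit 31)
noncomputable def c3atl1Qd : ℕ := nat_lit 0xb38a180d2a3b113348917ae8d00aa0
noncomputable def c3atl1Q (u : ℕ) : ℕ := Nat.land (Nat.shiftRight c3atl1Qd (Nat.mul u (nat_lit 5))) (nat_lit 31)
noncomputable def c3atl1 : Lev := ⟨23, 19, c3atl1D, c3atl1P, c3atl1Q⟩
noncomputable def c3atl2Dd : ℕ := nat_lit 0x1a931329c0ce5f2b1143a331a07022120803c1c0d0602c1400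
noncomputable def c3atl2D (u : ℕ) : ℕ := Nat.land (Nat.shiftRight c3atl2Dd (Nat.mul u (nat_lit 9))) (nat_lit 511)
noncomputable def c3atl2Pd : ℕ := nat_lit 0x2e17219514553b488f2c28b3b526
noncomputable def c3atl2P (u : ℕ) : ℕ := Nat.land (Nat.shiftRight c3atl2Pd (Nat.mul u (nat_lit 5))) (nat_lit 31)
noncomputable def c3atl2Qd : ℕ := nat_lit 0xaae05629c644c5123432180e903e80
noncomputable def c3atl2Q (u : ℕ) : ℕ := Nat.land (Nat.shiftRight c3atl2Qd (Nat.mul u (nat_lit 5))) (nat_lit 31)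
noncomputable def c3atl2 : Lev := ⟨22, 17, c3atl2D, c3atl2P, c3atl2Q⟩
noncomputable def c3atl3Dd : ℕ := nat_lit 0x805930483e3c1c1d2e241a20161413100c0a0b0900
noncomputable def c3atl3D (u : ℕ) : ℕ := Nat.land (Nat.shiftRight c3atl3Dd (Nat.mul u (nat_lit 8))) (nat_lit 255)
noncomputable def c3atl3Pd : ℕ := nat_lit 0x17429312b4f35b1e4a5a0e14aa1
noncomputable def c3atl3P (u : ℕ) : ℕ := Nat.land (Nat.shiftRight c3atl3Pd (Nat.mul u (nat_lit 5))) (nat_lit 31)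
noncomputable def c3atl3Qd : ℕ := nat_lit 0xa182760a05491ca5ca33681e800c00
noncomputable def c3atl3Q (u : ℕ) : ℕ := Nat.land (Nat.shiftRight c3atl3Qd (Nat.mul u (nat_lit 5))) (nat_lit 31)
noncomputable def c3atl3 : Lev := ⟨21, 10, c3atl3D, c3atl3P, c3atl3Q⟩
noncomputable def c3atl4Dd : ℕ := nat_lit 0x8f86753e4823491a18101d1114120f0b090a0800
noncomputable def c3atl4D (u : ℕ) : ℕ := Nat.land (Nat.shiftRight c3atl4Dd (Nat.mul u (nat_lit 8))) (nat_lit 255)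
noncomputable def c3atl4Pd : ℕ := nat_lit 0x45e0a64d753965113ad423d2d
noncomputable def c3atl4P (u : ℕ) : ℕ := Nat.land (Nat.shiftRight c3atl4Pd (Nat.mul u (nat_lit 5))) (nat_lit 31)
noncomputable def c3atl4Qd : ℕ := nat_lit 0x91584725111180f6c0335814301c00
noncomputable def c3atl4Q (u : ℕ) : ℕ := Nat.land (Nat.shiftRight c3atl4Qd (Nat.mul u (nat_lit 5))) (nat_lit 31)
noncomputable def c3atl4 : Lev := ⟨20, 9, c3atl4D, c3atl4P, c3atl4Q⟩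
noncomputable def c3atl5Dd : ℕ := nat_lit 0xf70
noncomputable def c3atl5D (u : ℕ) : ℕ := Nat.land (Nat.shiftRight c3atl5Dd (Nat.mul u (nat_lit 4))) (nat_lit 15)
noncomputable def c3atl5Pd : ℕ := nat_lit 0x5d48
noncomputable def c3atl5P (u : ℕ) : ℕ := Nat.land (Nat.shiftRight c3atl5Pd (Nat.mul u (nat_lit 5))) (nat_lit 31)
noncomputable def c3atl5Qd : ℕ := nat_lit 0x800000100000
noncomputable def c3atl5Q (u : ℕ) : ℕ := Nat.land (Nat.shiftRight c3atl5Qd (Nat.mul u (nat_lit 2))) (nat_lit 3)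
noncomputable def c3atl5 : Lev := ⟨3, 8, c3atl5D, c3atl5P, c3atl5Q⟩
noncomputable def c3atl6Dd : ℕ := nat_lit 0xa6dd8294a6ca0d20243860400080
noncomputable def c3atl6D (u : ℕ) : ℕ := Nat.land (Nat.shiftRight c3atl6Dd (Nat.mul u (nat_lit 7))) (nat_lit 127)
noncomputable def c3atl6Pd : ℕ := nat_lit 0x2cecc21e117264b7d682
noncomputable def c3atl6P (u : ℕ) : ℕ := Nat.land (Nat.shiftRight c3atl6Pd (Nat.mul u (nat_lit 5))) (nat_lit 31)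
noncomputable def c3atl6Qd : ℕ := nat_lit 0xd21e589370c4060a0fb0000
noncomputable def c3atl6Q (u : ℕ) : ℕ := Nat.land (Nat.shiftRight c3atl6Qd (Nat.mul u (nat_lit 4))) (nat_lit 15)
noncomputable def c3atl6 : Lev := ⟨16, 7, c3atl6D, c3atl6P, c3atl6Q⟩
noncomputable def c3ace_W : List (List ℕ) := [[nat_lit 1, nat_lit 3, nat_lit 5, nat_lit 6, nat_lit 7, nat_lit 6],
  [nat_lit 1, nat_lit 3, nat_lit 5, nat_lit 6, nat_lit 7, nat_lit 6],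
  [nat_lit 1, nat_lit 3, nat_lit 5, nat_lit 6, nat_lit 7, nat_lit 6],
  [nat_lit 1, nat_lit 3, nat_lit 5, nat_lit 6, nat_lit 7, nat_lit 6],
  [nat_lit 1, nat_lit 3, nat_lit 5, nat_lit 6, nat_lit 7, nat_lit 6],
  [nat_lit 1, nat_lit 3, nat_lit 5, nat_lit 6, nat_lit 7, nat_lit 6],
  [nat_lit 1, nat_lit 3, nat_lit 5, nat_lit 6, nat_lit 7, nat_lit 6],
  [nat_lit 1, nat_lit 3, nat_lit 5, nat_lit 6, nat_lit 7, nat_lit 6],
  [nat_lit 1, nat_lit 2, nat_lit 5, nat_lit 6, nat_lit 7, nat_lit 6, nat_lit 5],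
  [nat_lit 0, nat_lit 1, nat_lit 3, nat_lit 6, nat_lit 7, nat_lit 6, nat_lit 0, nat_lit 2, nat_lit 8, nat_lit 2, nat_lit 4],
  [nat_lit 2, nat_lit 5, nat_lit 6, nat_lit 7, nat_lit 6, nat_lit 3, nat_lit 8, nat_lit 2, nat_lit 5, nat_lit 0],
  [nat_lit 0, nat_lit 3, nat_lit 6, nat_lit 2, nat_lit 6, nat_lit 7, nat_lit 6, nat_lit 2, nat_lit 6, nat_lit 8, nat_lit 0, nat_lit 1, nat_lit 4],
  [nat_lit 8, nat_lit 1, nat_lit 2, nat_lit 3, nat_lit 5, nat_lit 6, nat_lit 7, nat_lit 6, nat_lit 8, nat_lit 0],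
  [nat_lit 6, nat_lit 7, nat_lit 6, nat_lit 5, nat_lit 1, nat_lit 8, nat_lit 0, nat_lit 1, nat_lit 9, nat_lit 10, nat_lit 9, nat_lit 8, nat_lit 2, nat_lit 5],
  [nat_lit 1, nat_lit 3, nat_lit 6, nat_lit 2, nat_lit 7, nat_lit 6, nat_lit 2, nat_lit 6, nat_lit 8, nat_lit 2, nat_lit 9, nat_lit 8, nat_lit 1, nat_lit 2, nat_lit 5, nat_lit 7],
  [nat_lit 2, nat_lit 3, nat_lit 6, nat_lit 5, nat_lit 7, nat_lit 6, nat_lit 0, nat_lit 8, nat_lit 3, nat_lit 9, nat_lit 8, nat_lit 1, nat_lit 3]]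
noncomputable def c3ace_P : ℕ → ℕ → ℕ := wdsP H15.MM24.P c3ace_W
noncomputable def c3acc6Dd : ℕ := nat_lit 0x8a000
noncomputable def c3acc6D (u : ℕ) : ℕ := Nat.land (Nat.shiftRight c3acc6Dd (Nat.mul u (nat_lit 5))) (nat_lit 31)
noncomputable def c3acc6Pd : ℕ := nat_lit 0x64282
noncomputable def c3acc6P (u : ℕ) : ℕ := Nat.land (Nat.shiftRight c3acc6Pd (Nat.mul u (nat_lit 5))) (nat_lit 31)
noncomputable def c3acc6Qd : ℕ := nat_lit 0x10203000000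
noncomputable def c3acc6Q (u : ℕ) : ℕ := Nat.land (Nat.shiftRight c3acc6Qd (Nat.mul u (nat_lit 2))) (nat_lit 3)
noncomputable def c3acc6 : Lev := ⟨4, 9, c3acc6D, c3acc6P, c3acc6Q⟩
noncomputable def c3atn0Fd : ℕ := nat_lit 0xd47404c41a0a53108400
noncomputable def c3atn0F (u : ℕ) : ℕ := Nat.land (Nat.shiftRight c3atn0Fd (Nat.mul u (nat_lit 5))) (nat_lit 31)
noncomputable def c3atn0 : Nd := ⟨c3atn0F, (nat_lit 9), (nat_lit 9), [[nat_lit 0]], [((nat_lit 0), []), ((nat_lit 1), [nat_lit 0])], []⟩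
noncomputable def c3acc3Dd : ℕ := nat_lit 0x113841c5019a9686d92a1a24500
noncomputable def c3acc3D (u : ℕ) : ℕ := Nat.land (Nat.shiftRight c3acc3Dd (Nat.mul u (nat_lit 7))) (nat_lit 127)
noncomputable def c3acc3Pd : ℕ := nat_lit 0x31302da8f988e473501
noncomputable def c3acc3P (u : ℕ) : ℕ := Nat.land (Nat.shiftRight c3acc3Pd (Nat.mul u (nat_lit 5))) (nat_lit 31)
noncomputable def c3acc3Qd : ℕ := nat_lit 0xa09700c832e00d150b40600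
noncomputable def c3acc3Q (u : ℕ) : ℕ := Nat.land (Nat.shiftRight c3acc3Qd (Nat.mul u (nat_lit 4))) (nat_lit 15)
noncomputable def c3acc3 : Lev := ⟨15, 14, c3acc3D, c3acc3P, c3acc3Q⟩
noncomputable def c3atn1Fd : ℕ := nat_lit 0x2900102400000058000000000000e040
noncomputable def c3atn1F (u : ℕ) : ℕ := Nat.land (Nat.shiftRight c3atn1Fd (Nat.mul u (nat_lit 6))) (nat_lit 63)
noncomputable def c3atn1 : Nd := ⟨c3atn1F, (nat_lit 14), (nat_lit 14), [[nat_lit 0]], [((nat_lit 0), [])], []⟩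
noncomputable def c3acc0Dd : ℕ := nat_lit 0xa9aa2e1e3c39501d1b381c191a18100e0f00
noncomputable def c3acc0D (u : ℕ) : ℕ := Nat.land (Nat.shiftRight c3acc0Dd (Nat.mul u (nat_lit 8))) (nat_lit 255)
noncomputable def c3acc0Pd : ℕ := nat_lit 0x101331c4a3613b1c4578d20
noncomputable def c3acc0P (u : ℕ) : ℕ := Nat.land (Nat.shiftRight c3acc0Pd (Nat.mul u (nat_lit 5))) (nat_lit 31)
noncomputable def c3acc0Qd : ℕ := nat_lit 0x1c0b400091b54e0003133c8c11600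
noncomputable def c3acc0Q (u : ℕ) : ℕ := Nat.land (Nat.shiftRight c3acc0Qd (Nat.mul u (nat_lit 5))) (nat_lit 31)
noncomputable def c3acc0 : Lev := ⟨18, 16, c3acc0D, c3acc0P, c3acc0Q⟩
noncomputable def c3atn2Fd : ℕ := nat_lit 0x3f000000000800000038000a1d001000
noncomputable def c3atn2F (u : ℕ) : ℕ := Nat.land (Nat.shiftRight c3atn2Fd (Nat.mul u (nat_lit 6))) (nat_lit 63)
noncomputable def c3atn2 : Nd := ⟨c3atn2F, (nat_lit 16), (nat_lit 16), [[nat_lit 0]], [((nat_lit 0), [])], []⟩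
noncomputable def c3bx_W : List (List ℕ) := [[nat_lit 1, nat_lit 2, nat_lit 7, nat_lit 8, nat_lit 0, nat_lit 9, nat_lit 8, nat_lit 1, nat_lit 2, nat_lit 6, nat_lit 7, nat_lit 10, nat_lit 9, nat_lit 8, nat_lit 2, nat_lit 5, nat_lit 5, nat_lit 6, nat_lit 8]]
noncomputable def c3bx_P : ℕ → ℕ → ℕ := wdsP H15.MM24.P c3bx_W
noncomputable def c3bth_W : List (List ℕ) := [[nat_lit 10, nat_lit 6, nat_lit 2, nat_lit 1, nat_lit 6, nat_lit 5, nat_lit 8, nat_lit 9, nat_lit 8, nat_lit 10],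
  [nat_lit 2, nat_lit 6, nat_lit 1, nat_lit 2],
  [nat_lit 2, nat_lit 3, nat_lit 6, nat_lit 0, nat_lit 2, nat_lit 8, nat_lit 9, nat_lit 10, nat_lit 9, nat_lit 8, nat_lit 2],
  [nat_lit 0, nat_lit 2, nat_lit 4, nat_lit 6, nat_lit 8, nat_lit 9, nat_lit 10, nat_lit 9, nat_lit 8, nat_lit 2],
  [nat_lit 10, nat_lit 9, nat_lit 2, nat_lit 6, nat_lit 0, nat_lit 2, nat_lit 8, nat_lit 1, nat_lit 6, nat_lit 9, nat_lit 8, nat_lit 10],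
  [nat_lit 0],
  [nat_lit 1],
  [nat_lit 2],
  [nat_lit 3],
  [nat_lit 4],
  [nat_lit 5],
  [nat_lit 6],
  [nat_lit 8],
  [nat_lit 7],
  [nat_lit 9],
  [nat_lit 10]]
noncomputable def c3bth_P : ℕ → ℕ → ℕ := wdsP H15.MM24.P c3bth_W
noncomputable def c3btl0Dd : ℕ := nat_lit 0xc9e160a14d6968587671666156241436352223201c0f0e00
noncomputable def c3btl0D (u : ℕ) : ℕ := Nat.land (Nat.shiftRight c3btl0Dd (Nat.mul u (nat_lit 8))) (nat_lit 255)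
noncomputable def c3btl0Pd : ℕ := nat_lit 0x2b628148c99c28eaa8ef22ec365c20
noncomputable def c3btl0P (u : ℕ) : ℕ := Nat.land (Nat.shiftRight c3btl0Pd (Nat.mul u (nat_lit 5))) (nat_lit 31)
noncomputable def c3btl0Qd : ℕ := nat_lit 0x1156d7caae432c332a144c6e724c20
noncomputable def c3btl0Q (u : ℕ) : ℕ := Nat.land (Nat.shiftRight c3btl0Qd (Nat.mul u (nat_lit 5))) (nat_lit 31)
noncomputable def c3btl0 : Lev := ⟨24, 16, c3btl0D, c3btl0P, c3btl0Q⟩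
noncomputable def c3btl1Dd : ℕ := nat_lit 0xbe95465263414e40394b322b27262511240e21190f0d00
noncomputable def c3btl1D (u : ℕ) : ℕ := Nat.land (Nat.shiftRight c3btl1Dd (Nat.mul u (nat_lit 8))) (nat_lit 255)
noncomputable def c3btl1Pd : ℕ := nat_lit 0x28b70c5274188d5bab694193a3c62
noncomputable def c3btl1P (u : ℕ) : ℕ := Nat.land (Nat.shiftRight c3btl1Pd (Nat.mul u (nat_lit 5))) (nat_lit 31)
noncomputable def c3btl1Qd : ℕ := nat_lit 0xa212321e46129855da2f83aad08260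
noncomputable def c3btl1Q (u : ℕ) : ℕ := Nat.land (Nat.shiftRight c3btl1Qd (Nat.mul u (nat_lit 5))) (nat_lit 31)
noncomputable def c3btl1 : Lev := ⟨23, 14, c3btl1D, c3btl1P, c3btl1Q⟩
noncomputable def c3btl2Dd : ℕ := nat_lit 0x5eb57db72519182f4222163521280e0b090807060500
noncomputable def c3btl2D (u : ℕ) : ℕ := Nat.land (Nat.shiftRight c3btl2Dd (Nat.mul u (nat_lit 8))) (nat_lit 255)
noncomputable def c3btl2Pd : ℕ := nat_lit 0x2e1514ee1a189844865b5f29da95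
noncomputable def c3btl2P (u : ℕ) : ℕ := Nat.land (Nat.shiftRight c3btl2Pd (Nat.mul u (nat_lit 5))) (nat_lit 31)
noncomputable def c3btl2Qd : ℕ := nat_lit 0xa88011914b2c0cd3cd8e8a24978280
noncomputable def c3btl2Q (u : ℕ) : ℕ := Nat.land (Nat.shiftRight c3btl2Qd (Nat.mul u (nat_lit 5))) (nat_lit 31)
noncomputable def c3btl2 : Lev := ⟨22, 13, c3btl2D, c3btl2P, c3btl2Q⟩
noncomputable def c3btl3Dd : ℕ := nat_lit 0x3f4c76611485078e3e30d0d141c40b0a18200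
noncomputable def c3btl3D (u : ℕ) : ℕ := Nat.land (Nat.shiftRight c3btl3Dd (Nat.mul u (nat_lit 7))) (nat_lit 127)
noncomputable def c3btl3Pd : ℕ := nat_lit 0x171da0c251cb4bd056c54694ce1
noncomputable def c3btl3P (u : ℕ) : ℕ := Nat.land (Nat.shiftRight c3btl3Pd (Nat.mul u (nat_lit 5))) (nat_lit 31)
noncomputable def c3btl3Qd : ℕ := nat_lit 0xa480e10cd1534f0615690910f98000
noncomputable def c3btl3Q (u : ℕ) : ℕ := Nat.land (Nat.shiftRight c3btl3Qd (Nat.mul u (nat_lit 5))) (nat_lit 31)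
noncomputable def c3btl3 : Lev := ⟨21, 5, c3btl3D, c3btl3P, c3btl3Q⟩
noncomputable def c3btl4Dd : ℕ := nat_lit 0xf6bc5f6e995475940c3481c91050c0
noncomputable def c3btl4D (u : ℕ) : ℕ := Nat.land (Nat.shiftRight c3btl4Dd (Nat.mul u (nat_lit 6))) (nat_lit 63)
noncomputable def c3btl4Pd : ℕ := nat_lit 0x415ec519a394e0449ef48b976
noncomputable def c3btl4P (u : ℕ) : ℕ := Nat.land (Nat.shiftRight c3btl4Pd (Nat.mul u (nat_lit 5))) (nat_lit 31)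
noncomputable def c3btl4Qd : ℕ := nat_lit 0x2800452c69889b00bcf333a4860000
noncomputable def c3btl4Q (u : ℕ) : ℕ := Nat.land (Nat.shiftRight c3btl4Qd (Nat.mul u (nat_lit 5))) (nat_lit 31)
noncomputable def c3btl4 : Lev := ⟨20, 4, c3btl4D, c3btl4P, c3btl4Q⟩
noncomputable def c3btl5Dd : ℕ := nat_lit 0xe5a4f74e084a8a311020
noncomputable def c3btl5D (u : ℕ) : ℕ := Nat.land (Nat.shiftRight c3btl5Dd (Nat.mul u (nat_lit 5))) (nat_lit 31)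
noncomputable def c3btl5Pd : ℕ := nat_lit 0x4928e59e3069a5798d8f
noncomputable def c3btl5P (u : ℕ) : ℕ := Nat.land (Nat.shiftRight c3btl5Pd (Nat.mul u (nat_lit 5))) (nat_lit 31)
noncomputable def c3btl5Qd : ℕ := nat_lit 0x400d35980c71b0f0a60e2000
noncomputable def c3btl5Q (u : ℕ) : ℕ := Nat.land (Nat.shiftRight c3btl5Qd (Nat.mul u (nat_lit 4))) (nat_lit 15)
noncomputable def c3btl5 : Lev := ⟨16, 3, c3btl5D, c3btl5P, c3btl5Q⟩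
noncomputable def c3btl6Dd : ℕ := nat_lit 4
noncomputable def c3btl6D (u : ℕ) : ℕ := Nat.land (Nat.shiftRight c3btl6Dd (Nat.mul u (nat_lit 1))) (nat_lit 1)
noncomputable def c3btl6Pd : ℕ := nat_lit 0x5d83
noncomputable def c3btl6P (u : ℕ) : ℕ := Nat.land (Nat.shiftRight c3btl6Pd (Nat.mul u (nat_lit 5))) (nat_lit 31)
noncomputable def c3btl6Qd : ℕ := nat_lit 0x800001000000
noncomputable def c3btl6Q (u : ℕ) : ℕ := Nat.land (Nat.shiftRight c3btl6Qd (Nat.mul u (nat_lit 2))) (nat_lit 3)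
noncomputable def c3btl6 : Lev := ⟨3, 1, c3btl6D, c3btl6P, c3btl6Q⟩
noncomputable def c3bce_W : List (List ℕ) := [[nat_lit 2, nat_lit 3, nat_lit 5, nat_lit 6, nat_lit 1, nat_lit 2, nat_lit 8, nat_lit 9, nat_lit 10, nat_lit 9, nat_lit 8],
  [nat_lit 9, nat_lit 10, nat_lit 2, nat_lit 3, nat_lit 6, nat_lit 4, nat_lit 9, nat_lit 8],
  [nat_lit 2, nat_lit 3, nat_lit 5, nat_lit 6, nat_lit 5, nat_lit 7, nat_lit 9, nat_lit 8, nat_lit 0, nat_lit 1, nat_lit 10, nat_lit 9, nat_lit 8, nat_lit 0, nat_lit 1],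
  [nat_lit 0, nat_lit 3, nat_lit 6, nat_lit 1, nat_lit 7, nat_lit 6, nat_lit 4, nat_lit 8, nat_lit 1, nat_lit 6, nat_lit 5, nat_lit 9, nat_lit 8, nat_lit 2, nat_lit 10]]
noncomputable def c3bce_P : ℕ → ℕ → ℕ := wdsP H15.MM24.P c3bce_W
noncomputable def c3bcc6Dd : ℕ := nat_lit 4
noncomputable def c3bcc6D (u : ℕ) : ℕ := Nat.land (Nat.shiftRight c3bcc6Dd (Nat.mul u (nat_lit 1))) (nat_lit 1)
noncomputable def c3bcc6Pd : ℕ := nat_lit 0x5d83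
noncomputable def c3bcc6P (u : ℕ) : ℕ := Nat.land (Nat.shiftRight c3bcc6Pd (Nat.mul u (nat_lit 5))) (nat_lit 31)
noncomputable def c3bcc6Qd : ℕ := nat_lit 0x800001000000
noncomputable def c3bcc6Q (u : ℕ) : ℕ := Nat.land (Nat.shiftRight c3bcc6Qd (Nat.mul u (nat_lit 2))) (nat_lit 3)
noncomputable def c3bcc6 : Lev := ⟨3, 1, c3bcc6D, c3bcc6P, c3bcc6Q⟩
noncomputable def c3btn0Fd : ℕ := nat_lit 0
noncomputable def c3btn0F (u : ℕ) : ℕ := Nat.land (Nat.shiftRight c3btn0Fd (Nat.mul u (nat_lit 1))) (nat_lit 1)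
noncomputable def c3btn0 : Nd := ⟨c3btn0F, (nat_lit 2), (nat_lit 1), [], [((nat_lit 0), [])], []⟩
noncomputable def c3bcc3Dd : ℕ := nat_lit 0xb752310
noncomputable def c3bcc3D (u : ℕ) : ℕ := Nat.land (Nat.shiftRight c3bcc3Dd (Nat.mul u (nat_lit 4))) (nat_lit 15)
noncomputable def c3bcc3Pd : ℕ := nat_lit 0x5d834cda1
noncomputable def c3bcc3P (u : ℕ) : ℕ := Nat.land (Nat.shiftRight c3bcc3Pd (Nat.mul u (nat_lit 5))) (nat_lit 31)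
noncomputable def c3bcc3Qd : ℕ := nat_lit 0xc0040000d018000800
noncomputable def c3bcc3Q (u : ℕ) : ℕ := Nat.land (Nat.shiftRight c3bcc3Qd (Nat.mul u (nat_lit 3))) (nat_lit 7)
noncomputable def c3bcc3 : Lev := ⟨7, 2, c3bcc3D, c3bcc3P, c3bcc3Q⟩
noncomputable def c3btn1y7_W : List (List ℕ) := [[nat_lit 2, nat_lit 3, nat_lit 4, nat_lit 6, nat_lit 4, nat_lit 7, nat_lit 8, nat_lit 1, nat_lit 6, nat_lit 9, nat_lit 8, nat_lit 2, nat_lit 10, nat_lit 9, nat_lit 8, nat_lit 1, nat_lit 6, nat_lit 1, nat_lit 7]]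
noncomputable def c3btn1y7_P : ℕ → ℕ → ℕ := wdsP H15.MM24.P c3btn1y7_W
noncomputable def c3btr2k_W : List (List ℕ) := [[],
  [nat_lit 5, nat_lit 6, nat_lit 5, nat_lit 8, nat_lit 9, nat_lit 10, nat_lit 9, nat_lit 8, nat_lit 1, nat_lit 2, nat_lit 6]]
noncomputable def c3btr2k_P : ℕ → ℕ → ℕ := wdsP H15.MM24.P c3btr2k_W
noncomputable def c3btn2Fd : ℕ := nat_lit 0xe9
noncomputable def c3btn2F (u : ℕ) : ℕ := Nat.land (Nat.shiftRight c3btn2Fd (Nat.mul u (nat_lit 3))) (nat_lit 7)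
noncomputable def c3btn2 : Nd := ⟨c3btn2F, (nat_lit 2), (nat_lit 2), [], [((nat_lit 0), []), ((nat_lit 1), [nat_lit 0])], []⟩
noncomputable def c3btn1y6_W : List (List ℕ) := [[nat_lit 10, nat_lit 3, nat_lit 2, nat_lit 6, nat_lit 7, nat_lit 8, nat_lit 2, nat_lit 3, nat_lit 9, nat_lit 8, nat_lit 1, nat_lit 10, nat_lit 9, nat_lit 8, nat_lit 1, nat_lit 2, nat_lit 6, nat_lit 7, nat_lit 0]]
noncomputable def c3btn1y6_P : ℕ → ℕ → ℕ := wdsP H15.MM24.P c3btn1y6_W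
noncomputable def c3btr3k_W : List (List ℕ) := [[],
  [nat_lit 5, nat_lit 6, nat_lit 5, nat_lit 8, nat_lit 9, nat_lit 10, nat_lit 9, nat_lit 8, nat_lit 1, nat_lit 2, nat_lit 6]]
noncomputable def c3btr3k_P : ℕ → ℕ → ℕ := wdsP H15.MM24.P c3btr3k_W
noncomputable def c3btn3Fd : ℕ := nat_lit 0xe9
noncomputable def c3btn3F (u : ℕ) : ℕ := Nat.land (Nat.shiftRight c3btn3Fd (Nat.mul u (nat_lit 3))) (nat_lit 7)
noncomputable def c3btn3 : Nd := ⟨c3btn3F, (nat_lit 2), (nat_lit 2), [], [((nat_lit 0), []), ((nat_lit 1), [nat_lit 0])], []⟩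
noncomputable def c3btn1Fd : ℕ := nat_lit 0x5409347059707713010
noncomputable def c3btn1F (u : ℕ) : ℕ := Nat.land (Nat.shiftRight c3btn1Fd (Nat.mul u (nat_lit 4))) (nat_lit 15)
noncomputable def c3btn1 : Nd := ⟨c3btn1F, (nat_lit 2), (nat_lit 2), [], [((nat_lit 0), []), ((nat_lit 0), [nat_lit 0]), ((nat_lit 0), [nat_lit 0, nat_lit 0])], [((nat_lit 7), c3btn1y7_W), ((nat_lit 6), c3btn1y6_W)]⟩
noncomputable def c3bcc0Dd : ℕ := nat_lit 0xa288fa02e59498424cc94184468b0e184090a0c100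
noncomputable def c3bcc0D (u : ℕ) : ℕ := Nat.land (Nat.shiftRight c3bcc0Dd (Nat.mul u (nat_lit 7))) (nat_lit 127)
noncomputable def c3bcc0Pd : ℕ := nat_lit 0x9556720a6a8d90c835ee49461a5cc0
noncomputable def c3bcc0P (u : ℕ) : ℕ := Nat.land (Nat.shiftRight c3bcc0Pd (Nat.mul u (nat_lit 5))) (nat_lit 31)
noncomputable def c3bcc0Qd : ℕ := nat_lit 0x13ac38ddeb4a14cac0eda04d32c880
noncomputable def c3bcc0Q (u : ℕ) : ℕ := Nat.land (Nat.shiftRight c3bcc0Qd (Nat.mul u (nat_lit 5))) (nat_lit 31)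
noncomputable def c3bcc0 : Lev := ⟨24, 4, c3bcc0D, c3bcc0P, c3bcc0Q⟩
noncomputable def c3btn4Fd : ℕ := nat_lit 0
noncomputable def c3btn4F (u : ℕ) : ℕ := Nat.land (Nat.shiftRight c3btn4Fd (Nat.mul u (nat_lit 1))) (nat_lit 1)
noncomputable def c3btn4 : Nd := ⟨c3btn4F, (nat_lit 4), (nat_lit 4), [], [((nat_lit 0), [])], []⟩
noncomputable def sW : List (List ℕ) := [[nat_lit 7, nat_lit 1, nat_lit 6, nat_lit 0, nat_lit 2, nat_lit 7, nat_lit 6, nat_lit 8, nat_lit 3, nat_lit 9, nat_lit 8, nat_lit 1, nat_lit 2, nat_lit 6],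
  [nat_lit 1, nat_lit 2, nat_lit 7, nat_lit 8, nat_lit 0, nat_lit 9, nat_lit 8, nat_lit 1, nat_lit 2, nat_lit 6, nat_lit 7, nat_lit 10, nat_lit 9, nat_lit 8, nat_lit 2, nat_lit 5, nat_lit 5, nat_lit 6, nat_lit 8],
  [nat_lit 0, nat_lit 2, nat_lit 6, nat_lit 2, nat_lit 7, nat_lit 6, nat_lit 1, nat_lit 8, nat_lit 1, nat_lit 3, nat_lit 9, nat_lit 8, nat_lit 2, nat_lit 4],
  [nat_lit 2, nat_lit 4, nat_lit 6, nat_lit 0, nat_lit 7, nat_lit 8, nat_lit 0, nat_lit 1, nat_lit 9, nat_lit 8, nat_lit 2, nat_lit 6]]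
def f (k i : ℕ) : ℕ := ([[3, 13, 14, 6, 9, 12, 0, 19, 1, 20, 10, 11, 22, 8, 15, 2, 7, 17, 18, 16, 4, 21, 5, 23], [2, 22, 21, 14, 8, 13, 12, 6, 19, 17, 9, 5, 7, 11, 16, 1, 3, 10, 20, 4, 23, 0, 15, 18], [8, 20, 5, 4, 15, 17, 19, 13, 7, 1, 14, 16, 12, 21, 3, 10, 9, 6, 18, 2, 11, 0, 22, 23], [11, 15, 20, 7, 4, 1, 3, 10, 13, 5, 0, 19, 14, 2, 18, 12, 16, 21, 9, 6, 17, 22, 8, 23]].getD k []).getD i 0

theorem md_b : ltAll 24 H15.MM24.B = 0 ∧ 244823040 ≠ 0 := by decide +kernel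
theorem p3t_lt : allL (ltAll 11) p3t_W = true := by decide +kernel
theorem p3_r_a : allZ2 (resEnt p3t_P p3P p3E p3I (nat_lit 24) (nat_lit 24)) (nat_lit 3) (nat_lit 24) = true := by decide +kernel
theorem p3_b : neL H15.MM24.B (p3B.map p3E) = 0 ∧ ltAll 24 p3B = 0 := by decide +kernel
theorem p3_p : allZ2 (pcEnt p3P (nat_lit 3) p3B p3C) 3 3 = true := by decide +kernel
theorem p3_e : allL (ltAll 3) p3e = true := by decide +kernel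
theorem p3l0_e_0 : allZ (dent p3l0 (wdsP p3P p3e) (nat_lit 24)) (nat_lit 0) (nat_lit 8) = true := by decide +kernel
theorem p3l0_h : 0 < p3l0.n ∧ 0 < p3l0.K ∧ p3l0.Pt 0 < 24 ∧ p3l0.Q (p3l0.Pt 0) = 0 := by decide +kernel
theorem p3l1_e_0 : allZ (dent p3l1 (wdsP p3P p3e) (nat_lit 24)) (nat_lit 0) (nat_lit 2) = true := by decide +kernel
theorem p3l1_h : 0 < p3l1.n ∧ 0 < p3l1.K ∧ p3l1.Pt 0 < 24 ∧ p3l1.Q (p3l1.Pt 0) = 0 := by decide +kernel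
theorem p3_f1 : (Nat.ble p3l1.K 13 && Nat.ble (topK []) p3l1.K && fixLetters (wdsP p3P p3e) (topK []) (p3l1.Pt 0)) = true := by decide +kernel
theorem p3_f0 : (Nat.ble p3l0.K 13 && Nat.ble (topK [p3l1]) p3l0.K && fixLetters (wdsP p3P p3e) (topK [p3l1]) (p3l0.Pt 0)) = true := by decide +kernel
theorem p3_c : chainCard [p3l0, p3l1] = 3 ^ 3 ∧ ¬ 3 ^ (3 + 1) ∣ 244823040 := by decide +kernel
theorem cov3r_lt : allL (ltAll 11) cov3r_W = true := by decide +kernel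
theorem cov3_c0 : (Nat.ble 3 3 && Nat.beq (ltAll 3 []) 0 && Nat.beq (cov3T0.chk H15.MM24.P p3P cov3r_P p3E 11 3 3 3 2 p3B 3 [] 0) 0) = true := by decide +kernel
theorem c3ax_lt : allL (ltAll 11) c3ax_W = true := by decide +kernel
theorem c3ath_lt : allL (ltAll 11) c3ath_W = true := by decide +kernel
theorem c3atl0_e_0 : allZ (dent c3atl0 c3ath_P (nat_lit 24)) (nat_lit 0) (nat_lit 23) = true := by decide +kernel
theorem c3atl0_h : 0 < c3atl0.n ∧ 0 < c3atl0.K ∧ c3atl0.Pt 0 < 24 ∧ c3atl0.Q (c3atl0.Pt 0) = 0 := by decide +kernel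
theorem c3atl1_e_0 : allZ (dent c3atl1 c3ath_P (nat_lit 24)) (nat_lit 0) (nat_lit 22) = true := by decide +kernel
theorem c3atl1_h : 0 < c3atl1.n ∧ 0 < c3atl1.K ∧ c3atl1.Pt 0 < 24 ∧ c3atl1.Q (c3atl1.Pt 0) = 0 := by decide +kernel
theorem c3atl2_e_0 : allZ (dent c3atl2 c3ath_P (nat_lit 24)) (nat_lit 0) (nat_lit 21) = true := by decide +kernel
theorem c3atl2_h : 0 < c3atl2.n ∧ 0 < c3atl2.K ∧ c3atl2.Pt 0 < 24 ∧ c3atl2.Q (c3atl2.Pt 0) = 0 := by decide +kernel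
theorem c3atl3_e_0 : allZ (dent c3atl3 c3ath_P (nat_lit 24)) (nat_lit 0) (nat_lit 20) = true := by decide +kernel
theorem c3atl3_h : 0 < c3atl3.n ∧ 0 < c3atl3.K ∧ c3atl3.Pt 0 < 24 ∧ c3atl3.Q (c3atl3.Pt 0) = 0 := by decide +kernel
theorem c3atl4_e_0 : allZ (dent c3atl4 c3ath_P (nat_lit 24)) (nat_lit 0) (nat_lit 19) = true := by decide +kernel
theorem c3atl4_h : 0 < c3atl4.n ∧ 0 < c3atl4.K ∧ c3atl4.Pt 0 < 24 ∧ c3atl4.Q (c3atl4.Pt 0) = 0 := by decide +kernel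
theorem c3atl5_e_0 : allZ (dent c3atl5 c3ath_P (nat_lit 24)) (nat_lit 0) (nat_lit 2) = true := by decide +kernel
theorem c3atl5_h : 0 < c3atl5.n ∧ 0 < c3atl5.K ∧ c3atl5.Pt 0 < 24 ∧ c3atl5.Q (c3atl5.Pt 0) = 0 := by decide +kernel
theorem c3atl6_e_0 : allZ (dent c3atl6 c3ath_P (nat_lit 24)) (nat_lit 0) (nat_lit 15) = true := by decide +kernel
theorem c3atl6_h : 0 < c3atl6.n ∧ 0 < c3atl6.K ∧ c3atl6.Pt 0 < 24 ∧ c3atl6.Q (c3atl6.Pt 0) = 0 := by decide +kernel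
theorem c3at_f6 : (Nat.ble c3atl6.K 21 && Nat.ble (topK []) c3atl6.K && fixLetters c3ath_P (topK []) (c3atl6.Pt 0)) = true := by decide +kernel
theorem c3at_f5 : (Nat.ble c3atl5.K 21 && Nat.ble (topK [c3atl6]) c3atl5.K && fixLetters c3ath_P (topK [c3atl6]) (c3atl5.Pt 0)) = true := by decide +kernel
theorem c3at_f4 : (Nat.ble c3atl4.K 21 && Nat.ble (topK [c3atl5, c3atl6]) c3atl4.K && fixLetters c3ath_P (topK [c3atl5, c3atl6]) (c3atl4.Pt 0)) = true := by decide +kernel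
theorem c3at_f3 : (Nat.ble c3atl3.K 21 && Nat.ble (topK [c3atl4, c3atl5, c3atl6]) c3atl3.K && fixLetters c3ath_P (topK [c3atl4, c3atl5, c3atl6]) (c3atl3.Pt 0)) = true := by decide +kernel
theorem c3at_f2 : (Nat.ble c3atl2.K 21 && Nat.ble (topK [c3atl3, c3atl4, c3atl5, c3atl6]) c3atl2.K && fixLetters c3ath_P (topK [c3atl3, c3atl4, c3atl5, c3atl6]) (c3atl2.Pt 0)) = true := by decide +kernel
theorem c3at_f1 : (Nat.ble c3atl1.K 21 && Nat.ble (topK [c3atl2, c3atl3, c3atl4, c3atl5, c3atl6]) c3atl1.K && fixLetters c3ath_P (topK [c3atl2, c3atl3, c3atl4, c3atl5, c3atl6]) (c3atl1.Pt 0)) = true := by decide +kernel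
theorem c3at_f0 : (Nat.ble c3atl0.K 21 && Nat.ble (topK [c3atl1, c3atl2, c3atl3, c3atl4, c3atl5, c3atl6]) c3atl0.K && fixLetters c3ath_P (topK [c3atl1, c3atl2, c3atl3, c3atl4, c3atl5, c3atl6]) (c3atl0.Pt 0)) = true := by decide +kernel
theorem c3at_c : chainCard [c3atl0, c3atl1, c3atl2, c3atl3, c3atl4, c3atl5, c3atl6] = 244823040 := by decide +kernel
theorem c3ace_lt : allL (ltAll 11) c3ace_W = true := by decide +kernel
theorem c3acc6_e_0 : allZ (dent c3acc6 c3ace_P (nat_lit 24)) (nat_lit 0) (nat_lit 3) = true := by decide +kernel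
theorem c3acc6_h : 0 < c3acc6.n ∧ 0 < c3acc6.K ∧ c3acc6.Pt 0 < 24 ∧ c3acc6.Q (c3acc6.Pt 0) = 0 := by decide +kernel
theorem c3atn0_0 : (Nat.ble c3atl6.K 21 && Nat.beq (ltAll 24 [c3atl5.Pt 0, c3atl4.Pt 0, c3atl3.Pt 0, c3atl2.Pt 0, c3atl1.Pt 0, c3atl0.Pt 0]) 0 && kChk c3ace_P c3ax_P c3atn0.Kn 1 H15.MM24.B [c3atl5.Pt 0, c3atl4.Pt 0, c3atl3.Pt 0, c3atl2.Pt 0, c3atl1.Pt 0, c3atl0.Pt 0] && allL (ltAll 1) c3atn0.pre && planOK c3ath_P c3ax_P 1 (c3atl6.Pt 0) c3atn0.plan [c3atl6]) = true := by decide +kernel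
theorem c3atn0_1_0 : allZ (c3atn0.ent H15.MM24.P c3ath_P c3ax_P c3ax_P c3ace_P (nat_lit 11) (nat_lit 1) H15.MM24.B c3atl6 [] (memO c3acc6)) (nat_lit 0) (nat_lit 16) = true := by decide +kernel
theorem c3ac_f6 : (Nat.ble c3acc6.K 16 && Nat.ble (topK []) c3acc6.K && Nat.beq (c3acc6.Pt 0) (c3atl6.Pt 0) && Nat.beq (ltAll 24 [c3atl5.Pt 0, c3atl4.Pt 0, c3atl3.Pt 0, c3atl2.Pt 0, c3atl1.Pt 0, c3atl0.Pt 0]) 0 && kChk c3ace_P c3ax_P c3acc6.K 1 H15.MM24.B [c3atl5.Pt 0, c3atl4.Pt 0, c3atl3.Pt 0, c3atl2.Pt 0, c3atl1.Pt 0, c3atl0.Pt 0]) = true := by decide +kernel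
theorem c3ac_f5 : (Nat.ble c3atl5.K 21 && Nat.blt (nat_lit 1) 24 && fixLetters c3ath_P c3atl5.K (nat_lit 1) && Nat.beq (ltAll 1 [nat_lit 0, nat_lit 0]) 0 && Nat.beq (apW c3ax_P [nat_lit 0, nat_lit 0] (nat_lit 1)) (c3atl5.Pt 0)) = true := by decide +kernel
theorem c3ac_f4 : (Nat.ble c3atl4.K 21 && Nat.blt (nat_lit 1) 24 && fixLetters c3ath_P c3atl4.K (nat_lit 1) && Nat.beq (ltAll 1 [nat_lit 0]) 0 && Nat.beq (apW c3ax_P [nat_lit 0] (nat_lit 1)) (c3atl4.Pt 0)) = true := by decide +kernel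
theorem c3acc3_e_0 : allZ (dent c3acc3 c3ace_P (nat_lit 24)) (nat_lit 0) (nat_lit 14) = true := by decide +kernel
theorem c3acc3_h : 0 < c3acc3.n ∧ 0 < c3acc3.K ∧ c3acc3.Pt 0 < 24 ∧ c3acc3.Q (c3acc3.Pt 0) = 0 := by decide +kernel
theorem c3atn1_0 : (Nat.ble c3atl3.K 21 && Nat.beq (ltAll 24 [c3atl2.Pt 0, c3atl1.Pt 0, c3atl0.Pt 0]) 0 && kChk c3ace_P c3ax_P c3atn1.Kn 1 H15.MM24.B [c3atl2.Pt 0, c3atl1.Pt 0, c3atl0.Pt 0] && allL (ltAll 1) c3atn1.pre && planOK c3ath_P c3ax_P 1 (c3atl3.Pt 0) c3atn1.plan [c3atl3, c3atl4, c3atl5, c3atl6]) = true := by decide +kernel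
theorem c3atn1_1_0 : allZ (c3atn1.ent H15.MM24.P c3ath_P c3ax_P c3ax_P c3ace_P (nat_lit 11) (nat_lit 1) H15.MM24.B c3atl3 [c3atl4, c3atl5, c3atl6] (memO c3acc3)) (nat_lit 0) (nat_lit 21) = true := by decide +kernel
theorem c3ac_f3 : (Nat.ble c3acc3.K 16 && Nat.ble (topK [c3acc6]) c3acc3.K && Nat.beq (c3acc3.Pt 0) (c3atl3.Pt 0) && Nat.beq (ltAll 24 [c3atl2.Pt 0, c3atl1.Pt 0, c3atl0.Pt 0]) 0 && kChk c3ace_P c3ax_P c3acc3.K 1 H15.MM24.B [c3atl2.Pt 0, c3atl1.Pt 0, c3atl0.Pt 0]) = true := by decide +kernel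
theorem c3ac_f2 : (Nat.ble c3atl2.K 21 && Nat.blt (nat_lit 0) 24 && fixLetters c3ath_P c3atl2.K (nat_lit 0) && Nat.beq (ltAll 1 [nat_lit 0, nat_lit 0]) 0 && Nat.beq (apW c3ax_P [nat_lit 0, nat_lit 0] (nat_lit 0)) (c3atl2.Pt 0)) = true := by decide +kernel
theorem c3ac_f1 : (Nat.ble c3atl1.K 21 && Nat.blt (nat_lit 0) 24 && fixLetters c3ath_P c3atl1.K (nat_lit 0) && Nat.beq (ltAll 1 [nat_lit 0]) 0 && Nat.beq (apW c3ax_P [nat_lit 0] (nat_lit 0)) (c3atl1.Pt 0)) = true := by decide +kernel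
theorem c3acc0_e_0 : allZ (dent c3acc0 c3ace_P (nat_lit 24)) (nat_lit 0) (nat_lit 17) = true := by decide +kernel
theorem c3acc0_h : 0 < c3acc0.n ∧ 0 < c3acc0.K ∧ c3acc0.Pt 0 < 24 ∧ c3acc0.Q (c3acc0.Pt 0) = 0 := by decide +kernel
theorem c3atn2_0 : (Nat.ble c3atl0.K 21 && Nat.beq (ltAll 24 []) 0 && kChk c3ace_P c3ax_P c3atn2.Kn 1 H15.MM24.B [] && allL (ltAll 1) c3atn2.pre && planOK c3ath_P c3ax_P 1 (c3atl0.Pt 0) c3atn2.plan [c3atl0, c3atl1, c3atl2, c3atl3, c3atl4, c3atl5, c3atl6]) = true := by decide +kernel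
theorem c3atn2_1_0 : allZ (c3atn2.ent H15.MM24.P c3ath_P c3ax_P c3ax_P c3ace_P (nat_lit 11) (nat_lit 1) H15.MM24.B c3atl0 [c3atl1, c3atl2, c3atl3, c3atl4, c3atl5, c3atl6] (memO c3acc0)) (nat_lit 0) (nat_lit 24) = true := by decide +kernel
theorem c3ac_f0 : (Nat.ble c3acc0.K 16 && Nat.ble (topK [c3acc3, c3acc6]) c3acc0.K && Nat.beq (c3acc0.Pt 0) (c3atl0.Pt 0) && Nat.beq (ltAll 24 []) 0 && kChk c3ace_P c3ax_P c3acc0.K 1 H15.MM24.B []) = true := by decide +kernel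
theorem c3ac_c : chainCard [c3acc0, c3acc3, c3acc6] = 1080 ∧ topK [c3acc0, c3acc3, c3acc6] = 16 := by decide +kernel
theorem c3bx_lt : allL (ltAll 11) c3bx_W = true := by decide +kernel
theorem c3bth_lt : allL (ltAll 11) c3bth_W = true := by decide +kernel
theorem c3btl0_e_0 : allZ (dent c3btl0 c3bth_P (nat_lit 24)) (nat_lit 0) (nat_lit 23) = true := by decide +kernel
theorem c3btl0_h : 0 < c3btl0.n ∧ 0 < c3btl0.K ∧ c3btl0.Pt 0 < 24 ∧ c3btl0.Q (c3btl0.Pt 0) = 0 := by decide +kernel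
theorem c3btl1_e_0 : allZ (dent c3btl1 c3bth_P (nat_lit 24)) (nat_lit 0) (nat_lit 22) = true := by decide +kernel
theorem c3btl1_h : 0 < c3btl1.n ∧ 0 < c3btl1.K ∧ c3btl1.Pt 0 < 24 ∧ c3btl1.Q (c3btl1.Pt 0) = 0 := by decide +kernel
theorem c3btl2_e_0 : allZ (dent c3btl2 c3bth_P (nat_lit 24)) (nat_lit 0) (nat_lit 21) = true := by decide +kernel
theorem c3btl2_h : 0 < c3btl2.n ∧ 0 < c3btl2.K ∧ c3btl2.Pt 0 < 24 ∧ c3btl2.Q (c3btl2.Pt 0) = 0 := by decide +kernel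
theorem c3btl3_e_0 : allZ (dent c3btl3 c3bth_P (nat_lit 24)) (nat_lit 0) (nat_lit 20) = true := by decide +kernel
theorem c3btl3_h : 0 < c3btl3.n ∧ 0 < c3btl3.K ∧ c3btl3.Pt 0 < 24 ∧ c3btl3.Q (c3btl3.Pt 0) = 0 := by decide +kernel
theorem c3btl4_e_0 : allZ (dent c3btl4 c3bth_P (nat_lit 24)) (nat_lit 0) (nat_lit 19) = true := by decide +kernel
theorem c3btl4_h : 0 < c3btl4.n ∧ 0 < c3btl4.K ∧ c3btl4.Pt 0 < 24 ∧ c3btl4.Q (c3btl4.Pt 0) = 0 := by decide +kernel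
theorem c3btl5_e_0 : allZ (dent c3btl5 c3bth_P (nat_lit 24)) (nat_lit 0) (nat_lit 15) = true := by decide +kernel
theorem c3btl5_h : 0 < c3btl5.n ∧ 0 < c3btl5.K ∧ c3btl5.Pt 0 < 24 ∧ c3btl5.Q (c3btl5.Pt 0) = 0 := by decide +kernel
theorem c3btl6_e_0 : allZ (dent c3btl6 c3bth_P (nat_lit 24)) (nat_lit 0) (nat_lit 2) = true := by decide +kernel
theorem c3btl6_h : 0 < c3btl6.n ∧ 0 < c3btl6.K ∧ c3btl6.Pt 0 < 24 ∧ c3btl6.Q (c3btl6.Pt 0) = 0 := by decide +kernel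
theorem c3bt_f6 : (Nat.ble c3btl6.K 16 && Nat.ble (topK []) c3btl6.K && fixLetters c3bth_P (topK []) (c3btl6.Pt 0)) = true := by decide +kernel
theorem c3bt_f5 : (Nat.ble c3btl5.K 16 && Nat.ble (topK [c3btl6]) c3btl5.K && fixLetters c3bth_P (topK [c3btl6]) (c3btl5.Pt 0)) = true := by decide +kernel
theorem c3bt_f4 : (Nat.ble c3btl4.K 16 && Nat.ble (topK [c3btl5, c3btl6]) c3btl4.K && fixLetters c3bth_P (topK [c3btl5, c3btl6]) (c3btl4.Pt 0)) = true := by decide +kernel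
theorem c3bt_f3 : (Nat.ble c3btl3.K 16 && Nat.ble (topK [c3btl4, c3btl5, c3btl6]) c3btl3.K && fixLetters c3bth_P (topK [c3btl4, c3btl5, c3btl6]) (c3btl3.Pt 0)) = true := by decide +kernel
theorem c3bt_f2 : (Nat.ble c3btl2.K 16 && Nat.ble (topK [c3btl3, c3btl4, c3btl5, c3btl6]) c3btl2.K && fixLetters c3bth_P (topK [c3btl3, c3btl4, c3btl5, c3btl6]) (c3btl2.Pt 0)) = true := by decide +kernel
theorem c3bt_f1 : (Nat.ble c3btl1.K 16 && Nat.ble (topK [c3btl2, c3btl3, c3btl4, c3btl5, c3btl6]) c3btl1.K && fixLetters c3bth_P (topK [c3btl2, c3btl3, c3btl4, c3btl5, c3btl6]) (c3btl1.Pt 0)) = true := by decide +kernel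
theorem c3bt_f0 : (Nat.ble c3btl0.K 16 && Nat.ble (topK [c3btl1, c3btl2, c3btl3, c3btl4, c3btl5, c3btl6]) c3btl0.K && fixLetters c3bth_P (topK [c3btl1, c3btl2, c3btl3, c3btl4, c3btl5, c3btl6]) (c3btl0.Pt 0)) = true := by decide +kernel
theorem c3bt_c : chainCard [c3btl0, c3btl1, c3btl2, c3btl3, c3btl4, c3btl5, c3btl6] = 244823040 := by decide +kernel
theorem c3bce_lt : allL (ltAll 11) c3bce_W = true := by decide +kernel
theorem c3bcc6_e_0 : allZ (dent c3bcc6 c3bce_P (nat_lit 24)) (nat_lit 0) (nat_lit 2) = true := by decide +kernel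
theorem c3bcc6_h : 0 < c3bcc6.n ∧ 0 < c3bcc6.K ∧ c3bcc6.Pt 0 < 24 ∧ c3bcc6.Q (c3bcc6.Pt 0) = 0 := by decide +kernel
theorem c3btn0_0 : (Nat.ble c3btl6.K 16 && Nat.beq (ltAll 24 [c3btl5.Pt 0, c3btl4.Pt 0, c3btl3.Pt 0, c3btl2.Pt 0, c3btl1.Pt 0, c3btl0.Pt 0]) 0 && kChk c3bce_P c3bx_P c3btn0.Kn 1 H15.MM24.B [c3btl5.Pt 0, c3btl4.Pt 0, c3btl3.Pt 0, c3btl2.Pt 0, c3btl1.Pt 0, c3btl0.Pt 0] && allL (ltAll 1) c3btn0.pre && planOK c3bth_P c3bx_P 1 (c3btl6.Pt 0) c3btn0.plan [c3btl6]) = true := by decide +kernel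
theorem c3btn0_1_0 : allZ (c3btn0.ent H15.MM24.P c3bth_P c3bx_P c3bx_P c3bce_P (nat_lit 11) (nat_lit 1) H15.MM24.B c3btl6 [] (memO c3bcc6)) (nat_lit 0) (nat_lit 3) = true := by decide +kernel
theorem c3bc_f6 : (Nat.ble c3bcc6.K 4 && Nat.ble (topK []) c3bcc6.K && Nat.beq (c3bcc6.Pt 0) (c3btl6.Pt 0) && Nat.beq (ltAll 24 [c3btl5.Pt 0, c3btl4.Pt 0, c3btl3.Pt 0, c3btl2.Pt 0, c3btl1.Pt 0, c3btl0.Pt 0]) 0 && kChk c3bce_P c3bx_P c3bcc6.K 1 H15.MM24.B [c3btl5.Pt 0, c3btl4.Pt 0, c3btl3.Pt 0, c3btl2.Pt 0, c3btl1.Pt 0, c3btl0.Pt 0]) = true := by decide +kernel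
theorem c3bc_f5 : (Nat.ble c3btl5.K 16 && Nat.blt (nat_lit 1) 24 && fixLetters c3bth_P c3btl5.K (nat_lit 1) && Nat.beq (ltAll 1 [nat_lit 0, nat_lit 0]) 0 && Nat.beq (apW c3bx_P [nat_lit 0, nat_lit 0] (nat_lit 1)) (c3btl5.Pt 0)) = true := by decide +kernel
theorem c3bc_f4 : (Nat.ble c3btl4.K 16 && Nat.blt (nat_lit 1) 24 && fixLetters c3bth_P c3btl4.K (nat_lit 1) && Nat.beq (ltAll 1 [nat_lit 0]) 0 && Nat.beq (apW c3bx_P [nat_lit 0] (nat_lit 1)) (c3btl4.Pt 0)) = true := by decide +kernel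
theorem c3bcc3_e_0 : allZ (dent c3bcc3 c3bce_P (nat_lit 24)) (nat_lit 0) (nat_lit 6) = true := by decide +kernel
theorem c3bcc3_h : 0 < c3bcc3.n ∧ 0 < c3bcc3.K ∧ c3bcc3.Pt 0 < 24 ∧ c3bcc3.Q (c3bcc3.Pt 0) = 0 := by decide +kernel
theorem c3btn1y7_lt : allL (ltAll 11) c3btn1y7_W = true := by decide +kernel
theorem c3btr2k_lt : allL (ltAll 11) c3btr2k_W = true := by decide +kernel
theorem c3btn2_0 : (Nat.ble c3btl6.K 16 && Nat.beq (ltAll 24 [c3btl5.Pt 0, c3btl4.Pt 0, c3btl3.Pt 0, c3btl2.Pt 0, c3btl1.Pt 0, c3btl0.Pt 0]) 0 && kChk c3btr2k_P c3btn1y7_P c3btn2.Kn 1 H15.MM24.B [c3btl5.Pt 0, c3btl4.Pt 0, c3btl3.Pt 0, c3btl2.Pt 0, c3btl1.Pt 0, c3btl0.Pt 0] && allL (ltAll 1) c3btn2.pre && planOK c3bth_P c3bx_P 1 (c3btl6.Pt 0) c3btn2.plan [c3btl6]) = true := by decide +kernel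
theorem c3btn2_1_0 : allZ (c3btn2.ent H15.MM24.P c3bth_P c3bx_P c3btn1y7_P c3btr2k_P (nat_lit 11) (nat_lit 1) H15.MM24.B c3btl6 [] (fun _ => nat_lit 1)) (nat_lit 0) (nat_lit 3) = true := by decide +kernel
theorem c3btn1y6_lt : allL (ltAll 11) c3btn1y6_W = true := by decide +kernel
theorem c3btr3k_lt : allL (ltAll 11) c3btr3k_W = true := by decide +kernel
theorem c3btn3_0 : (Nat.ble c3btl6.K 16 && Nat.beq (ltAll 24 [c3btl5.Pt 0, c3btl4.Pt 0, c3btl3.Pt 0, c3btl2.Pt 0, c3btl1.Pt 0, c3btl0.Pt 0]) 0 && kChk c3btr3k_P c3btn1y6_P c3btn3.Kn 1 H15.MM24.B [c3btl5.Pt 0, c3btl4.Pt 0, c3btl3.Pt 0, c3btl2.Pt 0, c3btl1.Pt 0, c3btl0.Pt 0] && allL (ltAll 1) c3btn3.pre && planOK c3bth_P c3bx_P 1 (c3btl6.Pt 0) c3btn3.plan [c3btl6]) = true := by decide +kernel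
theorem c3btn3_1_0 : allZ (c3btn3.ent H15.MM24.P c3bth_P c3bx_P c3btn1y6_P c3btr3k_P (nat_lit 11) (nat_lit 1) H15.MM24.B c3btl6 [] (fun _ => nat_lit 1)) (nat_lit 0) (nat_lit 3) = true := by decide +kernel
theorem c3btn1_0 : (Nat.ble c3btl3.K 16 && Nat.beq (ltAll 24 [c3btl2.Pt 0, c3btl1.Pt 0, c3btl0.Pt 0]) 0 && kChk c3bce_P c3bx_P c3btn1.Kn 1 H15.MM24.B [c3btl2.Pt 0, c3btl1.Pt 0, c3btl0.Pt 0] && allL (ltAll 1) c3btn1.pre && planOK c3bth_P c3bx_P 1 (c3btl3.Pt 0) c3btn1.plan [c3btl3, c3btl4, c3btl5, c3btl6]) = true := by decide +kernel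
theorem c3btn1_1_0 : allZ (c3btn1.ent H15.MM24.P c3bth_P c3bx_P c3bx_P c3bce_P (nat_lit 11) (nat_lit 1) H15.MM24.B c3btl3 [c3btl4, c3btl5, c3btl6] (memO c3bcc3)) (nat_lit 0) (nat_lit 21) = true := by decide +kernel
theorem c3bc_f3 : (Nat.ble c3bcc3.K 4 && Nat.ble (topK [c3bcc6]) c3bcc3.K && Nat.beq (c3bcc3.Pt 0) (c3btl3.Pt 0) && Nat.beq (ltAll 24 [c3btl2.Pt 0, c3btl1.Pt 0, c3btl0.Pt 0]) 0 && kChk c3bce_P c3bx_P c3bcc3.K 1 H15.MM24.B [c3btl2.Pt 0, c3btl1.Pt 0, c3btl0.Pt 0]) = true := by decide +kernel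
theorem c3bc_f2 : (Nat.ble c3btl2.K 16 && Nat.blt (nat_lit 0) 24 && fixLetters c3bth_P c3btl2.K (nat_lit 0) && Nat.beq (ltAll 1 [nat_lit 0, nat_lit 0]) 0 && Nat.beq (apW c3bx_P [nat_lit 0, nat_lit 0] (nat_lit 0)) (c3btl2.Pt 0)) = true := by decide +kernel
theorem c3bc_f1 : (Nat.ble c3btl1.K 16 && Nat.blt (nat_lit 0) 24 && fixLetters c3bth_P c3btl1.K (nat_lit 0) && Nat.beq (ltAll 1 [nat_lit 0]) 0 && Nat.beq (apW c3bx_P [nat_lit 0] (nat_lit 0)) (c3btl1.Pt 0)) = true := by decide +kernel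
theorem c3bcc0_e_0 : allZ (dent c3bcc0 c3bce_P (nat_lit 24)) (nat_lit 0) (nat_lit 23) = true := by decide +kernel
theorem c3bcc0_h : 0 < c3bcc0.n ∧ 0 < c3bcc0.K ∧ c3bcc0.Pt 0 < 24 ∧ c3bcc0.Q (c3bcc0.Pt 0) = 0 := by decide +kernel
theorem c3btn4_0 : (Nat.ble c3btl0.K 16 && Nat.beq (ltAll 24 []) 0 && kChk c3bce_P c3bx_P c3btn4.Kn 1 H15.MM24.B [] && allL (ltAll 1) c3btn4.pre && planOK c3bth_P c3bx_P 1 (c3btl0.Pt 0) c3btn4.plan [c3btl0, c3btl1, c3btl2, c3btl3, c3btl4, c3btl5, c3btl6]) = true := by decide +kernel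
theorem c3btn4_1_0 : allZ (c3btn4.ent H15.MM24.P c3bth_P c3bx_P c3bx_P c3bce_P (nat_lit 11) (nat_lit 1) H15.MM24.B c3btl0 [c3btl1, c3btl2, c3btl3, c3btl4, c3btl5, c3btl6] (memO c3bcc0)) (nat_lit 0) (nat_lit 24) = true := by decide +kernel
theorem c3bc_f0 : (Nat.ble c3bcc0.K 4 && Nat.ble (topK [c3bcc3, c3bcc6]) c3bcc0.K && Nat.beq (c3bcc0.Pt 0) (c3btl0.Pt 0) && Nat.beq (ltAll 24 []) 0 && kChk c3bce_P c3bx_P c3bcc0.K 1 H15.MM24.B []) = true := by decide +kernel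
theorem c3bc_c : chainCard [c3bcc0, c3bcc3, c3bcc6] = 504 ∧ topK [c3bcc0, c3bcc3, c3bcc6] = 4 := by decide +kernel
theorem sW_k : allL (ltAll 11) sW = true ∧ ∀ k < 4, ∀ i < 24, wdsP H15.MM24.P sW k i = f k i := by decide +kernel

theorem md {G : Type*} [Group G] (e : gen H15.MM24.g 11 ≃* G) :
    ∃ (_ : MulAction G (Cfsg.GolayPt)) (g : ℕ → G), Md g H15.pt H15.MM24.P 24 11 H15.MM24.B 244823040 ∧
      ∀ k < 11, (e.symm (g k)).1 = H15.MM24.g k :=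
  exists_md H15.MM24.act H15.MM24.inj H15.MM24.card H15.MM24.isBase md_b e
theorem p3t_act {G Ω : Type*} [Group G] [MulAction G Ω] {g : ℕ → G} {pt : ℕ → Ω}
    (M : Md g pt H15.MM24.P 24 11 H15.MM24.B 244823040) : Act (wds g p3t_W) pt p3t_P 24 3 :=
  M.wact p3t_lt
theorem p3_r : ∀ k < 3, ∀ i < 24, (resEnt p3t_P p3P p3E p3I (nat_lit 24) (nat_lit 24)) k i = 0 := allZ2_sound p3_r_a
theorem p3_sm {G Ω : Type*} [Group G] [MulAction G Ω] {g : ℕ → G} {pt : ℕ → Ω}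
    (M : Md g pt H15.MM24.P 24 11 H15.MM24.B 244823040) : Sm (wds g p3t_W) (fun i => pt (p3E i)) p3P 24 3 p3B ∧ ∀ i < 24, p3E i < 24 :=
  M.res (p3t_act M) (by decide) p3_r p3_b
theorem p3l0_e : ∀ i < 8, (dent p3l0 (wdsP p3P p3e) (nat_lit 24)) i = 0 := allZ_sound0 p3l0_e_0
theorem p3l0_ok : DOK p3l0 (wdsP p3P p3e) 24 := ⟨p3l0_h, p3l0_e⟩
theorem p3l1_e : ∀ i < 2, (dent p3l1 (wdsP p3P p3e) (nat_lit 24)) i = 0 := allZ_sound0 p3l1_e_0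
theorem p3l1_ok : DOK p3l1 (wdsP p3P p3e) 24 := ⟨p3l1_h, p3l1_e⟩
theorem p3_low {G Ω : Type*} [Group G] [MulAction G Ω] {g : ℕ → G} {pt : ℕ → Ω}
    (M : Md g pt H15.MM24.P 24 11 H15.MM24.B 244823040) : SLow (gi (wds (wds g p3t_W) p3e)) (fun i => pt (p3E i)) 24 [p3l0, p3l1] :=
  ((SLow.nil).cons p3l1_ok ((p3_sm M).1.act.wds p3_e 13) p3_f1).cons p3l0_ok ((p3_sm M).1.act.wds p3_e 13) p3_f0
theorem p3_pc {G Ω : Type*} [Group G] [MulAction G Ω] {g : ℕ → G} {pt : ℕ → Ω}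
    (M : Md g pt H15.MM24.P 24 11 H15.MM24.B 244823040) : PC (wds g p3t_W) 3 3 :=
  have := M.fin
  ((p3_sm M).1.pc0 (by decide) p3_p).pc (p3_low M) (p3_sm M).1.inj
    (fun k => evA_mem_gen _ (nth_lt p3_e k)) M.card ⟨by decide, p3_c⟩
theorem cov3r_act {G Ω : Type*} [Group G] [MulAction G Ω] {g : ℕ → G} {pt : ℕ → Ω}
    (M : Md g pt H15.MM24.P 24 11 H15.MM24.B 244823040) : Act (wds g cov3r_W) pt cov3r_P 24 2 :=
  M.wact cov3r_lt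
theorem cov3_0 {G Ω : Type*} [Group G] [MulAction G Ω] {g : ℕ → G} {pt : ℕ → Ω}
    (M : Md g pt H15.MM24.P 24 11 H15.MM24.B 244823040) : Cov (wds g p3t_W) (wds g cov3r_W) 3 2 3 (evA (wds g p3t_W) []) :=
  have := M.fin
  cov3T0.cov M (p3_sm M).1 (p3_sm M).2 (cov3r_act M) (p3_pc M) _ _ cov3_c0
theorem cov3 {G Ω : Type*} [Group G] [MulAction G Ω] {g : ℕ → G} {pt : ℕ → Ω}
    (M : Md g pt H15.MM24.P 24 11 H15.MM24.B 244823040) {y : G} {e : ℕ} (hy : y ^ 3 ^ e = 1) (hq : y ^ 3 = 1) : Good (wds g cov3r_W) 2 y :=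
  have := M.fin
  Cov.all (p3_pc M) (cov3_0 M) hy hq
theorem c3ax_act {G Ω : Type*} [Group G] [MulAction G Ω] {g : ℕ → G} {pt : ℕ → Ω}
    (M : Md g pt H15.MM24.P 24 11 H15.MM24.B 244823040) : Act (wds g c3ax_W) pt c3ax_P 24 1 :=
  M.wact c3ax_lt
theorem c3ath_act {G Ω : Type*} [Group G] [MulAction G Ω] {g : ℕ → G} {pt : ℕ → Ω}
    (M : Md g pt H15.MM24.P 24 11 H15.MM24.B 244823040) : Act (wds g c3ath_W) pt c3ath_P 24 21 :=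
  M.wact c3ath_lt
theorem c3atl0_e : ∀ i < 23, (dent c3atl0 c3ath_P (nat_lit 24)) i = 0 := allZ_sound0 c3atl0_e_0
theorem c3atl0_ok : DOK c3atl0 c3ath_P 24 := ⟨c3atl0_h, c3atl0_e⟩
theorem c3atl1_e : ∀ i < 22, (dent c3atl1 c3ath_P (nat_lit 24)) i = 0 := allZ_sound0 c3atl1_e_0
theorem c3atl1_ok : DOK c3atl1 c3ath_P 24 := ⟨c3atl1_h, c3atl1_e⟩
theorem c3atl2_e : ∀ i < 21, (dent c3atl2 c3ath_P (nat_lit 24)) i = 0 := allZ_sound0 c3atl2_e_0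
theorem c3atl2_ok : DOK c3atl2 c3ath_P 24 := ⟨c3atl2_h, c3atl2_e⟩
theorem c3atl3_e : ∀ i < 20, (dent c3atl3 c3ath_P (nat_lit 24)) i = 0 := allZ_sound0 c3atl3_e_0
theorem c3atl3_ok : DOK c3atl3 c3ath_P 24 := ⟨c3atl3_h, c3atl3_e⟩
theorem c3atl4_e : ∀ i < 19, (dent c3atl4 c3ath_P (nat_lit 24)) i = 0 := allZ_sound0 c3atl4_e_0
theorem c3atl4_ok : DOK c3atl4 c3ath_P 24 := ⟨c3atl4_h, c3atl4_e⟩
theorem c3atl5_e : ∀ i < 2, (dent c3atl5 c3ath_P (nat_lit 24)) i = 0 := allZ_sound0 c3atl5_e_0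
theorem c3atl5_ok : DOK c3atl5 c3ath_P 24 := ⟨c3atl5_h, c3atl5_e⟩
theorem c3atl6_e : ∀ i < 15, (dent c3atl6 c3ath_P (nat_lit 24)) i = 0 := allZ_sound0 c3atl6_e_0
theorem c3atl6_ok : DOK c3atl6 c3ath_P 24 := ⟨c3atl6_h, c3atl6_e⟩
theorem c3at_low {G Ω : Type*} [Group G] [MulAction G Ω] {g : ℕ → G} {pt : ℕ → Ω}
    (M : Md g pt H15.MM24.P 24 11 H15.MM24.B 244823040) : SLow (gi (wds g c3ath_W)) pt 24 [c3atl0, c3atl1, c3atl2, c3atl3, c3atl4, c3atl5, c3atl6] :=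
  (((((((SLow.nil).cons c3atl6_ok (c3ath_act M) c3at_f6).cons c3atl5_ok (c3ath_act M) c3at_f5).cons c3atl4_ok (c3ath_act M) c3at_f4).cons c3atl3_ok (c3ath_act M) c3at_f3).cons c3atl2_ok (c3ath_act M) c3at_f2).cons c3atl1_ok (c3ath_act M) c3at_f1).cons c3atl0_ok (c3ath_act M) c3at_f0
theorem c3at_S0 {G Ω : Type*} [Group G] [MulAction G Ω] {g : ℕ → G} {pt : ℕ → Ω}
    (M : Md g pt H15.MM24.P 24 11 H15.MM24.B 244823040) : Stage ⊤ (wds g c3ath_W) pt 24 [c3atl0, c3atl1, c3atl2, c3atl3, c3atl4, c3atl5, c3atl6] [] :=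
  M.stage (c3at_low M) c3at_c
theorem c3at_S1 {G Ω : Type*} [Group G] [MulAction G Ω] {g : ℕ → G} {pt : ℕ → Ω}
    (M : Md g pt H15.MM24.P 24 11 H15.MM24.B 244823040) : Stage ⊤ (wds g c3ath_W) pt 24 [c3atl1, c3atl2, c3atl3, c3atl4, c3atl5, c3atl6] [c3atl0.Pt 0] :=
  (c3at_S0 M).next
theorem c3at_S2 {G Ω : Type*} [Group G] [MulAction G Ω] {g : ℕ → G} {pt : ℕ → Ω}
    (M : Md g pt H15.MM24.P 24 11 H15.MM24.B 244823040) : Stage ⊤ (wds g c3ath_W) pt 24 [c3atl2, c3atl3, c3atl4, c3atl5, c3atl6] [c3atl1.Pt 0, c3atl0.Pt 0] :=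
  (c3at_S1 M).next
theorem c3at_S3 {G Ω : Type*} [Group G] [MulAction G Ω] {g : ℕ → G} {pt : ℕ → Ω}
    (M : Md g pt H15.MM24.P 24 11 H15.MM24.B 244823040) : Stage ⊤ (wds g c3ath_W) pt 24 [c3atl3, c3atl4, c3atl5, c3atl6] [c3atl2.Pt 0, c3atl1.Pt 0, c3atl0.Pt 0] :=
  (c3at_S2 M).next
theorem c3at_S4 {G Ω : Type*} [Group G] [MulAction G Ω] {g : ℕ → G} {pt : ℕ → Ω}
    (M : Md g pt H15.MM24.P 24 11 H15.MM24.B 244823040) : Stage ⊤ (wds g c3ath_W) pt 24 [c3atl4, c3atl5, c3atl6] [c3atl3.Pt 0, c3atl2.Pt 0, c3atl1.Pt 0, c3atl0.Pt 0] :=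
  (c3at_S3 M).next
theorem c3at_S5 {G Ω : Type*} [Group G] [MulAction G Ω] {g : ℕ → G} {pt : ℕ → Ω}
    (M : Md g pt H15.MM24.P 24 11 H15.MM24.B 244823040) : Stage ⊤ (wds g c3ath_W) pt 24 [c3atl5, c3atl6] [c3atl4.Pt 0, c3atl3.Pt 0, c3atl2.Pt 0, c3atl1.Pt 0, c3atl0.Pt 0] :=
  (c3at_S4 M).next
theorem c3at_S6 {G Ω : Type*} [Group G] [MulAction G Ω] {g : ℕ → G} {pt : ℕ → Ω}
    (M : Md g pt H15.MM24.P 24 11 H15.MM24.B 244823040) : Stage ⊤ (wds g c3ath_W) pt 24 [c3atl6] [c3atl5.Pt 0, c3atl4.Pt 0, c3atl3.Pt 0, c3atl2.Pt 0, c3atl1.Pt 0, c3atl0.Pt 0] :=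
  (c3at_S5 M).next
theorem c3at_S7 {G Ω : Type*} [Group G] [MulAction G Ω] {g : ℕ → G} {pt : ℕ → Ω}
    (M : Md g pt H15.MM24.P 24 11 H15.MM24.B 244823040) : Stage ⊤ (wds g c3ath_W) pt 24 [] [c3atl6.Pt 0, c3atl5.Pt 0, c3atl4.Pt 0, c3atl3.Pt 0, c3atl2.Pt 0, c3atl1.Pt 0, c3atl0.Pt 0] :=
  (c3at_S6 M).next
theorem c3ace_act {G Ω : Type*} [Group G] [MulAction G Ω] {g : ℕ → G} {pt : ℕ → Ω}
    (M : Md g pt H15.MM24.P 24 11 H15.MM24.B 244823040) : Act (wds g c3ace_W) pt c3ace_P 24 16 :=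
  M.wact c3ace_lt
theorem c3acc6_e : ∀ i < 3, (dent c3acc6 c3ace_P (nat_lit 24)) i = 0 := allZ_sound0 c3acc6_e_0
theorem c3acc6_ok : DOK c3acc6 c3ace_P 24 := ⟨c3acc6_h, c3acc6_e⟩
theorem c3atn0_1 : ∀ i < 16, (c3atn0.ent H15.MM24.P c3ath_P c3ax_P c3ax_P c3ace_P (nat_lit 11) (nat_lit 1) H15.MM24.B c3atl6 [] (memO c3acc6)) i = 0 := allZ_sound0 c3atn0_1_0
theorem c3atn0_t {G Ω : Type*} [Group G] [MulAction G Ω] {g : ℕ → G} {pt : ℕ → Ω}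
    (M : Md g pt H15.MM24.P 24 11 H15.MM24.B 244823040) : TrO (gen (wds g c3ath_W) c3atl6.K) (wds g c3ax_W) (wds g c3ax_W) 1 pt 24 (c3atl6.Pt 0) (memO c3acc6) :=
  node M (c3at_S6 M) (c3ath_act M) (c3ax_act M) (c3ax_act M) c3atn0 ((c3ace_act M).mono (by decide)) (fun _ _ => trivial) c3atn0_0 c3atn0_1 (List.forall_mem_nil _)
theorem c3acc3_e : ∀ i < 14, (dent c3acc3 c3ace_P (nat_lit 24)) i = 0 := allZ_sound0 c3acc3_e_0
theorem c3acc3_ok : DOK c3acc3 c3ace_P 24 := ⟨c3acc3_h, c3acc3_e⟩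
theorem c3atn1_1 : ∀ i < 21, (c3atn1.ent H15.MM24.P c3ath_P c3ax_P c3ax_P c3ace_P (nat_lit 11) (nat_lit 1) H15.MM24.B c3atl3 [c3atl4, c3atl5, c3atl6] (memO c3acc3)) i = 0 := allZ_sound0 c3atn1_1_0
theorem c3atn1_t {G Ω : Type*} [Group G] [MulAction G Ω] {g : ℕ → G} {pt : ℕ → Ω}
    (M : Md g pt H15.MM24.P 24 11 H15.MM24.B 244823040) : TrO (gen (wds g c3ath_W) c3atl3.K) (wds g c3ax_W) (wds g c3ax_W) 1 pt 24 (c3atl3.Pt 0) (memO c3acc3) :=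
  node M (c3at_S3 M) (c3ath_act M) (c3ax_act M) (c3ax_act M) c3atn1 ((c3ace_act M).mono (by decide)) (fun _ _ => trivial) c3atn1_0 c3atn1_1 (List.forall_mem_nil _)
theorem c3acc0_e : ∀ i < 17, (dent c3acc0 c3ace_P (nat_lit 24)) i = 0 := allZ_sound0 c3acc0_e_0
theorem c3acc0_ok : DOK c3acc0 c3ace_P 24 := ⟨c3acc0_h, c3acc0_e⟩
theorem c3atn2_1 : ∀ i < 24, (c3atn2.ent H15.MM24.P c3ath_P c3ax_P c3ax_P c3ace_P (nat_lit 11) (nat_lit 1) H15.MM24.B c3atl0 [c3atl1, c3atl2, c3atl3, c3atl4, c3atl5, c3atl6] (memO c3acc0)) i = 0 := allZ_sound0 c3atn2_1_0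
theorem c3atn2_t {G Ω : Type*} [Group G] [MulAction G Ω] {g : ℕ → G} {pt : ℕ → Ω}
    (M : Md g pt H15.MM24.P 24 11 H15.MM24.B 244823040) : TrO (gen (wds g c3ath_W) c3atl0.K) (wds g c3ax_W) (wds g c3ax_W) 1 pt 24 (c3atl0.Pt 0) (memO c3acc0) :=
  node M (c3at_S0 M) (c3ath_act M) (c3ax_act M) (c3ax_act M) c3atn2 ((c3ace_act M).mono (by decide)) (fun _ _ => trivial) c3atn2_0 c3atn2_1 (List.forall_mem_nil _)
theorem c3ac {G Ω : Type*} [Group G] [MulAction G Ω] {g : ℕ → G} {pt : ℕ → Ω}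
    (M : Md g pt H15.MM24.P 24 11 H15.MM24.B 244823040) : Cen ⊤ (wds g c3ax_W) 1 (wds g c3ace_W) pt 24 [c3acc0, c3acc3, c3acc6] :=
  (c3at_S0 M).top ▸ Cen.lev M (c3at_S0 M) (Cen.triv (c3at_S1 M) (Cen.triv (c3at_S2 M) (Cen.lev M (c3at_S3 M) (Cen.triv (c3at_S4 M) (Cen.triv (c3at_S5 M) (Cen.lev M (c3at_S6 M) (Cen.bot) (c3atn0_t M) (c3ax_act M) (c3ace_act M) (fun _ _ => trivial) c3acc6_ok c3ac_f6) (forced (c3at_S5 M) (c3ath_act M) (c3ax_act M) _ _ c3ac_f5)) (forced (c3at_S4 M) (c3ath_act M) (c3ax_act M) _ _ c3ac_f4)) (c3atn1_t M) (c3ax_act M) (c3ace_act M) (fun _ _ => trivial) c3acc3_ok c3ac_f3) (forced (c3at_S2 M) (c3ath_act M) (c3ax_act M) _ _ c3ac_f2)) (forced (c3at_S1 M) (c3ath_act M) (c3ax_act M) _ _ c3ac_f1)) (c3atn2_t M) (c3ax_act M) (c3ace_act M) (fun _ _ => trivial) c3acc0_ok c3ac_f0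
theorem c3ac_card {G Ω : Type*} [Group G] [MulAction G Ω] {g : ℕ → G} {pt : ℕ → Ω}
    (M : Md g pt H15.MM24.P 24 11 H15.MM24.B 244823040) : Nat.card (Subgroup.centralizer {(wds g c3ax_W) 0}) = 1080 :=
  (c3ac M).card_cent1 M.inj c3ac_c.1
theorem c3ac_eq {G Ω : Type*} [Group G] [MulAction G Ω] {g : ℕ → G} {pt : ℕ → Ω}
    (M : Md g pt H15.MM24.P 24 11 H15.MM24.B 244823040) : Subgroup.centralizer (gen (wds g c3ax_W) 1) = gen (wds g c3ace_W) 16 ∧ Nat.card (gen (wds g c3ace_W) 16) = 1080 :=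
  c3ac_c.1 ▸ c3ac_c.2 ▸ ⟨(c3ac M).cent, (c3ac M).card M.inj⟩
theorem c3a {G Ω : Type*} [Group G] [MulAction G Ω] {g : ℕ → G} {pt : ℕ → Ω}
    (M : Md g pt H15.MM24.P 24 11 H15.MM24.B 244823040) : Nat.card (Subgroup.centralizer {(wds g cov3r_W) 0}) = 1080 :=
  c3ac_card M
theorem c3bx_act {G Ω : Type*} [Group G] [MulAction G Ω] {g : ℕ → G} {pt : ℕ → Ω}
    (M : Md g pt H15.MM24.P 24 11 H15.MM24.B 244823040) : Act (wds g c3bx_W) pt c3bx_P 24 1 :=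
  M.wact c3bx_lt
theorem c3bth_act {G Ω : Type*} [Group G] [MulAction G Ω] {g : ℕ → G} {pt : ℕ → Ω}
    (M : Md g pt H15.MM24.P 24 11 H15.MM24.B 244823040) : Act (wds g c3bth_W) pt c3bth_P 24 16 :=
  M.wact c3bth_lt
theorem c3btl0_e : ∀ i < 23, (dent c3btl0 c3bth_P (nat_lit 24)) i = 0 := allZ_sound0 c3btl0_e_0
theorem c3btl0_ok : DOK c3btl0 c3bth_P 24 := ⟨c3btl0_h, c3btl0_e⟩
theorem c3btl1_e : ∀ i < 22, (dent c3btl1 c3bth_P (nat_lit 24)) i = 0 := allZ_sound0 c3btl1_e_0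
theorem c3btl1_ok : DOK c3btl1 c3bth_P 24 := ⟨c3btl1_h, c3btl1_e⟩
theorem c3btl2_e : ∀ i < 21, (dent c3btl2 c3bth_P (nat_lit 24)) i = 0 := allZ_sound0 c3btl2_e_0
theorem c3btl2_ok : DOK c3btl2 c3bth_P 24 := ⟨c3btl2_h, c3btl2_e⟩
theorem c3btl3_e : ∀ i < 20, (dent c3btl3 c3bth_P (nat_lit 24)) i = 0 := allZ_sound0 c3btl3_e_0
theorem c3btl3_ok : DOK c3btl3 c3bth_P 24 := ⟨c3btl3_h, c3btl3_e⟩
theorem c3btl4_e : ∀ i < 19, (dent c3btl4 c3bth_P (nat_lit 24)) i = 0 := allZ_sound0 c3btl4_e_0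
theorem c3btl4_ok : DOK c3btl4 c3bth_P 24 := ⟨c3btl4_h, c3btl4_e⟩
theorem c3btl5_e : ∀ i < 15, (dent c3btl5 c3bth_P (nat_lit 24)) i = 0 := allZ_sound0 c3btl5_e_0
theorem c3btl5_ok : DOK c3btl5 c3bth_P 24 := ⟨c3btl5_h, c3btl5_e⟩
theorem c3btl6_e : ∀ i < 2, (dent c3btl6 c3bth_P (nat_lit 24)) i = 0 := allZ_sound0 c3btl6_e_0
theorem c3btl6_ok : DOK c3btl6 c3bth_P 24 := ⟨c3btl6_h, c3btl6_e⟩
theorem c3bt_low {G Ω : Type*} [Group G] [MulAction G Ω] {g : ℕ → G} {pt : ℕ → Ω}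
    (M : Md g pt H15.MM24.P 24 11 H15.MM24.B 244823040) : SLow (gi (wds g c3bth_W)) pt 24 [c3btl0, c3btl1, c3btl2, c3btl3, c3btl4, c3btl5, c3btl6] :=
  (((((((SLow.nil).cons c3btl6_ok (c3bth_act M) c3bt_f6).cons c3btl5_ok (c3bth_act M) c3bt_f5).cons c3btl4_ok (c3bth_act M) c3bt_f4).cons c3btl3_ok (c3bth_act M) c3bt_f3).cons c3btl2_ok (c3bth_act M) c3bt_f2).cons c3btl1_ok (c3bth_act M) c3bt_f1).cons c3btl0_ok (c3bth_act M) c3bt_f0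
theorem c3bt_S0 {G Ω : Type*} [Group G] [MulAction G Ω] {g : ℕ → G} {pt : ℕ → Ω}
    (M : Md g pt H15.MM24.P 24 11 H15.MM24.B 244823040) : Stage ⊤ (wds g c3bth_W) pt 24 [c3btl0, c3btl1, c3btl2, c3btl3, c3btl4, c3btl5, c3btl6] [] :=
  M.stage (c3bt_low M) c3bt_c
theorem c3bt_S1 {G Ω : Type*} [Group G] [MulAction G Ω] {g : ℕ → G} {pt : ℕ → Ω}
    (M : Md g pt H15.MM24.P 24 11 H15.MM24.B 244823040) : Stage ⊤ (wds g c3bth_W) pt 24 [c3btl1, c3btl2, c3btl3, c3btl4, c3btl5, c3btl6] [c3btl0.Pt 0] :=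
  (c3bt_S0 M).next
theorem c3bt_S2 {G Ω : Type*} [Group G] [MulAction G Ω] {g : ℕ → G} {pt : ℕ → Ω}
    (M : Md g pt H15.MM24.P 24 11 H15.MM24.B 244823040) : Stage ⊤ (wds g c3bth_W) pt 24 [c3btl2, c3btl3, c3btl4, c3btl5, c3btl6] [c3btl1.Pt 0, c3btl0.Pt 0] :=
  (c3bt_S1 M).next
theorem c3bt_S3 {G Ω : Type*} [Group G] [MulAction G Ω] {g : ℕ → G} {pt : ℕ → Ω}
    (M : Md g pt H15.MM24.P 24 11 H15.MM24.B 244823040) : Stage ⊤ (wds g c3bth_W) pt 24 [c3btl3, c3btl4, c3btl5, c3btl6] [c3btl2.Pt 0, c3btl1.Pt 0, c3btl0.Pt 0] :=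
  (c3bt_S2 M).next
theorem c3bt_S4 {G Ω : Type*} [Group G] [MulAction G Ω] {g : ℕ → G} {pt : ℕ → Ω}
    (M : Md g pt H15.MM24.P 24 11 H15.MM24.B 244823040) : Stage ⊤ (wds g c3bth_W) pt 24 [c3btl4, c3btl5, c3btl6] [c3btl3.Pt 0, c3btl2.Pt 0, c3btl1.Pt 0, c3btl0.Pt 0] :=
  (c3bt_S3 M).next
theorem c3bt_S5 {G Ω : Type*} [Group G] [MulAction G Ω] {g : ℕ → G} {pt : ℕ → Ω}
    (M : Md g pt H15.MM24.P 24 11 H15.MM24.B 244823040) : Stage ⊤ (wds g c3bth_W) pt 24 [c3btl5, c3btl6] [c3btl4.Pt 0, c3btl3.Pt 0, c3btl2.Pt 0, c3btl1.Pt 0, c3btl0.Pt 0] :=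
  (c3bt_S4 M).next
theorem c3bt_S6 {G Ω : Type*} [Group G] [MulAction G Ω] {g : ℕ → G} {pt : ℕ → Ω}
    (M : Md g pt H15.MM24.P 24 11 H15.MM24.B 244823040) : Stage ⊤ (wds g c3bth_W) pt 24 [c3btl6] [c3btl5.Pt 0, c3btl4.Pt 0, c3btl3.Pt 0, c3btl2.Pt 0, c3btl1.Pt 0, c3btl0.Pt 0] :=
  (c3bt_S5 M).next
theorem c3bt_S7 {G Ω : Type*} [Group G] [MulAction G Ω] {g : ℕ → G} {pt : ℕ → Ω}
    (M : Md g pt H15.MM24.P 24 11 H15.MM24.B 244823040) : Stage ⊤ (wds g c3bth_W) pt 24 [] [c3btl6.Pt 0, c3btl5.Pt 0, c3btl4.Pt 0, c3btl3.Pt 0, c3btl2.Pt 0, c3btl1.Pt 0, c3btl0.Pt 0] :=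
  (c3bt_S6 M).next
theorem c3bce_act {G Ω : Type*} [Group G] [MulAction G Ω] {g : ℕ → G} {pt : ℕ → Ω}
    (M : Md g pt H15.MM24.P 24 11 H15.MM24.B 244823040) : Act (wds g c3bce_W) pt c3bce_P 24 4 :=
  M.wact c3bce_lt
theorem c3bcc6_e : ∀ i < 2, (dent c3bcc6 c3bce_P (nat_lit 24)) i = 0 := allZ_sound0 c3bcc6_e_0
theorem c3bcc6_ok : DOK c3bcc6 c3bce_P 24 := ⟨c3bcc6_h, c3bcc6_e⟩
theorem c3btn0_1 : ∀ i < 3, (c3btn0.ent H15.MM24.P c3bth_P c3bx_P c3bx_P c3bce_P (nat_lit 11) (nat_lit 1) H15.MM24.B c3btl6 [] (memO c3bcc6)) i = 0 := allZ_sound0 c3btn0_1_0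
theorem c3btn0_t {G Ω : Type*} [Group G] [MulAction G Ω] {g : ℕ → G} {pt : ℕ → Ω}
    (M : Md g pt H15.MM24.P 24 11 H15.MM24.B 244823040) : TrO (gen (wds g c3bth_W) c3btl6.K) (wds g c3bx_W) (wds g c3bx_W) 1 pt 24 (c3btl6.Pt 0) (memO c3bcc6) :=
  node M (c3bt_S6 M) (c3bth_act M) (c3bx_act M) (c3bx_act M) c3btn0 ((c3bce_act M).mono (by decide)) (fun _ _ => trivial) c3btn0_0 c3btn0_1 (List.forall_mem_nil _)
theorem c3bcc3_e : ∀ i < 6, (dent c3bcc3 c3bce_P (nat_lit 24)) i = 0 := allZ_sound0 c3bcc3_e_0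
theorem c3bcc3_ok : DOK c3bcc3 c3bce_P 24 := ⟨c3bcc3_h, c3bcc3_e⟩
theorem c3btn1y7_act {G Ω : Type*} [Group G] [MulAction G Ω] {g : ℕ → G} {pt : ℕ → Ω}
    (M : Md g pt H15.MM24.P 24 11 H15.MM24.B 244823040) : Act (wds g c3btn1y7_W) pt c3btn1y7_P 24 1 :=
  M.wact c3btn1y7_lt
theorem c3btr2k_act {G Ω : Type*} [Group G] [MulAction G Ω] {g : ℕ → G} {pt : ℕ → Ω}
    (M : Md g pt H15.MM24.P 24 11 H15.MM24.B 244823040) : Act (wds g c3btr2k_W) pt c3btr2k_P 24 2 :=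
  M.wact c3btr2k_lt
theorem c3btn2_1 : ∀ i < 3, (c3btn2.ent H15.MM24.P c3bth_P c3bx_P c3btn1y7_P c3btr2k_P (nat_lit 11) (nat_lit 1) H15.MM24.B c3btl6 [] (fun _ => nat_lit 1)) i = 0 := allZ_sound0 c3btn2_1_0
theorem c3btn2_t {G Ω : Type*} [Group G] [MulAction G Ω] {g : ℕ → G} {pt : ℕ → Ω}
    (M : Md g pt H15.MM24.P 24 11 H15.MM24.B 244823040) : TrO (gen (wds g c3bth_W) c3btl6.K) (wds g c3bx_W) (wds g c3btn1y7_W) 1 pt 24 (c3btl6.Pt 0) (fun _ => nat_lit 1) :=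
  node M (c3bt_S6 M) (c3bth_act M) (c3bx_act M) (c3btn1y7_act M) c3btn2 ((c3btr2k_act M).mono (by decide)) (fun _ _ => trivial) c3btn2_0 c3btn2_1 (List.forall_mem_nil _)
theorem c3btr2 {G Ω : Type*} [Group G] [MulAction G Ω] {g : ℕ → G} {pt : ℕ → Ω}
    (M : Md g pt H15.MM24.P 24 11 H15.MM24.B 244823040) : Ref (gen (wds g c3bth_W) (topK [c3btl6])) (wds g c3bx_W) (wds g c3btn1y7_W) 1 :=
  (c3btn2_t M).ref
theorem c3btn1y6_act {G Ω : Type*} [Group G] [MulAction G Ω] {g : ℕ → G} {pt : ℕ → Ω}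
    (M : Md g pt H15.MM24.P 24 11 H15.MM24.B 244823040) : Act (wds g c3btn1y6_W) pt c3btn1y6_P 24 1 :=
  M.wact c3btn1y6_lt
theorem c3btr3k_act {G Ω : Type*} [Group G] [MulAction G Ω] {g : ℕ → G} {pt : ℕ → Ω}
    (M : Md g pt H15.MM24.P 24 11 H15.MM24.B 244823040) : Act (wds g c3btr3k_W) pt c3btr3k_P 24 2 :=
  M.wact c3btr3k_lt
theorem c3btn3_1 : ∀ i < 3, (c3btn3.ent H15.MM24.P c3bth_P c3bx_P c3btn1y6_P c3btr3k_P (nat_lit 11) (nat_lit 1) H15.MM24.B c3btl6 [] (fun _ => nat_lit 1)) i = 0 := allZ_sound0 c3btn3_1_0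
theorem c3btn3_t {G Ω : Type*} [Group G] [MulAction G Ω] {g : ℕ → G} {pt : ℕ → Ω}
    (M : Md g pt H15.MM24.P 24 11 H15.MM24.B 244823040) : TrO (gen (wds g c3bth_W) c3btl6.K) (wds g c3bx_W) (wds g c3btn1y6_W) 1 pt 24 (c3btl6.Pt 0) (fun _ => nat_lit 1) :=
  node M (c3bt_S6 M) (c3bth_act M) (c3bx_act M) (c3btn1y6_act M) c3btn3 ((c3btr3k_act M).mono (by decide)) (fun _ _ => trivial) c3btn3_0 c3btn3_1 (List.forall_mem_nil _)
theorem c3btr3 {G Ω : Type*} [Group G] [MulAction G Ω] {g : ℕ → G} {pt : ℕ → Ω}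
    (M : Md g pt H15.MM24.P 24 11 H15.MM24.B 244823040) : Ref (gen (wds g c3bth_W) (topK [c3btl6])) (wds g c3bx_W) (wds g c3btn1y6_W) 1 :=
  (c3btn3_t M).ref
theorem c3btn1_1 : ∀ i < 21, (c3btn1.ent H15.MM24.P c3bth_P c3bx_P c3bx_P c3bce_P (nat_lit 11) (nat_lit 1) H15.MM24.B c3btl3 [c3btl4, c3btl5, c3btl6] (memO c3bcc3)) i = 0 := allZ_sound0 c3btn1_1_0
theorem c3btn1_t {G Ω : Type*} [Group G] [MulAction G Ω] {g : ℕ → G} {pt : ℕ → Ω}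
    (M : Md g pt H15.MM24.P 24 11 H15.MM24.B 244823040) : TrO (gen (wds g c3bth_W) c3btl3.K) (wds g c3bx_W) (wds g c3bx_W) 1 pt 24 (c3btl3.Pt 0) (memO c3bcc3) :=
  node M (c3bt_S3 M) (c3bth_act M) (c3bx_act M) (c3bx_act M) c3btn1 ((c3bce_act M).mono (by decide)) (fun _ _ => trivial) c3btn1_0 c3btn1_1 (List.forall_mem_cons.2 ⟨c3btr2 M, List.forall_mem_cons.2 ⟨c3btr3 M, List.forall_mem_nil _⟩⟩)
theorem c3bcc0_e : ∀ i < 23, (dent c3bcc0 c3bce_P (nat_lit 24)) i = 0 := allZ_sound0 c3bcc0_e_0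
theorem c3bcc0_ok : DOK c3bcc0 c3bce_P 24 := ⟨c3bcc0_h, c3bcc0_e⟩
theorem c3btn4_1 : ∀ i < 24, (c3btn4.ent H15.MM24.P c3bth_P c3bx_P c3bx_P c3bce_P (nat_lit 11) (nat_lit 1) H15.MM24.B c3btl0 [c3btl1, c3btl2, c3btl3, c3btl4, c3btl5, c3btl6] (memO c3bcc0)) i = 0 := allZ_sound0 c3btn4_1_0
theorem c3btn4_t {G Ω : Type*} [Group G] [MulAction G Ω] {g : ℕ → G} {pt : ℕ → Ω}
    (M : Md g pt H15.MM24.P 24 11 H15.MM24.B 244823040) : TrO (gen (wds g c3bth_W) c3btl0.K) (wds g c3bx_W) (wds g c3bx_W) 1 pt 24 (c3btl0.Pt 0) (memO c3bcc0) :=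
  node M (c3bt_S0 M) (c3bth_act M) (c3bx_act M) (c3bx_act M) c3btn4 ((c3bce_act M).mono (by decide)) (fun _ _ => trivial) c3btn4_0 c3btn4_1 (List.forall_mem_nil _)
theorem c3bc {G Ω : Type*} [Group G] [MulAction G Ω] {g : ℕ → G} {pt : ℕ → Ω}
    (M : Md g pt H15.MM24.P 24 11 H15.MM24.B 244823040) : Cen ⊤ (wds g c3bx_W) 1 (wds g c3bce_W) pt 24 [c3bcc0, c3bcc3, c3bcc6] :=
  (c3bt_S0 M).top ▸ Cen.lev M (c3bt_S0 M) (Cen.triv (c3bt_S1 M) (Cen.triv (c3bt_S2 M) (Cen.lev M (c3bt_S3 M) (Cen.triv (c3bt_S4 M) (Cen.triv (c3bt_S5 M) (Cen.lev M (c3bt_S6 M) (Cen.bot) (c3btn0_t M) (c3bx_act M) (c3bce_act M) (fun _ _ => trivial) c3bcc6_ok c3bc_f6) (forced (c3bt_S5 M) (c3bth_act M) (c3bx_act M) _ _ c3bc_f5)) (forced (c3bt_S4 M) (c3bth_act M) (c3bx_act M) _ _ c3bc_f4)) (c3btn1_t M) (c3bx_act M) (c3bce_act M) (fun _ _ => trivial) c3bcc3_ok c3bc_f3) (forced (c3bt_S2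 M) (c3bth_act M) (c3bx_act M) _ _ c3bc_f2)) (forced (c3bt_S1 M) (c3bth_act M) (c3bx_act M) _ _ c3bc_f1)) (c3btn4_t M) (c3bx_act M) (c3bce_act M) (fun _ _ => trivial) c3bcc0_ok c3bc_f0
theorem c3bc_card {G Ω : Type*} [Group G] [MulAction G Ω] {g : ℕ → G} {pt : ℕ → Ω}
    (M : Md g pt H15.MM24.P 24 11 H15.MM24.B 244823040) : Nat.card (Subgroup.centralizer {(wds g c3bx_W) 0}) = 504 :=
  (c3bc M).card_cent1 M.inj c3bc_c.1
theorem c3bc_eq {G Ω : Type*} [Group G] [MulAction G Ω] {g : ℕ → G} {pt : ℕ → Ω}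
    (M : Md g pt H15.MM24.P 24 11 H15.MM24.B 244823040) : Subgroup.centralizer (gen (wds g c3bx_W) 1) = gen (wds g c3bce_W) 4 ∧ Nat.card (gen (wds g c3bce_W) 4) = 504 :=
  c3bc_c.1 ▸ c3bc_c.2 ▸ ⟨(c3bc M).cent, (c3bc M).card M.inj⟩
theorem c3b {G Ω : Type*} [Group G] [MulAction G Ω] {g : ℕ → G} {pt : ℕ → Ω}
    (M : Md g pt H15.MM24.P 24 11 H15.MM24.B 244823040) : Nat.card (Subgroup.centralizer {(wds g cov3r_W) 1}) = 504 :=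
  c3bc_card M
theorem main : ∃ r : ℕ → Cfsg.M24, (∀ k < 4, ∀ i < 24, f k i < 24 ∧ (r k).1 (H15.pt i) = H15.pt (f k i)) ∧
    (∀ y, y ^ 3 = 1 → y = 1 ∨ IsConj y (r 0) ∨ IsConj y (r 1)) ∧
    Nat.card (Subgroup.centralizer {r 0}) = 1080 ∧ Nat.card (Subgroup.centralizer {r 1}) = 504 := by
  obtain ⟨_, g, M, h⟩ := md (MulEquiv.subgroupCongr H15.MM24.gen_eq)
  refine ⟨wds g sW, fun k hk i hi => ?_, fun y hy => ?_, c3a M, c3b M⟩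
  · rw [← sW_k.2 k hk i hi, show (wds g sW k).1 = wds H15.MM24.g sW k from
      (map_evA g (Subgroup.subtype _) _).trans (evA_congr _ fun j hj => h j (nth_lt sW_k.1 k j hj))]
    exact H15.MM24.act.wds sW_k.1 4 k hk i hi
  · rcases cov3 M (e := 1) hy hy with h | ⟨r, h1, h2⟩
    · exact .inl h
    · interval_cases r
      exacts [.inr (.inl h2), .inr (.inr h2)]

end H0.Mo.X24
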