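import Cfsg.Agent.H0.TRX
import Cfsg.Agent.H15.M.Co3

/-! Generated by tools/h0/tr.py. -/

set_option maxRecDepth 100000
set_option maxHeartbeats 0

namespace H0.Mo.X3
open H16 H0.TR

noncomputable def x_W : List (List ℕ) := [[nat_lit 1, nat_lit 2, nat_lit 0, nat_lit 3, nat_lit 2, nat_lit 1, nat_lit 4, nat_lit 3, nat_lit 2, nat_lit 1, nat_lit 2, nat_lit 1, nat_lit 2, nat_lit 5, nat_lit 4, nat_lit 3, nat_lit 2, nat_lit 0, nat_lit 4, nat_lit 6, nat_lit 5, nat_lit 4, nat_lit 1],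
  [nat_lit 0, nat_lit 2, nat_lit 1, nat_lit 2, nat_lit 3, nat_lit 2, nat_lit 4, nat_lit 3, nat_lit 2, nat_lit 1, nat_lit 2, nat_lit 3, nat_lit 4, nat_lit 2, nat_lit 5, nat_lit 4, nat_lit 3, nat_lit 2, nat_lit 0, nat_lit 2, nat_lit 3, nat_lit 4, nat_lit 2, nat_lit 0, nat_lit 5, nat_lit 6, nat_lit 5, nat_lit 4, nat_lit 3, nat_lit 2, nat_lit 0, nat_lit 2, nat_lit 3, nat_lit 4, nat_lit 5, nat_lit 4, nat_lit 2, nat_lit 5, nat_lit 2],
  [nat_lit 0, nat_lit 1, nat_lit 2, nat_lit 1, nat_lit 2, nat_lit 1, nat_lit 2, nat_lit 1, nat_lit 0, nat_lit 4, nat_lit 3, nat_lit 2, nat_lit 1, nat_lit 2, nat_lit 1, nat_lit 2, nat_lit 5, nat_lit 4, nat_lit 3, nat_lit 2, nat_lit 0, nat_lit 2, nat_lit 0, nat_lit 2, nat_lit 0, nat_lit 2, nat_lit 6, nat_lit 5, nat_lit 4, nat_lit 3, nat_lit 2, nat_lit 6, nat_lit 2, nat_lit 5, nat_lit 4, nat_lit 3],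
  [nat_lit 0, nat_lit 2, nat_lit 0, nat_lit 1, nat_lit 3, nat_lit 2, nat_lit 1, nat_lit 2, nat_lit 1, nat_lit 2, nat_lit 3, nat_lit 2, nat_lit 4, nat_lit 3, nat_lit 2, nat_lit 0, nat_lit 4, nat_lit 5, nat_lit 4, nat_lit 3, nat_lit 2, nat_lit 1, nat_lit 2, nat_lit 1, nat_lit 2, nat_lit 6, nat_lit 5, nat_lit 4, nat_lit 3, nat_lit 2, nat_lit 6, nat_lit 2, nat_lit 0, nat_lit 1, nat_lit 0]]
noncomputable def x_P : ℕ → ℕ → ℕ := wdsP H15.Co3.P x_W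
noncomputable def c0x_W : List (List ℕ) := [[nat_lit 1, nat_lit 2, nat_lit 0, nat_lit 3, nat_lit 2, nat_lit 1, nat_lit 4, nat_lit 3, nat_lit 2, nat_lit 1, nat_lit 2, nat_lit 1, nat_lit 2, nat_lit 5, nat_lit 4, nat_lit 3, nat_lit 2, nat_lit 0, nat_lit 4, nat_lit 6, nat_lit 5, nat_lit 4, nat_lit 1]]
noncomputable def c0x_P : ℕ → ℕ → ℕ := wdsP H15.Co3.P c0x_W
noncomputable def c0th_W : List (List ℕ) := [[nat_lit 0, nat_lit 1, nat_lit 2, nat_lit 0, nat_lit 1, nat_lit 0, nat_lit 2, nat_lit 3, nat_lit 2, nat_lit 1, nat_lit 0, nat_lit 4, nat_lit 3, nat_lit 2, nat_lit 0, nat_lit 2, nat_lit 1, nat_lit 3, nat_lit 5, nat_lit 4, nat_lit 3, nat_lit 2, nat_lit 0, nat_lit 2, nat_lit 0, nat_lit 2, nat_lit 0, nat_lit 1, nat_lit 6, nat_lit 5, nat_lit 4, nat_lit 3, nat_lit 2, nat_lit 1, nat_lit 2, nat_lit 3, nat_lit 2, nat_lit 0, nat_lit 4, nat_lit 3],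
  [nat_lit 5, nat_lit 1, nat_lit 0, nat_lit 2, nat_lit 0, nat_lit 1, nat_lit 0, nat_lit 2, nat_lit 0, nat_lit 2, nat_lit 3, nat_lit 2, nat_lit 0, nat_lit 2, nat_lit 4, nat_lit 3, nat_lit 2, nat_lit 3, nat_lit 2, nat_lit 0, nat_lit 2, nat_lit 4, nat_lit 5, nat_lit 4, nat_lit 3, nat_lit 2, nat_lit 1, nat_lit 2, nat_lit 3, nat_lit 6, nat_lit 5, nat_lit 4, nat_lit 3, nat_lit 2, nat_lit 3, nat_lit 2, nat_lit 3, nat_lit 5, nat_lit 4, nat_lit 2],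
  [nat_lit 2, nat_lit 1, nat_lit 2, nat_lit 0, nat_lit 2, nat_lit 0, nat_lit 2, nat_lit 0, nat_lit 4, nat_lit 3, nat_lit 2, nat_lit 0, nat_lit 2, nat_lit 3, nat_lit 4, nat_lit 2, nat_lit 3, nat_lit 2, nat_lit 0, nat_lit 5, nat_lit 4, nat_lit 3, nat_lit 2, nat_lit 0, nat_lit 2, nat_lit 0, nat_lit 3, nat_lit 2, nat_lit 6, nat_lit 5, nat_lit 4, nat_lit 3, nat_lit 2, nat_lit 1, nat_lit 2, nat_lit 4, nat_lit 3],
  [nat_lit 6, nat_lit 0, nat_lit 1, nat_lit 0, nat_lit 2, nat_lit 3, nat_lit 2, nat_lit 1, nat_lit 2, nat_lit 1, nat_lit 0, nat_lit 4, nat_lit 5, nat_lit 4, nat_lit 3, nat_lit 2, nat_lit 0, nat_lit 1, nat_lit 6, nat_lit 5, nat_lit 4, nat_lit 3, nat_lit 2, nat_lit 0, nat_lit 2, nat_lit 3, nat_lit 4, nat_lit 5, nat_lit 6, nat_lit 3],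
  [nat_lit 0, nat_lit 1, nat_lit 0, nat_lit 2, nat_lit 1, nat_lit 2, nat_lit 0, nat_lit 1, nat_lit 3, nat_lit 4, nat_lit 3, nat_lit 2, nat_lit 0, nat_lit 2, nat_lit 4, nat_lit 5, nat_lit 4, nat_lit 3, nat_lit 2, nat_lit 0, nat_lit 2, nat_lit 0, nat_lit 1, nat_lit 6, nat_lit 5, nat_lit 4, nat_lit 3, nat_lit 2, nat_lit 0, nat_lit 2, nat_lit 4, nat_lit 2],
  [nat_lit 6, nat_lit 2, nat_lit 1, nat_lit 2, nat_lit 0, nat_lit 1, nat_lit 0, nat_lit 2, nat_lit 0, nat_lit 2, nat_lit 3, nat_lit 2, nat_lit 0, nat_lit 2, nat_lit 1, nat_lit 4, nat_lit 3, nat_lit 2, nat_lit 0, nat_lit 1, nat_lit 5, nat_lit 6, nat_lit 5, nat_lit 4, nat_lit 3, nat_lit 2, nat_lit 1, nat_lit 6],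
  [nat_lit 6, nat_lit 0, nat_lit 1, nat_lit 2, nat_lit 1, nat_lit 2, nat_lit 0, nat_lit 2, nat_lit 3, nat_lit 2, nat_lit 0, nat_lit 2, nat_lit 0, nat_lit 2, nat_lit 1, nat_lit 4, nat_lit 3, nat_lit 5, nat_lit 4, nat_lit 3, nat_lit 2, nat_lit 3, nat_lit 6, nat_lit 5, nat_lit 4, nat_lit 3, nat_lit 2, nat_lit 3, nat_lit 2, nat_lit 3, nat_lit 4, nat_lit 5, nat_lit 4, nat_lit 0],
  [nat_lit 3],
  [nat_lit 4],
  [nat_lit 5],
  [nat_lit 1, nat_lit 2, nat_lit 0, nat_lit 1, nat_lit 0, nat_lit 2, nat_lit 0, nat_lit 2, nat_lit 3, nat_lit 2, nat_lit 3, nat_lit 2, nat_lit 0, nat_lit 2, nat_lit 0, nat_lit 4, nat_lit 3, nat_lit 2, nat_lit 3, nat_lit 2, nat_lit 3, nat_lit 5, nat_lit 4, nat_lit 3, nat_lit 2, nat_lit 3, nat_lit 2, nat_lit 3, nat_lit 4, nat_lit 6, nat_lit 5, nat_lit 4, nat_lit 3, nat_lit 2, nat_lit 0, nat_lit 4],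
  [nat_lit 0],
  [nat_lit 1],
  [nat_lit 2],
  [nat_lit 6],
  [nat_lit 1, nat_lit 5, nat_lit 4, nat_lit 2, nat_lit 0, nat_lit 2, nat_lit 1, nat_lit 2, nat_lit 1, nat_lit 3, nat_lit 2, nat_lit 0, nat_lit 4, nat_lit 3, nat_lit 2, nat_lit 0, nat_lit 2, nat_lit 0, nat_lit 2, nat_lit 4, nat_lit 5, nat_lit 4, nat_lit 3, nat_lit 2, nat_lit 0, nat_lit 2, nat_lit 1, nat_lit 0, nat_lit 6, nat_lit 5, nat_lit 4, nat_lit 3, nat_lit 2, nat_lit 0, nat_lit 2, nat_lit 1, nat_lit 0, nat_lit 1]]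
noncomputable def c0th_P : ℕ → ℕ → ℕ := wdsP H15.Co3.P c0th_W
noncomputable def c0tl0Dd : ℕ := nat_lit 0xdbc142a9dc89acca9c9ceb98b289fb9bcba7b088ae1d389eac78fd16492c91c81e7fe7ee92b79e78e0a18fb8eb11473e72e1a30a00819291831737eb07004a8c97db0b68a973c72c63e61e9088e885982966d0c492763d09280969c1458786cb65c60d5de8a764c1130727f878962c5fd8577d85ed5cd7a80e380711510501f6c960b7977870f50e57777475eb0666a80c30b40d56196c76686b764853e6976280c56186776085e95c963750e5c850d5f75c75a953b50c4ae49e52b50b44e43e49c0a343d5875385094ab40e44c07343c0a553752850848b42c40d43b07503002150742b40c4990630114a841b40b3cd4984494393eb0104c74a748844803243846742841940944702243700f0263e84073c901630d3c737927d2cb29c25d24e02437729b01426b24c3172c824b21d0332c72a82982690230352492672482390152272181dd1ce1cc1be1ad19e18e1bc19d1bb16d13e1e71c818b13d11e1c71b911d0ee1b81891b71871481470d80bd0ad07e08d06d05e09905d04e07906b04d07805b07704b06805904904803e03c02d03b01d03903803700d00c00b000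
noncomputable def c0tl0D (u : ℕ) : ℕ := Nat.land (Nat.shiftRight c0tl0Dd (Nat.mul u (nat_lit 12))) (nat_lit 4095)
noncomputable def c0tl0Pd : ℕ := nat_lit 0x15414561c7eb78f4661f93c86d00d188005b7a9585c8a4910462487218572f8128603ace71af492b36e144a0766698188553ba79d2db22a38042f143ed2e2d4d08494870a2649afe40978467265170b2af838e4e64b1b97d4ac06641002113e394788b4489c84c25e4006a240b174a8703735970a65f0303c443ca34aeec54a86186836a50fa3e1c18cf0a0588ec8c86360ca10032c13040a275220d3121b3aca4c386a593a9f6bab058d169bc5be3407afe1c9c80a10caa423ba066b67831ded096ea3e268335990521779b21681373aadf204791fd82952019dc42253bb950b03a26d6f0285ac8d4d22d1f9f48237aeca63a3db51930648049c0d940216221f7fa4d18c603261aaf4552e96aae779c5c2058833e1e75768c010a308099ee1b04ab47ad86d31522e67e13a060e6585416198501c1a0a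
noncomputable def c0tl0P (u : ℕ) : ℕ := Nat.land (Nat.shiftRight c0tl0Pd (Nat.mul u (nat_lit 9))) (nat_lit 511)
noncomputable def c0tl0Qd : ℕ := nat_lit 0x32a20621f0e9d506a12380cd091658e224c204920e6b617b521e0b6f104b2f80a9a606282f95cf46b1193836a44322dca6e2d8317cfb7994442353cc38ceef7203c68103fab8523a3d910f9080f3d1d6c303b3c725e350b01ce9422e0aac43b2ade4b71f099f2ad249b04a5d781192e4c66090247e2d09d464d27ab18a700c23144984039902742536dac2a6ea08a89e173fc1a37333894c2d5e401768a6c250647232101a6332b1093abf1dc354e9973bb0384b64b4044b01fabd3e933191512a029430e2624d419f4ea6334964ce8210d9a8f52c09d0b11ea15dced85029aa8e64365e2fc37a55c6a884ae5fc5385a7022bd4b0f1949b63a1d6a7836a49fa1a70405b87d88c4cc2df5d059eeb468941b48d182a5eb100a41c08f6302cc0cd72e0d980173b82002aa028002619010ac4058483858305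
noncomputable def c0tl0Q (u : ℕ) : ℕ := Nat.land (Nat.shiftRight c0tl0Qd (Nat.mul u (nat_lit 9))) (nat_lit 511)
noncomputable def c0tl0 : Lev := ⟨276, 16, c0tl0D, c0tl0P, c0tl0Q⟩
noncomputable def c0tl1Dd : ℕ := nat_lit 0xb97b8b4bd3e33682a228eb49a6faa4a990ed10d9c894699c97090e8e38a19230bb83380789f7f188981c8067db7c585d8318268057b97ae7a376274c7ad7a278c77672a74a6f36b164f6446c666465964e6230ca5ec66e65864d64260c5eb59f0906165b46005ea58857d53c53151b08f0795465104fa4ef52551a56655b5044e34764600d452f4800a04ed4d74493e70a809107042841d3f109545e4483db41c4113f039838d36235733706232c30b3203152ea2c933532a3142f42de2b30880722c829d04e2e82a72c729c27c0582a629106727125b25029b27b04203802d26525a22f22427a2391f802c26f25924e22e1e20920712381cc1c11b609f1ab0532222171d61a004420c1cb17f09407e1eb1aa0481e01d519f06602e1bf1b419417e03d18817306816902b15e16815d15305c16701515c15214804602215114703b01714613201613112705b05011c00b13012604511b11105d02702f01811a11004701c00d10f10503110400a02501a00f0e302401902601b0100cd0c20ad0a108107608b06c05505f04a04003503302901f01401d013009008007000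
noncomputable def c0tl1D (u : ℕ) : ℕ := Nat.land (Nat.shiftRight c0tl1Dd (Nat.mul u (nat_lit 12))) (nat_lit 4095)
noncomputable def c0tl1Pd : ℕ := nat_lit 0x3fddeb567800dea33d14970202088d2a224cc1d9c93719d41a4b4ebf4c4f5781e1450d020a17270472a430390a3785f051a0a4267f830b125025f1b07ed10d3d11adb26358d4980ba81943b2bb50bcb24a0946ecd59a996c9c4b00caaa53187056d23497c70561e310e4ee27940b2814f431128f343acfb04721e4ee8761365ce765a19d8c617142548ab189c5bb1374975fc58589d1d4f226bce16a15d0b4dc465e1015e436abe180458720e106001125ca2e45bedb88803920540f4009dd835420cc48d06996c22974f95192fa10a688e6d0b0f818a80f1cc0caa87911208629b0474b00eaedd01b429f918c35fa08d63676c01aeac78971be8a289f2029b3319402e01931d7af688b209464094483ef970a9d5c0e662dc845a3dbdd5ad813014600908369971048bf1cc3d0a820324e62c2a060b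
noncomputable def c0tl1P (u : ℕ) : ℕ := Nat.land (Nat.shiftRight c0tl1Pd (Nat.mul u (nat_lit 9))) (nat_lit 511)
noncomputable def c0tl1Qd : ℕ := nat_lit 0x4a0884e0c279ede8ae4480934798138dd0a800b80623a89245f40a39170407e0b0a1f0da452306ef788ad0766955235264550824eaa77fa6c3e2c1aba92a716c03944141cb58fece31af1b86487c05901b06b44ba261527406b62028c947d1fb7c52832321de3090d316209f63b311e48408742a384c141dc540f3198099863d510d22fabdf6c41816a06d43030e0acb80384164d563bdb241398d15a705213086673d0f9606b7210952320bc2d4cf652a81fc8e292d52cf086a14b0de1eb5576ab4f0bc5c245fbe538785d335243631061629067ae1825e25c2866b25981116d77e094ec6e2ca10f84e400660e826e95810b768125d8b9648f0d0e7330ad2e11749d10ce25e9b5ccf23504d946583410b7081094c8ebe2236c0aed6995c0eeb7288cc20f36071fa550000020063794424f3611dc5b0e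
noncomputable def c0tl1Q (u : ℕ) : ℕ := Nat.land (Nat.shiftRight c0tl1Qd (Nat.mul u (nat_lit 9))) (nat_lit 511)
noncomputable def c0tl1 : Lev := ⟨275, 11, c0tl1D, c0tl1P, c0tl1Q⟩
noncomputable def c0tl2Dd : ℕ := nat_lit 0xa1e566d24a7499784a047a1c36a59963556444e9398a14c8d146d14418a7459083acc12e8801c4a5210ce18cec378d7300623245b2ec762b464298981748a1d0661d467178541684d118581003f144410c84a114590903e08c3314830094290f042110270ec1c0583d054340b41e098220bc2806c200641f084180680f04014048070440904c0a0300601400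
noncomputable def c0tl2D (u : ℕ) : ℕ := Nat.land (Nat.shiftRight c0tl2Dd (Nat.mul u (nat_lit 10))) (nat_lit 1023)
noncomputable def c0tl2Pd : ℕ := nat_lit 0xc2c88cfe6b149fe3f0a33c621c38960750764424c8d151ba926904f200402c4c0f0f2b436291d8723ea1cfc7675adda89a4eae952a176bd0c6562da2c4ae1899454e2d351055cef7d9c1f24486b157c893da39c8da5e382090a341092aa533234b4c363b702cce6f0d8dc23568a96ce68189dae8541b30c04a780cc3c0f
noncomputable def c0tl2P (u : ℕ) : ℕ := Nat.land (Nat.shiftRight c0tl2Pd (Nat.mul u (nat_lit 9))) (nat_lit 511)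
noncomputable def c0tl2Qd : ℕ := nat_lit 0x6e0000000015800082f00c0000211600000d3b00005e01680000003e00000036001fcd8f6800000300250001c22004c016009000013ac0450002e00cc50006000005f2e01500300000000a402301080008c3405001b800000c478000020806a00e4eb602000015e18001100530000e80b2000580098d00740140094004000e0005601265804e02880012000001331ae004404f00cc01f006c05d7a000050000000766406200f000001a9b000000000001000001b402c0079900d0000520184000004800004032800001a5400380001401c8020000550004064000006f005406700000000000000000000000000000000000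
noncomputable def c0tl2Q (u : ℕ) : ℕ := Nat.land (Nat.shiftRight c0tl2Qd (Nat.mul u (nat_lit 7))) (nat_lit 127)
noncomputable def c0tl2 : Lev := ⟨112, 7, c0tl2D, c0tl2P, c0tl2Q⟩
noncomputable def c0tl3Dd : ℕ := nat_lit 0x3e77c70e9c5807d1a56a54a1b3a40c0f222cb9324383051220200
noncomputable def c0tl3D (u : ℕ) : ℕ := Nat.land (Nat.shiftRight c0tl3Dd (Nat.mul u (nat_lit 7))) (nat_lit 127)
noncomputable def c0tl3Pd : ℕ := nat_lit 0x20f041fa85901868870e48b439184064293d1d4ff7f1c4f6d42c2c99e7d188e8d814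
noncomputable def c0tl3P (u : ℕ) : ℕ := Nat.land (Nat.shiftRight c0tl3Pd (Nat.mul u (nat_lit 9))) (nat_lit 511)
noncomputable def c0tl3Qd : ℕ := nat_lit 0xe801c0000062c00000000000e0000000000034000000000000000000000000008002e02800000019000000000000000000000000001800000000000000000003400000000000000000000000000a00009800000000000804800000000055400000100000000100000000000000070000003c0000000000000480000000d8000008000000000060000000000000000000110001600018000000000000000000000000000000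
noncomputable def c0tl3Q (u : ℕ) : ℕ := Nat.land (Nat.shiftRight c0tl3Qd (Nat.mul u (nat_lit 5))) (nat_lit 31)
noncomputable def c0tl3 : Lev := ⟨30, 5, c0tl3D, c0tl3P, c0tl3Q⟩
noncomputable def c0tl4Dd : ℕ := nat_lit 0x119b2986edba0467c8902c3490c1c5c98f142c2840c1c180
noncomputable def c0tl4D (u : ℕ) : ℕ := Nat.land (Nat.shiftRight c0tl4Dd (Nat.mul u (nat_lit 7))) (nat_lit 127)
noncomputable def c0tl4Pd : ℕ := nat_lit 0x586c20463f31eaf4c8d452721c3a7b7d188bff6471d1feb2cfa187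
noncomputable def c0tl4P (u : ℕ) : ℕ := Nat.land (Nat.shiftRight c0tl4Pd (Nat.mul u (nat_lit 8))) (nat_lit 255)
noncomputable def c0tl4Qd : ℕ := nat_lit 0x4100000000000130000000000050000000000000000000000000011000a01000000012000000000000000000000000000c0000000000000000000020000000000000000000000000048000000000000000160600000000003cc000019000000000700000000000001a0000004000000000000005c0000000b00000340000000002a0000000000000000000180000e0000a000000000000000000000000000000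
noncomputable def c0tl4Q (u : ℕ) : ℕ := Nat.land (Nat.shiftRight c0tl4Qd (Nat.mul u (nat_lit 5))) (nat_lit 31)
noncomputable def c0tl4 : Lev := ⟨27, 4, c0tl4D, c0tl4P, c0tl4Q⟩
noncomputable def c0tl5Dd : ℕ := nat_lit 0xa357de6d641748d31444a2c7188103141080
noncomputable def c0tl5D (u : ℕ) : ℕ := Nat.land (Nat.shiftRight c0tl5Dd (Nat.mul u (nat_lit 6))) (nat_lit 63)
noncomputable def c0tl5Pd : ℕ := nat_lit 0x3ad4d1fe64cf1c31ea7b72527da1718b6cffb2584620f418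
noncomputable def c0tl5P (u : ℕ) : ℕ := Nat.land (Nat.shiftRight c0tl5Pd (Nat.mul u (nat_lit 8))) (nat_lit 255)
noncomputable def c0tl5Qd : ℕ := nat_lit 0x350000000000001000000000003c000000000000000000000000016002a09000000000000000000000000000000000001400000000000000000001400000000000000000000000000400000000000000001607000000000035200000700000000130000000000000040000003000000000000000c00000000000005c000000000200000000000000000000020001100000000000000000000000000000000000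
noncomputable def c0tl5Q (u : ℕ) : ℕ := Nat.land (Nat.shiftRight c0tl5Qd (Nat.mul u (nat_lit 5))) (nat_lit 31)
noncomputable def c0tl5 : Lev := ⟨24, 3, c0tl5D, c0tl5P, c0tl5Q⟩
noncomputable def c0tl6Dd : ℕ := nat_lit 4
noncomputable def c0tl6D (u : ℕ) : ℕ := Nat.land (Nat.shiftRight c0tl6Dd (Nat.mul u (nat_lit 1))) (nat_lit 1)
noncomputable def c0tl6Pd : ℕ := nat_lit 0x439b200
noncomputable def c0tl6P (u : ℕ) : ℕ := Nat.land (Nat.shiftRight c0tl6Pd (Nat.mul u (nat_lit 9))) (nat_lit 511)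
noncomputable def c0tl6Qd : ℕ := nat_lit 0x2000000000000000000000000004000000000000000000000000000000000000000000000000000000000000000000000000000000000000000000000000000000000000
noncomputable def c0tl6Q (u : ℕ) : ℕ := Nat.land (Nat.shiftRight c0tl6Qd (Nat.mul u (nat_lit 2))) (nat_lit 3)
noncomputable def c0tl6 : Lev := ⟨3, 1, c0tl6D, c0tl6P, c0tl6Q⟩
noncomputable def c0ce_W : List (List ℕ) := [[nat_lit 2, nat_lit 1, nat_lit 0, nat_lit 2, nat_lit 0, nat_lit 2, nat_lit 3, nat_lit 2, nat_lit 1, nat_lit 0, nat_lit 4, nat_lit 3, nat_lit 2, nat_lit 0, nat_lit 2, nat_lit 1, nat_lit 5, nat_lit 4, nat_lit 3, nat_lit 2, nat_lit 1, nat_lit 2, nat_lit 6, nat_lit 5, nat_lit 4, nat_lit 3, nat_lit 2, nat_lit 1, nat_lit 2, nat_lit 3, nat_lit 5, nat_lit 4, nat_lit 3],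
  [nat_lit 0, nat_lit 1, nat_lit 2, nat_lit 1, nat_lit 2, nat_lit 1, nat_lit 0, nat_lit 2, nat_lit 3, nat_lit 2, nat_lit 3, nat_lit 2, nat_lit 1, nat_lit 4, nat_lit 5, nat_lit 4, nat_lit 3, nat_lit 2, nat_lit 0, nat_lit 2, nat_lit 4, nat_lit 6, nat_lit 5, nat_lit 4, nat_lit 3, nat_lit 2, nat_lit 0, nat_lit 2],
  [nat_lit 6, nat_lit 0, nat_lit 1, nat_lit 0, nat_lit 2, nat_lit 0, nat_lit 1, nat_lit 4, nat_lit 3, nat_lit 2, nat_lit 5, nat_lit 6, nat_lit 5, nat_lit 4, nat_lit 3, nat_lit 2, nat_lit 0, nat_lit 6, nat_lit 5, nat_lit 4],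
  [nat_lit 0, nat_lit 1, nat_lit 2, nat_lit 1, nat_lit 2, nat_lit 1, nat_lit 0, nat_lit 3, nat_lit 2, nat_lit 1, nat_lit 4, nat_lit 3, nat_lit 2, nat_lit 1, nat_lit 2, nat_lit 1, nat_lit 5, nat_lit 4, nat_lit 3, nat_lit 2, nat_lit 1, nat_lit 2, nat_lit 0, nat_lit 3, nat_lit 4, nat_lit 6, nat_lit 5, nat_lit 4, nat_lit 3, nat_lit 2, nat_lit 3, nat_lit 2, nat_lit 0, nat_lit 2, nat_lit 4, nat_lit 2],
  [nat_lit 6, nat_lit 3, nat_lit 2, nat_lit 0, nat_lit 3, nat_lit 2, nat_lit 4, nat_lit 3, nat_lit 2, nat_lit 0, nat_lit 2, nat_lit 1, nat_lit 3, nat_lit 5, nat_lit 4, nat_lit 3, nat_lit 2, nat_lit 0, nat_lit 2, nat_lit 3, nat_lit 4, nat_lit 5, nat_lit 4, nat_lit 2, nat_lit 3, nat_lit 4, nat_lit 2, nat_lit 3, nat_lit 6],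
  [nat_lit 0, nat_lit 2, nat_lit 4, nat_lit 3, nat_lit 2, nat_lit 3, nat_lit 2, nat_lit 3, nat_lit 5, nat_lit 4, nat_lit 3, nat_lit 2, nat_lit 0, nat_lit 2, nat_lit 3, nat_lit 4, nat_lit 6, nat_lit 5, nat_lit 4, nat_lit 3, nat_lit 2, nat_lit 1]]
noncomputable def c0ce_P : ℕ → ℕ → ℕ := wdsP H15.Co3.P c0ce_W
noncomputable def c0cc6Dd : ℕ := nat_lit 4
noncomputable def c0cc6D (u : ℕ) : ℕ := Nat.land (Nat.shiftRight c0cc6Dd (Nat.mul u (nat_lit 1))) (nat_lit 1)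
noncomputable def c0cc6Pd : ℕ := nat_lit 0x439b200
noncomputable def c0cc6P (u : ℕ) : ℕ := Nat.land (Nat.shiftRight c0cc6Pd (Nat.mul u (nat_lit 9))) (nat_lit 511)
noncomputable def c0cc6Qd : ℕ := nat_lit 0x2000000000000000000000000004000000000000000000000000000000000000000000000000000000000000000000000000000000000000000000000000000000000000
noncomputable def c0cc6Q (u : ℕ) : ℕ := Nat.land (Nat.shiftRight c0cc6Qd (Nat.mul u (nat_lit 2))) (nat_lit 3)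
noncomputable def c0cc6 : Lev := ⟨3, 1, c0cc6D, c0cc6P, c0cc6Q⟩
noncomputable def c0tn0Fd : ℕ := nat_lit 0
noncomputable def c0tn0F (u : ℕ) : ℕ := Nat.land (Nat.shiftRight c0tn0Fd (Nat.mul u (nat_lit 1))) (nat_lit 1)
noncomputable def c0tn0 : Nd := ⟨c0tn0F, (nat_lit 2), (nat_lit 1), [], [((nat_lit 0), [])], []⟩
noncomputable def c0cc3Dd : ℕ := nat_lit 0x227dca668195524d740d50944e2861c3204141080
noncomputable def c0cc3D (u : ℕ) : ℕ := Nat.land (Nat.shiftRight c0cc3Dd (Nat.mul u (nat_lit 6))) (nat_lit 63)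
noncomputable def c0cc3Pd : ℕ := nat_lit 0x61a8d183c103831751ed0ef439161fca13e880d8647fac9903f291c47414
noncomputable def c0cc3P (u : ℕ) : ℕ := Nat.land (Nat.shiftRight c0cc3Pd (Nat.mul u (nat_lit 9))) (nat_lit 511)
noncomputable def c0cc3Qd : ℕ := nat_lit 0xb8016000003b4000000000010000000000004c00000000000000000000000001900300000000000500000000000000000000000000180000000000000000000180000000000000000000000000000000880000000000160900000000003c4000009000000000800000000000000e0000000c0000000000000000000000200000040000000002800000000000000000000a000150001a000000000000000000000000000000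
noncomputable def c0cc3Q (u : ℕ) : ℕ := Nat.land (Nat.shiftRight c0cc3Qd (Nat.mul u (nat_lit 5))) (nat_lit 31)
noncomputable def c0cc3 : Lev := ⟨27, 3, c0cc3D, c0cc3P, c0cc3Q⟩
noncomputable def c0tn1Fd : ℕ := nat_lit 0x140020
noncomputable def c0tn1F (u : ℕ) : ℕ := Nat.land (Nat.shiftRight c0tn1Fd (Nat.mul u (nat_lit 1))) (nat_lit 1)
noncomputable def c0tn1 : Nd := ⟨c0tn1F, (nat_lit 3), (nat_lit 3), [[nat_lit 0]], [((nat_lit 0), [])], []⟩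
noncomputable def c0cc2Dd : ℕ := nat_lit 0xc
noncomputable def c0cc2D (u : ℕ) : ℕ := Nat.land (Nat.shiftRight c0cc2Dd (Nat.mul u (nat_lit 2))) (nat_lit 3)
noncomputable def c0cc2Pd : ℕ := nat_lit 0x230f
noncomputable def c0cc2P (u : ℕ) : ℕ := Nat.land (Nat.shiftRight c0cc2Pd (Nat.mul u (nat_lit 7))) (nat_lit 127)
noncomputable def c0cc2Qd : ℕ := nat_lit 0x400000000000000000
noncomputable def c0cc2Q (u : ℕ) : ℕ := Nat.land (Nat.shiftRight c0cc2Qd (Nat.mul u (nat_lit 1))) (nat_lit 1)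
noncomputable def c0cc2 : Lev := ⟨2, 4, c0cc2D, c0cc2P, c0cc2Q⟩
noncomputable def c0tn2y139_W : List (List ℕ) := [[nat_lit 5, nat_lit 2, nat_lit 0, nat_lit 2, nat_lit 3, nat_lit 2, nat_lit 1, nat_lit 2, nat_lit 1, nat_lit 4, nat_lit 3, nat_lit 2, nat_lit 5, nat_lit 4, nat_lit 3, nat_lit 2, nat_lit 0, nat_lit 2, nat_lit 3, nat_lit 4, nat_lit 2, nat_lit 0, nat_lit 3, nat_lit 6, nat_lit 5, nat_lit 4, nat_lit 3, nat_lit 2, nat_lit 1, nat_lit 2, nat_lit 3, nat_lit 4, nat_lit 2, nat_lit 3, nat_lit 5, nat_lit 2, nat_lit 4]]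
noncomputable def c0tn2y139_P : ℕ → ℕ → ℕ := wdsP H15.Co3.P c0tn2y139_W
noncomputable def c0tr3k_W : List (List ℕ) := [[nat_lit 0, nat_lit 1, nat_lit 2, nat_lit 0, nat_lit 2, nat_lit 3, nat_lit 2, nat_lit 0, nat_lit 2, nat_lit 0, nat_lit 2, nat_lit 4, nat_lit 3, nat_lit 2, nat_lit 0, nat_lit 2, nat_lit 3, nat_lit 5, nat_lit 4, nat_lit 3, nat_lit 2, nat_lit 1, nat_lit 2, nat_lit 3, nat_lit 6, nat_lit 5, nat_lit 4, nat_lit 3, nat_lit 2, nat_lit 3, nat_lit 2, nat_lit 0, nat_lit 3, nat_lit 2, nat_lit 3],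
  [nat_lit 0, nat_lit 1, nat_lit 2, nat_lit 1, nat_lit 3, nat_lit 2, nat_lit 0, nat_lit 4, nat_lit 3, nat_lit 2, nat_lit 0, nat_lit 2, nat_lit 3, nat_lit 2, nat_lit 5, nat_lit 4, nat_lit 3, nat_lit 2, nat_lit 3, nat_lit 2, nat_lit 3, nat_lit 2, nat_lit 6, nat_lit 5, nat_lit 4, nat_lit 3, nat_lit 2, nat_lit 0, nat_lit 2, nat_lit 1, nat_lit 3, nat_lit 2, nat_lit 4, nat_lit 0],
  [nat_lit 2, nat_lit 0, nat_lit 2, nat_lit 3, nat_lit 2, nat_lit 1, nat_lit 0, nat_lit 4, nat_lit 3, nat_lit 2, nat_lit 0, nat_lit 2, nat_lit 3, nat_lit 2, nat_lit 5, nat_lit 4, nat_lit 3, nat_lit 2, nat_lit 0, nat_lit 2, nat_lit 1, nat_lit 0, nat_lit 3, nat_lit 6, nat_lit 5, nat_lit 4, nat_lit 3, nat_lit 2, nat_lit 3, nat_lit 2, nat_lit 3, nat_lit 4, nat_lit 2, nat_lit 1],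
  [nat_lit 4, nat_lit 5, nat_lit 6, nat_lit 0, nat_lit 2, nat_lit 0, nat_lit 2, nat_lit 0, nat_lit 1, nat_lit 0, nat_lit 3, nat_lit 2, nat_lit 4, nat_lit 3, nat_lit 2, nat_lit 0, nat_lit 2, nat_lit 0, nat_lit 3, nat_lit 2, nat_lit 5, nat_lit 4, nat_lit 3, nat_lit 2, nat_lit 1, nat_lit 2, nat_lit 3, nat_lit 4, nat_lit 5, nat_lit 4, nat_lit 3, nat_lit 6, nat_lit 5, nat_lit 4, nat_lit 3, nat_lit 2, nat_lit 3, nat_lit 2, nat_lit 0, nat_lit 3, nat_lit 2]]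
noncomputable def c0tr3k_P : ℕ → ℕ → ℕ := wdsP H15.Co3.P c0tr3k_W
noncomputable def c0tn3y108_W : List (List ℕ) := [[nat_lit 6, nat_lit 5, nat_lit 1, nat_lit 2, nat_lit 1, nat_lit 0, nat_lit 3, nat_lit 2, nat_lit 0, nat_lit 2, nat_lit 0, nat_lit 2, nat_lit 4, nat_lit 3, nat_lit 2, nat_lit 1, nat_lit 2, nat_lit 3, nat_lit 5, nat_lit 4, nat_lit 3, nat_lit 2, nat_lit 1, nat_lit 2, nat_lit 3, nat_lit 4, nat_lit 5, nat_lit 4, nat_lit 6, nat_lit 5, nat_lit 4, nat_lit 3, nat_lit 2, nat_lit 1, nat_lit 3]]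
noncomputable def c0tn3y108_P : ℕ → ℕ → ℕ := wdsP H15.Co3.P c0tn3y108_W
noncomputable def c0tr4k_W : List (List ℕ) := [[nat_lit 0, nat_lit 1, nat_lit 2, nat_lit 0, nat_lit 1, nat_lit 0, nat_lit 2, nat_lit 3, nat_lit 2, nat_lit 1, nat_lit 0, nat_lit 4, nat_lit 3, nat_lit 2, nat_lit 0, nat_lit 2, nat_lit 1, nat_lit 5, nat_lit 4, nat_lit 3, nat_lit 2, nat_lit 1, nat_lit 2, nat_lit 6, nat_lit 5, nat_lit 4, nat_lit 3, nat_lit 2, nat_lit 1, nat_lit 2, nat_lit 3, nat_lit 5, nat_lit 4, nat_lit 3],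
  [nat_lit 2, nat_lit 0, nat_lit 2, nat_lit 0, nat_lit 1, nat_lit 2, nat_lit 3, nat_lit 2, nat_lit 0, nat_lit 2, nat_lit 1, nat_lit 3, nat_lit 2, nat_lit 4, nat_lit 3, nat_lit 2, nat_lit 1, nat_lit 2, nat_lit 3, nat_lit 4, nat_lit 2, nat_lit 3, nat_lit 4, nat_lit 5, nat_lit 4, nat_lit 3, nat_lit 2, nat_lit 1, nat_lit 2, nat_lit 3, nat_lit 4, nat_lit 2, nat_lit 5, nat_lit 6, nat_lit 5, nat_lit 4, nat_lit 3, nat_lit 2, nat_lit 0, nat_lit 2, nat_lit 6, nat_lit 5]]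
noncomputable def c0tr4k_P : ℕ → ℕ → ℕ := wdsP H15.Co3.P c0tr4k_W
noncomputable def c0tn4Fd : ℕ := nat_lit 0x39
noncomputable def c0tn4F (u : ℕ) : ℕ := Nat.land (Nat.shiftRight c0tn4Fd (Nat.mul u (nat_lit 2))) (nat_lit 3)
noncomputable def c0tn4 : Nd := ⟨c0tn4F, (nat_lit 2), (nat_lit 2), [], [((nat_lit 0), []), ((nat_lit 1), [nat_lit 0])], []⟩
noncomputable def c0tn3Fd : ℕ := nat_lit 0x2182dea2356e530ee3390e7a10f2a92b63821
noncomputable def c0tn3F (u : ℕ) : ℕ := Nat.land (Nat.shiftRight c0tn3Fd (Nat.mul u (nat_lit 5))) (nat_lit 31)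
noncomputable def c0tn3 : Nd := ⟨c0tn3F, (nat_lit 4), (nat_lit 4), [[nat_lit 0]], [((nat_lit 0), []), ((nat_lit 0), [nat_lit 0]), ((nat_lit 0), [nat_lit 0, nat_lit 0])], [((nat_lit 108), c0tn3y108_W)]⟩
noncomputable def c0tn2Fd : ℕ := nat_lit 0x94c0c825ef71df25be6d739878a9b5839ee6adee715ce92d898a2329c94b8b5cd305af5a9485c9ec6b12e5258f93ded6b5ca721cf4b5456a5d28ad4862cee235c44c52660420
noncomputable def c0tn2F (u : ℕ) : ℕ := Nat.land (Nat.shiftRight c0tn2Fd (Nat.mul u (nat_lit 5))) (nat_lit 31)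
noncomputable def c0tn2 : Nd := ⟨c0tn2F, (nat_lit 4), (nat_lit 4), [[nat_lit 0]], [((nat_lit 0), [])], [((nat_lit 139), c0tn2y139_W)]⟩
noncomputable def c0cc1Dd : ℕ := nat_lit 0x9d261644b308147100
noncomputable def c0cc1D (u : ℕ) : ℕ := Nat.land (Nat.shiftRight c0cc1Dd (Nat.mul u (nat_lit 6))) (nat_lit 63)
noncomputable def c0cc1Pd : ℕ := nat_lit 0x67b95170b532087ad55c0643e0b
noncomputable def c0cc1P (u : ℕ) : ℕ := Nat.land (Nat.shiftRight c0cc1Pd (Nat.mul u (nat_lit 9))) (nat_lit 511)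
noncomputable def c0cc1Qd : ℕ := nat_lit 0x80000000000000000000000000000000000000a000000000000000400000b000000000000000000000030000000000000000070000000000000000000000000090000000060000000000000000000000000000000000000000000000000000000000000000000050000000000000000000000000000010000020000000000000000000000000
noncomputable def c0cc1Q (u : ℕ) : ℕ := Nat.land (Nat.shiftRight c0cc1Qd (Nat.mul u (nat_lit 4))) (nat_lit 15)
noncomputable def c0cc1 : Lev := ⟨12, 5, c0cc1D, c0cc1P, c0cc1Q⟩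
noncomputable def c0tn5y15_W : List (List ℕ) := [[nat_lit 2, nat_lit 0, nat_lit 2, nat_lit 0, nat_lit 2, nat_lit 3, nat_lit 2, nat_lit 1, nat_lit 2, nat_lit 0, nat_lit 4, nat_lit 3, nat_lit 2, nat_lit 0, nat_lit 2, nat_lit 1, nat_lit 3, nat_lit 4, nat_lit 5, nat_lit 4, nat_lit 3, nat_lit 2, nat_lit 0, nat_lit 2, nat_lit 3, nat_lit 4, nat_lit 6, nat_lit 5, nat_lit 4, nat_lit 3, nat_lit 2, nat_lit 6, nat_lit 2, nat_lit 4, nat_lit 3]]
noncomputable def c0tn5y15_P : ℕ → ℕ → ℕ := wdsP H15.Co3.P c0tn5y15_W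
noncomputable def c0tr6k_W : List (List ℕ) := [[nat_lit 4, nat_lit 0, nat_lit 6, nat_lit 1, nat_lit 2, nat_lit 0, nat_lit 1, nat_lit 3, nat_lit 2, nat_lit 3, nat_lit 2, nat_lit 0, nat_lit 2, nat_lit 4, nat_lit 3, nat_lit 2, nat_lit 5, nat_lit 4, nat_lit 3, nat_lit 2, nat_lit 0, nat_lit 2, nat_lit 4, nat_lit 3, nat_lit 6, nat_lit 5, nat_lit 4, nat_lit 3, nat_lit 2, nat_lit 3, nat_lit 6, nat_lit 5, nat_lit 4, nat_lit 3, nat_lit 0],
  [nat_lit 0, nat_lit 5, nat_lit 1, nat_lit 2, nat_lit 0, nat_lit 2, nat_lit 0, nat_lit 2, nat_lit 0, nat_lit 3, nat_lit 2, nat_lit 4, nat_lit 3, nat_lit 2, nat_lit 1, nat_lit 2, nat_lit 3, nat_lit 4, nat_lit 2, nat_lit 3, nat_lit 2, nat_lit 4, nat_lit 5, nat_lit 4, nat_lit 3, nat_lit 2, nat_lit 0, nat_lit 2, nat_lit 0, nat_lit 3, nat_lit 4, nat_lit 6, nat_lit 5, nat_lit 4, nat_lit 3, nat_lit 2, nat_lit 1, nat_lit 2, nat_lit 0, nat_lit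 3],
  [nat_lit 5, nat_lit 2, nat_lit 0, nat_lit 2, nat_lit 1, nat_lit 2, nat_lit 1, nat_lit 3, nat_lit 2, nat_lit 1, nat_lit 2, nat_lit 1, nat_lit 2, nat_lit 4, nat_lit 3, nat_lit 2, nat_lit 3, nat_lit 2, nat_lit 3, nat_lit 4, nat_lit 2, nat_lit 3, nat_lit 5, nat_lit 4, nat_lit 3, nat_lit 2, nat_lit 1, nat_lit 2, nat_lit 3, nat_lit 2, nat_lit 4, nat_lit 2, nat_lit 5, nat_lit 6, nat_lit 5, nat_lit 4, nat_lit 3, nat_lit 2, nat_lit 0, nat_lit 2, nat_lit 6, nat_lit 2, nat_lit 1]]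
noncomputable def c0tr6k_P : ℕ → ℕ → ℕ := wdsP H15.Co3.P c0tr6k_W
noncomputable def c0tn6y15_W : List (List ℕ) := [[nat_lit 2, nat_lit 0, nat_lit 2, nat_lit 0, nat_lit 2, nat_lit 3, nat_lit 2, nat_lit 1, nat_lit 2, nat_lit 0, nat_lit 4, nat_lit 3, nat_lit 2, nat_lit 0, nat_lit 2, nat_lit 1, nat_lit 3, nat_lit 4, nat_lit 5, nat_lit 4, nat_lit 3, nat_lit 2, nat_lit 0, nat_lit 2, nat_lit 3, nat_lit 4, nat_lit 6, nat_lit 5, nat_lit 4, nat_lit 3, nat_lit 2, nat_lit 6, nat_lit 2, nat_lit 4, nat_lit 3]]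
noncomputable def c0tn6y15_P : ℕ → ℕ → ℕ := wdsP H15.Co3.P c0tn6y15_W
noncomputable def c0tr7k_W : List (List ℕ) := [[nat_lit 5, nat_lit 2, nat_lit 0, nat_lit 3, nat_lit 2, nat_lit 3, nat_lit 2, nat_lit 0, nat_lit 1, nat_lit 3, nat_lit 4, nat_lit 3, nat_lit 2, nat_lit 0, nat_lit 2, nat_lit 5, nat_lit 4, nat_lit 3, nat_lit 2, nat_lit 0, nat_lit 2, nat_lit 5, nat_lit 6, nat_lit 5, nat_lit 4, nat_lit 3, nat_lit 2, nat_lit 0, nat_lit 2, nat_lit 3, nat_lit 4, nat_lit 2, nat_lit 0, nat_lit 3, nat_lit 2, nat_lit 3],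
  [nat_lit 4, nat_lit 5, nat_lit 0, nat_lit 1, nat_lit 2, nat_lit 3, nat_lit 2, nat_lit 1, nat_lit 2, nat_lit 0, nat_lit 3, nat_lit 4, nat_lit 3, nat_lit 2, nat_lit 0, nat_lit 2, nat_lit 3, nat_lit 2, nat_lit 1, nat_lit 5, nat_lit 4, nat_lit 3, nat_lit 2, nat_lit 1, nat_lit 2, nat_lit 3, nat_lit 5, nat_lit 4, nat_lit 6, nat_lit 5, nat_lit 4, nat_lit 3, nat_lit 2, nat_lit 0, nat_lit 2, nat_lit 4, nat_lit 5],
  [nat_lit 2, nat_lit 0, nat_lit 3, nat_lit 2, nat_lit 3, nat_lit 2, nat_lit 0, nat_lit 2, nat_lit 0, nat_lit 2, nat_lit 3, nat_lit 4, nat_lit 3, nat_lit 2, nat_lit 0, nat_lit 2, nat_lit 0, nat_lit 3, nat_lit 2, nat_lit 5, nat_lit 4, nat_lit 3, nat_lit 2, nat_lit 1, nat_lit 2, nat_lit 0, nat_lit 2, nat_lit 0, nat_lit 6, nat_lit 5, nat_lit 4, nat_lit 3, nat_lit 2, nat_lit 0, nat_lit 6, nat_lit 5, nat_lit 4, nat_lit 2, nat_lit 1],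
  [nat_lit 4, nat_lit 2, nat_lit 0, nat_lit 1, nat_lit 3, nat_lit 2, nat_lit 3, nat_lit 2, nat_lit 1, nat_lit 4, nat_lit 3, nat_lit 2, nat_lit 0, nat_lit 2, nat_lit 0, nat_lit 2, nat_lit 5, nat_lit 4, nat_lit 3, nat_lit 2, nat_lit 0, nat_lit 2, nat_lit 5, nat_lit 2, nat_lit 0, nat_lit 6, nat_lit 5, nat_lit 4, nat_lit 3, nat_lit 2, nat_lit 0, nat_lit 2, nat_lit 0, nat_lit 4]]
noncomputable def c0tr7k_P : ℕ → ℕ → ℕ := wdsP H15.Co3.P c0tr7k_W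
noncomputable def c0tn7y20_W : List (List ℕ) := [[nat_lit 2, nat_lit 6, nat_lit 2, nat_lit 0, nat_lit 2, nat_lit 0, nat_lit 1, nat_lit 3, nat_lit 4, nat_lit 3, nat_lit 2, nat_lit 0, nat_lit 2, nat_lit 3, nat_lit 4, nat_lit 2, nat_lit 5, nat_lit 4, nat_lit 3, nat_lit 2, nat_lit 1, nat_lit 2, nat_lit 3, nat_lit 5, nat_lit 4, nat_lit 6, nat_lit 5, nat_lit 4, nat_lit 3, nat_lit 2, nat_lit 0, nat_lit 2, nat_lit 1, nat_lit 3, nat_lit 2, nat_lit 1, nat_lit 4]]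
noncomputable def c0tn7y20_P : ℕ → ℕ → ℕ := wdsP H15.Co3.P c0tn7y20_W
noncomputable def c0tr8k_W : List (List ℕ) := [[],
  [nat_lit 0, nat_lit 1, nat_lit 2, nat_lit 0, nat_lit 1, nat_lit 0, nat_lit 2, nat_lit 3, nat_lit 2, nat_lit 1, nat_lit 0, nat_lit 4, nat_lit 3, nat_lit 2, nat_lit 0, nat_lit 2, nat_lit 1, nat_lit 5, nat_lit 4, nat_lit 3, nat_lit 2, nat_lit 1, nat_lit 2, nat_lit 6, nat_lit 5, nat_lit 4, nat_lit 3, nat_lit 2, nat_lit 1, nat_lit 2, nat_lit 3, nat_lit 5, nat_lit 4, nat_lit 3]]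
noncomputable def c0tr8k_P : ℕ → ℕ → ℕ := wdsP H15.Co3.P c0tr8k_W
noncomputable def c0tn8Fd : ℕ := nat_lit 0x159
noncomputable def c0tn8F (u : ℕ) : ℕ := Nat.land (Nat.shiftRight c0tn8Fd (Nat.mul u (nat_lit 3))) (nat_lit 7)
noncomputable def c0tn8 : Nd := ⟨c0tn8F, (nat_lit 2), (nat_lit 2), [], [((nat_lit 0), []), ((nat_lit 1), [nat_lit 0])], []⟩
noncomputable def c0tn7Fd : ℕ := nat_lit 0x9efc7b8f81d1969aabbdaa5c1d8941
noncomputable def c0tn7F (u : ℕ) : ℕ := Nat.land (Nat.shiftRight c0tn7Fd (Nat.mul u (nat_lit 4))) (nat_lit 15)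
noncomputable def c0tn7 : Nd := ⟨c0tn7F, (nat_lit 4), (nat_lit 4), [[nat_lit 0]], [((nat_lit 0), []), ((nat_lit 0), [nat_lit 0]), ((nat_lit 0), [nat_lit 0, nat_lit 0])], [((nat_lit 20), c0tn7y20_W)]⟩
noncomputable def c0tn6y70_W : List (List ℕ) := [[nat_lit 3, nat_lit 0, nat_lit 1, nat_lit 0, nat_lit 2, nat_lit 0, nat_lit 2, nat_lit 0, nat_lit 1, nat_lit 3, nat_lit 2, nat_lit 1, nat_lit 4, nat_lit 3, nat_lit 2, nat_lit 1, nat_lit 2, nat_lit 3, nat_lit 4, nat_lit 2, nat_lit 3, nat_lit 4, nat_lit 5, nat_lit 4, nat_lit 3, nat_lit 2, nat_lit 0, nat_lit 2, nat_lit 0, nat_lit 3, nat_lit 2, nat_lit 1, nat_lit 6, nat_lit 5, nat_lit 4, nat_lit 3, nat_lit 2, nat_lit 0, nat_lit 2, nat_lit 0, nat_lit 6]]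
noncomputable def c0tn6y70_P : ℕ → ℕ → ℕ := wdsP H15.Co3.P c0tn6y70_W
noncomputable def c0tr9k_W : List (List ℕ) := [[nat_lit 0, nat_lit 1, nat_lit 2, nat_lit 1, nat_lit 0, nat_lit 3, nat_lit 2, nat_lit 3, nat_lit 2, nat_lit 0, nat_lit 3, nat_lit 4, nat_lit 3, nat_lit 2, nat_lit 0, nat_lit 2, nat_lit 3, nat_lit 4, nat_lit 2, nat_lit 0, nat_lit 3, nat_lit 5, nat_lit 4, nat_lit 3, nat_lit 2, nat_lit 0, nat_lit 2, nat_lit 0, nat_lit 3, nat_lit 2, nat_lit 4, nat_lit 3, nat_lit 2, nat_lit 6, nat_lit 5, nat_lit 4, nat_lit 3, nat_lit 2, nat_lit 0, nat_lit 2, nat_lit 0, nat_lit 3, nat_lit 2, nat_lit 4, nat_lit 5, nat_lit 0],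
  [nat_lit 6, nat_lit 2, nat_lit 0, nat_lit 2, nat_lit 0, nat_lit 3, nat_lit 2, nat_lit 0, nat_lit 2, nat_lit 4, nat_lit 3, nat_lit 2, nat_lit 3, nat_lit 2, nat_lit 0, nat_lit 3, nat_lit 2, nat_lit 4, nat_lit 3, nat_lit 2, nat_lit 5, nat_lit 4, nat_lit 3, nat_lit 2, nat_lit 0, nat_lit 2, nat_lit 1, nat_lit 3, nat_lit 4, nat_lit 6, nat_lit 5, nat_lit 4, nat_lit 3, nat_lit 2, nat_lit 1, nat_lit 2, nat_lit 3, nat_lit 2, nat_lit 4, nat_lit 3, nat_lit 1],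
  [nat_lit 2, nat_lit 1, nat_lit 3, nat_lit 2, nat_lit 0, nat_lit 2, nat_lit 3, nat_lit 2, nat_lit 1, nat_lit 4, nat_lit 3, nat_lit 2, nat_lit 1, nat_lit 2, nat_lit 3, nat_lit 4, nat_lit 2, nat_lit 3, nat_lit 2, nat_lit 5, nat_lit 4, nat_lit 3, nat_lit 2, nat_lit 0, nat_lit 2, nat_lit 4, nat_lit 6, nat_lit 5, nat_lit 4, nat_lit 3, nat_lit 2, nat_lit 0, nat_lit 2, nat_lit 3, nat_lit 5, nat_lit 2]]
noncomputable def c0tr9k_P : ℕ → ℕ → ℕ := wdsP H15.Co3.P c0tr9k_W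
noncomputable def c0tn9Fd : ℕ := nat_lit 0x68753d9aa6959693b7b67748b87811
noncomputable def c0tn9F (u : ℕ) : ℕ := Nat.land (Nat.shiftRight c0tn9Fd (Nat.mul u (nat_lit 4))) (nat_lit 15)
noncomputable def c0tn9 : Nd := ⟨c0tn9F, (nat_lit 3), (nat_lit 3), [[nat_lit 0]], [((nat_lit 0), []), ((nat_lit 0), [nat_lit 0])], []⟩
noncomputable def c0tn6Fd : ℕ := nat_lit 0x5182e52e0c50d708b1ab79d8e49c6d3218b78dab6354b698d1334a962daa3314971490825508288a4ad65735096c58e7912d3a5ab525274b20d738e74b5283bd2a720e758421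
noncomputable def c0tn6F (u : ℕ) : ℕ := Nat.land (Nat.shiftRight c0tn6Fd (Nat.mul u (nat_lit 5))) (nat_lit 31)
noncomputable def c0tn6 : Nd := ⟨c0tn6F, (nat_lit 3), (nat_lit 3), [[nat_lit 0]], [((nat_lit 0), [])], [((nat_lit 15), c0tn6y15_W), ((nat_lit 70), c0tn6y70_W)]⟩
noncomputable def c0tn5Fd : ℕ := nat_lit 0x1c4c80145136d50153df2dc39a4513113533d274b4d229629859b60e5d46d031668f29434d3096d861360f4904535584935515164d555058f44048e61d74d41d4584d244f5d138f45744f5963902905d84514db51658a28c60635145761b44941651242059451801339660931b6d500b5554c665750501001b4cc60a2012ce30b48c31155165844d3956904863145db60b3d561b54d3985db3cd6975d56166003505923052931d31514515095d43523d76555581d601b34f35745559a41555361131029728f6015004d2001547040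
noncomputable def c0tn5F (u : ℕ) : ℕ := Nat.land (Nat.shiftRight c0tn5Fd (Nat.mul u (nat_lit 6))) (nat_lit 63)
noncomputable def c0tn5 : Nd := ⟨c0tn5F, (nat_lit 5), (nat_lit 5), [[nat_lit 0]], [((nat_lit 0), [])], [((nat_lit 15), c0tn5y15_W)]⟩
noncomputable def c0cc0Dd : ℕ := nat_lit 0x105aa8389900f203488e142c280
noncomputable def c0cc0D (u : ℕ) : ℕ := Nat.land (Nat.shiftRight c0cc0Dd (Nat.mul u (nat_lit 7))) (nat_lit 127)
noncomputable def c0cc0Pd : ℕ := nat_lit 0x3c8c8b67c2c7ae54135432a60fae0160a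
noncomputable def c0cc0P (u : ℕ) : ℕ := Nat.land (Nat.shiftRight c0cc0Pd (Nat.mul u (nat_lit 9))) (nat_lit 511)
noncomputable def c0cc0Qd : ℕ := nat_lit 0xa00000000000000000000000000000000000008000000000000000600000b0000000000000000000000200000000000000000400000000000000000000000000c00000000700000000000000000000000000000000000000000000000000000000000d000000009000000000000000000000000000003000005000000000e000100000000000
noncomputable def c0cc0Q (u : ℕ) : ℕ := Nat.land (Nat.shiftRight c0cc0Qd (Nat.mul u (nat_lit 4))) (nat_lit 15)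
noncomputable def c0cc0 : Lev := ⟨15, 6, c0cc0D, c0cc0P, c0cc0Q⟩
noncomputable def c0tn10Fd : ℕ := nat_lit 0x65735035d5dc58a70f59771c49739c51771975224d41952040c3d85d769d5201da6d65e669a31d65c75a75955d65f8e33966165d445c65c30c4536e675c7d75007405dc52265351361349b6a200069181a497a5a6a261a1d459255f39655100d70f4127577514ce8a276071666369280675c54c21201d71241529d18d75a71b560a545dc3d53914da5ce5536936978dd54e51946349c5146cf01b5da65c3c06172dc75b7518d85976168c059a59c75a01a81731a65270f5c070f4cc66020b49739a02275b4d705472050e000754040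
noncomputable def c0tn10F (u : ℕ) : ℕ := Nat.land (Nat.shiftRight c0tn10Fd (Nat.mul u (nat_lit 6))) (nat_lit 63)
noncomputable def c0tn10 : Nd := ⟨c0tn10F, (nat_lit 6), (nat_lit 6), [[nat_lit 0]], [((nat_lit 0), [])], []⟩
noncomputable def c1x_W : List (List ℕ) := [[nat_lit 0, nat_lit 2, nat_lit 1, nat_lit 2, nat_lit 3, nat_lit 2, nat_lit 4, nat_lit 3, nat_lit 2, nat_lit 1, nat_lit 2, nat_lit 3, nat_lit 4, nat_lit 2, nat_lit 5, nat_lit 4, nat_lit 3, nat_lit 2, nat_lit 0, nat_lit 2, nat_lit 3, nat_lit 4, nat_lit 2, nat_lit 0, nat_lit 5, nat_lit 6, nat_lit 5, nat_lit 4, nat_lit 3, nat_lit 2, nat_lit 0, nat_lit 2, nat_lit 3, nat_lit 4, nat_lit 5, nat_lit 4, nat_lit 2, nat_lit 5, nat_lit 2]]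
noncomputable def c1x_P : ℕ → ℕ → ℕ := wdsP H15.Co3.P c1x_W
noncomputable def c1th_W : List (List ℕ) := [[nat_lit 2, nat_lit 1, nat_lit 3, nat_lit 1, nat_lit 2, nat_lit 1, nat_lit 2, nat_lit 3, nat_lit 2, nat_lit 3, nat_lit 2, nat_lit 1, nat_lit 2, nat_lit 5, nat_lit 4, nat_lit 3, nat_lit 2, nat_lit 3, nat_lit 2, nat_lit 5],
  [nat_lit 1, nat_lit 2, nat_lit 1, nat_lit 2, nat_lit 0, nat_lit 2, nat_lit 0, nat_lit 3, nat_lit 2, nat_lit 1, nat_lit 2, nat_lit 0, nat_lit 1, nat_lit 0],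
  [nat_lit 0, nat_lit 1, nat_lit 2, nat_lit 1, nat_lit 2, nat_lit 0, nat_lit 3, nat_lit 2, nat_lit 1, nat_lit 5, nat_lit 4, nat_lit 3, nat_lit 2, nat_lit 1, nat_lit 2, nat_lit 1, nat_lit 5],
  [nat_lit 0, nat_lit 2, nat_lit 0, nat_lit 1, nat_lit 3, nat_lit 2, nat_lit 0, nat_lit 2, nat_lit 1, nat_lit 4, nat_lit 5, nat_lit 4, nat_lit 3, nat_lit 2, nat_lit 0, nat_lit 2, nat_lit 1, nat_lit 0],
  [nat_lit 2, nat_lit 1, nat_lit 2, nat_lit 1, nat_lit 0, nat_lit 3, nat_lit 2, nat_lit 1, nat_lit 2, nat_lit 0, nat_lit 2, nat_lit 3, nat_lit 4, nat_lit 3, nat_lit 2, nat_lit 0, nat_lit 2, nat_lit 1, nat_lit 5, nat_lit 4, nat_lit 3, nat_lit 2, nat_lit 0, nat_lit 2, nat_lit 0],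
  [nat_lit 4, nat_lit 1, nat_lit 2, nat_lit 1, nat_lit 0, nat_lit 3, nat_lit 2, nat_lit 0, nat_lit 2, nat_lit 3, nat_lit 2, nat_lit 4, nat_lit 3, nat_lit 2, nat_lit 5, nat_lit 4, nat_lit 3, nat_lit 2, nat_lit 0, nat_lit 2, nat_lit 4, nat_lit 3, nat_lit 2, nat_lit 4, nat_lit 1],
  [nat_lit 4, nat_lit 2, nat_lit 3, nat_lit 2, nat_lit 0, nat_lit 2, nat_lit 3, nat_lit 4, nat_lit 3, nat_lit 2, nat_lit 1, nat_lit 2, nat_lit 3, nat_lit 2, nat_lit 4, nat_lit 5, nat_lit 4, nat_lit 3, nat_lit 2, nat_lit 1, nat_lit 2, nat_lit 3, nat_lit 4, nat_lit 2],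
  [nat_lit 0],
  [nat_lit 1],
  [nat_lit 2],
  [nat_lit 3],
  [nat_lit 4],
  [nat_lit 5],
  [nat_lit 0, nat_lit 1, nat_lit 2, nat_lit 0, nat_lit 3, nat_lit 2, nat_lit 3, nat_lit 2, nat_lit 3, nat_lit 4, nat_lit 3, nat_lit 2, nat_lit 0, nat_lit 2, nat_lit 1, nat_lit 0, nat_lit 5, nat_lit 4, nat_lit 3, nat_lit 2, nat_lit 0, nat_lit 2, nat_lit 0],
  [nat_lit 6],
  [nat_lit 0, nat_lit 1, nat_lit 2, nat_lit 0, nat_lit 2, nat_lit 0, nat_lit 3, nat_lit 2, nat_lit 3, nat_lit 2, nat_lit 0, nat_lit 2, nat_lit 0, nat_lit 4, nat_lit 5, nat_lit 4, nat_lit 3, nat_lit 2, nat_lit 0, nat_lit 2, nat_lit 3, nat_lit 4, nat_lit 2, nat_lit 3, nat_lit 2, nat_lit 0, nat_lit 6]]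
noncomputable def c1th_P : ℕ → ℕ → ℕ := wdsP H15.Co3.P c1th_W
noncomputable def c1tl0Dd : ℕ := nat_lit 0x533dc9d58db7d084d2b9bc87482125442ba937390ea7bb88b29b689eb86eba7ab93b2a797ee7ce096af7a1991ba7833285c8cb2e20759e888b86b81ca870769a895993983ba1789a7bc79c4419a78d97cb77c91888974c72c61e8598e88497ea6fc9176cc5ce3e18e78b768c8878288477e860c5fc7987196f91a27a72c168960a7375ca5f913012005612349e0545a951b46e44e6175c80e35980d00455c74bb1421320465195090a042c09049b48b09347b55746b0e24e802f0d250744a3ec33e4a94893bc0a24693eb37c0924293db48841935c39b44833c4873ba2ec2dc4473e92cc2fb14113139933a2ab30a3b835926b3783392ca2f929a3b73482e92d93772c92a92992e82892790a13372c82592780502192b71f91ea1ac1cb1e91da21720706204016e15e12e0301c81a815c0251c713c0de02618a16b10c03212b13a16912a1590610511491390fa1581091380f90ab1280ca1571081370d90aa12711710704108a0c80e70b803108907a0a708701d06e05e04e06b05b06a01504c01606905901404b05804a06705704903a04804701001301202b01c00e000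
noncomputable def c1tl0D (u : ℕ) : ℕ := Nat.land (Nat.shiftRight c1tl0Dd (Nat.mul u (nat_lit 12))) (nat_lit 4095)
noncomputable def c1tl0Pd : ℕ := nat_lit 0x5a148b08e25a748cf8300f0bc35128b46c621b8c56648118a83a381a044ac881f224ae61459242e5c4fb4998816b8c82c282a07a26875f088864f3c140b479253b132d81d370802b0a1ddbe1c722f4c62c862e0825b148305e9a55c1036844517e0ecd2c9e8762e02945b62080999ec10531d9361982b299d0826c00660a7abecf8c4751c93cf76f1b5e68370839a0690d03442af489098e5522a08e6f003ab1388632285a69205ae5d2a96e9c4986c32c38eac807a3430e33e94dfebc6a289b45d52bb89c94183f1cc70612fc7afd1319c8eae56b002abb37aa16f0a7d35946f45032dca6b4b8e5d0274aa5a06d94609224c975c2e1a931fa3cdc80223bd4e983f3f98a13589d19e9088425487f0901a22b5813b5f2f15d025610687b456cb234381ce08351ed86d55521408c1633883ef2018080200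
noncomputable def c1tl0P (u : ℕ) : ℕ := Nat.land (Nat.shiftRight c1tl0Pd (Nat.mul u (nat_lit 9))) (nat_lit 511)
noncomputable def c1tl0Qd : ℕ := nat_lit 0x728f442270b9d872cb1d1404ca85e86156c22087d66a6368b8b8625113c3b0c4e2c5464c4c8103888191983cda1da7cfa450898492cf380192e1268a6cf6d65a9a480d875938186b40bb82c9514aa578ed252a878744681c5aa00697c10562f38d9c6c2a06cfcca28854411380850561948160ae866182cf85218abcce25269a9044b77a761c8556b11b2302390886641c2011e281b440e43f79afdecf87221014c04c229d834120bcdea1072e9b8df692b8ea2a44a78f460298d534782403d28132d2c8ee8366c11e90b5f424d0f06437577117abe518e7374496cde701954e7987b6de5002cc35163370a3992d51bbdcbb0a5cb5c8cfc81c1610fb52baa046362ae20ccc6a3f98ee82216e0e3e7fb8922b402b99fad060a4d587178ba4aad31608df4b039a5924c63fa903410438896e09018080200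
noncomputable def c1tl0Q (u : ℕ) : ℕ := Nat.land (Nat.shiftRight c1tl0Qd (Nat.mul u (nat_lit 9))) (nat_lit 511)
noncomputable def c1tl0 : Lev := ⟨276, 16, c1tl0D, c1tl0P, c1tl0Q⟩
noncomputable def c1tl1Dd : ℕ := nat_lit 0xdf9d19bb1ae0138c1d2db94aab39fe0bb320a889809b7a87a0aa5d07691d0749d12168c98911617449619531c291b7b37a577b7431988666ef3117bf6fc75d7be7a256875c7406c36996005d64ce48805968a5ff20766e5e352e4261371296c160c44f5034da4411184f504a03d5fd57f5644850ee0e05714f43b60e302f44d1361280303c34f30b90ab02144c4150224c948308c3f93990200134140e20143dd3c13f83620124130b83c03f73a536f3533453890803bf32931b30d2f22e43880723432ac29e12738736c31930b25824a1f611910b00d2b72aa28e27221f1e81cc3332fc1f51b00d30c53252a925623a2101d91a21942fb0a92ed2df25521d20118617816a0540572992541e51a018517715c0460492452371e41d61c819115b03803b1f11ac0561d51c702a04819d01f03a16515800e01114d14001e12414b13e0fa0ec05512f1220c204713c11310509808a13b0e90cd0a509707c11f0f60b10a409607b06e01d0f50a308706d00f09406c09307806b07704405d03604f03502804103402701a02601903202501801701600c00b00a009008007000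
noncomputable def c1tl1D (u : ℕ) : ℕ := Nat.land (Nat.shiftRight c1tl1Dd (Nat.mul u (nat_lit 12))) (nat_lit 4095)
noncomputable def c1tl1Pd : ℕ := nat_lit 0x8c621030244a203013890a050a89daa5e20b981a983d16d96360e0adf10b048b5724b293f1a0d40e9191c0e08bb5eea16d3a84ca8023bd6af25e8e09a8b461ed02d153955b0930f84a150638a80847f590ba22ee420948648701d4f8866328c144e6e0b1fe570c9d206801ea282ef02c25cfc4c62984029c330d60ac188100b862358a0941e2837492df6c9e4e6f18621c76c066bed7022183494816622b40ef44fbd472ba5713c8aca55255246a5f35e26e70dac0d8af54c3cde838930d2c99663947d0d67b6e121869afe04767cb24645315404baa5478f0ee8d4a02d9c2f1f82178566f0e9e637870853cb35d98ce46d323f610901481a08b75a3b018a6719a58efa562c5c8e134209d01451269d25923bf9d613802d956d644a20b46719a74a8443c3d8e09b12321846e3e8d0401a3297c1f07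
noncomputable def c1tl1P (u : ℕ) : ℕ := Nat.land (Nat.shiftRight c1tl1Pd (Nat.mul u (nat_lit 9))) (nat_lit 511)
noncomputable def c1tl1Qd : ℕ := nat_lit 0x3a9ad92a33710cc8937c344c239003414a355a974ac1b5c87874f2470b0b6f974839048422b8128b071321d4320eb9842253a408cc2917c2850c34c11d34bb3139d2ed53b0620af02fa29b0f1319351e677e9f0b40a16afd56873502548902f1ddbe491fa01ea8d1a069c2332032c5472381fd0c2b0c9ecdee46b8c0a8895f08dd0ce4190424a806088d100571a4f44f6a1e61c3829bb4a0db6e2c82e164930212c736099b2b4662b40ec16d3fd2c0f2897184b64a8f59e0d3682078714f9e05c270a29c063b1f281550f01410aaa17f05440af5c121ac112c3ce1a9b3f2f1baac7a27532c40fbb8fa1062b3606a22599566524891902de223f14c0609966228b26329ecba7d15c6e9e833958c0b89230840569a71defb398116e6058a220e240e349d71000bb20231272f5ee4a428da10e38642d5200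
noncomputable def c1tl1Q (u : ℕ) : ℕ := Nat.land (Nat.shiftRight c1tl1Qd (Nat.mul u (nat_lit 9))) (nat_lit 511)
noncomputable def c1tl1 : Lev := ⟨275, 14, c1tl1D, c1tl1P, c1tl1Q⟩
noncomputable def c1tl2Dd : ℕ := nat_lit 0xa7a865e1ae698f4328c2509b32cd2927944261364a09722c89434ff3f8f03a4e23006e19d0b2a0a41b45f14cb124c8c368aa22081238b72a4a2234701cc441303d1145b1283e15c371342f190300b8561e0710841a170201541b138461243f0e0480a8410b4230cc260b02511c4007c320ac1e09017058130500c0480d02c0e04407028100240f0200501800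
noncomputable def c1tl2D (u : ℕ) : ℕ := Nat.land (Nat.shiftRight c1tl2Dd (Nat.mul u (nat_lit 10))) (nat_lit 1023)
noncomputable def c1tl2Pd : ℕ := nat_lit 0x108cbefc43958a08652a849eb34b9209427359b144965491da245211d1585e27348f6c57b9b488b1462055aea72a3ce4e6498f9245b288794e6e2a2b8c684741d42caa41a64c253669055e432d18052138122d50c45f8107a3933850240752214ec7e3e2c100646d32dea4b19a814cfb489552b036c260149f660311062
noncomputable def c1tl2P (u : ℕ) : ℕ := Nat.land (Nat.shiftRight c1tl2Pd (Nat.mul u (nat_lit 9))) (nat_lit 511)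
noncomputable def c1tl2Qd : ℕ := nat_lit 0x109c000000006c18000009e00880000000000000000120037011238000000000000000004c0070000000014ac800001783240000000028240000000460000000000000000000c8026165aea4d500d2da57a3739b017730e08000000001906c77048087045808c0004b4c00001d7a0d3866025150060017a2000000065b56011400000f275ebe000003e0001472018aadb5000080ac00001a853b6001fe9cb4c0002184062b402c4d595d7000109080000100000000001e0000000000000001480c000000dc0000000f8000000000000d401e507400000000020014000380002201bc000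
noncomputable def c1tl2Q (u : ℕ) : ℕ := Nat.land (Nat.shiftRight c1tl2Qd (Nat.mul u (nat_lit 7))) (nat_lit 127)
noncomputable def c1tl2 : Lev := ⟨112, 7, c1tl2D, c1tl2P, c1tl2Q⟩
noncomputable def c1tl3Dd : ℕ := nat_lit 0x27e1933662b5495498267cd0e285cb122228690182c4880e18200
noncomputable def c1tl3D (u : ℕ) : ℕ := Nat.land (Nat.shiftRight c1tl3Dd (Nat.mul u (nat_lit 7))) (nat_lit 127)
noncomputable def c1tl3Pd : ℕ := nat_lit 0x662303b3428a081bd596af4b361221641829cce5662210a1247bdd2f026d2fd6002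
noncomputable def c1tl3P (u : ℕ) : ℕ := Nat.land (Nat.shiftRight c1tl3Pd (Nat.mul u (nat_lit 9))) (nat_lit 511)
noncomputable def c1tl3Qd : ℕ := nat_lit 0xb90000000000000302c000000000000000003580000000000000c1200000000000034ba8000000000000010000000000000000001a000000000000000001800000000002cc0000220380000000a001207800000000000000000000000000000000000000000000000000000000000000000000000000000000000000000000000000e8000000000000000000e0000000000000004019020000000003800d800000000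
noncomputable def c1tl3Q (u : ℕ) : ℕ := Nat.land (Nat.shiftRight c1tl3Qd (Nat.mul u (nat_lit 5))) (nat_lit 31)
noncomputable def c1tl3 : Lev := ⟨30, 5, c1tl3D, c1tl3P, c1tl3Q⟩
noncomputable def c1tl4Dd : ℕ := nat_lit 0x115a244ec511f3678d21325480f1c2088b1a284870c14180
noncomputable def c1tl4D (u : ℕ) : ℕ := Nat.land (Nat.shiftRight c1tl4Dd (Nat.mul u (nat_lit 7))) (nat_lit 127)
noncomputable def c1tl4Pd : ℕ := nat_lit 0x39a048f19a4424f703afd0ab06d3d596975040c28d80b029988372a219aaf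
noncomputable def c1tl4P (u : ℕ) : ℕ := Nat.land (Nat.shiftRight c1tl4Pd (Nat.mul u (nat_lit 9))) (nat_lit 511)
noncomputable def c1tl4Qd : ℕ := nat_lit 0x564000000000000a01c000000000000000006860000000000003c08000000000000025680000000000000900000000000000000100000000000000000000b000000000060000002c0c000000002002202000000000000000000000000000000000000000000000000000000000000000000000000000000000000000000000000000b800000000000000000000000000000000001c090540000000018009800000000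
noncomputable def c1tl4Q (u : ℕ) : ℕ := Nat.land (Nat.shiftRight c1tl4Qd (Nat.mul u (nat_lit 5))) (nat_lit 31)
noncomputable def c1tl4 : Lev := ⟨27, 4, c1tl4D, c1tl4P, c1tl4Q⟩
noncomputable def c1tl5Dd : ℕ := nat_lit 0xb1ea206da64f31139034b2862031c5102040
noncomputable def c1tl5D (u : ℕ) : ℕ := Nat.land (Nat.shiftRight c1tl5Dd (Nat.mul u (nat_lit 6))) (nat_lit 63)
noncomputable def c1tl5Pd : ℕ := nat_lit 0xb39540cc44334280a48bd6069765b697e83732151e1258409b0f7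
noncomputable def c1tl5P (u : ℕ) : ℕ := Nat.land (Nat.shiftRight c1tl5Pd (Nat.mul u (nat_lit 9))) (nat_lit 511)
noncomputable def c1tl5Qd : ℕ := nat_lit 0x688000000000000001c000000000000000001ec00000000000028010000000000002545800000000000004800000000000000000300000000000000000015000000000060000001e02800000013000c040000000000000000000000000000000000000000000000000000000000000000000000000000000000000000000000000000000000000000000000000000000000000005c110100000000040000000000000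
noncomputable def c1tl5Q (u : ℕ) : ℕ := Nat.land (Nat.shiftRight c1tl5Qd (Nat.mul u (nat_lit 5))) (nat_lit 31)
noncomputable def c1tl5 : Lev := ⟨24, 3, c1tl5D, c1tl5P, c1tl5Q⟩
noncomputable def c1tl6Dd : ℕ := nat_lit 4
noncomputable def c1tl6D (u : ℕ) : ℕ := Nat.land (Nat.shiftRight c1tl6Dd (Nat.mul u (nat_lit 1))) (nat_lit 1)
noncomputable def c1tl6Pd : ℕ := nat_lit 0xede201
noncomputable def c1tl6P (u : ℕ) : ℕ := Nat.land (Nat.shiftRight c1tl6Pd (Nat.mul u (nat_lit 8))) (nat_lit 255)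
noncomputable def c1tl6Qd : ℕ := nat_lit 0x80000100000000000000000000000000000000000000000000000000000000000000000000000000000000000000000000000000000000000000000
noncomputable def c1tl6Q (u : ℕ) : ℕ := Nat.land (Nat.shiftRight c1tl6Qd (Nat.mul u (nat_lit 2))) (nat_lit 3)
noncomputable def c1tl6 : Lev := ⟨3, 1, c1tl6D, c1tl6P, c1tl6Q⟩
noncomputable def c1ce_W : List (List ℕ) := [[nat_lit 3, nat_lit 6, nat_lit 2, nat_lit 0, nat_lit 1, nat_lit 3, nat_lit 2, nat_lit 0, nat_lit 2, nat_lit 5, nat_lit 6, nat_lit 5, nat_lit 4, nat_lit 3, nat_lit 2, nat_lit 6, nat_lit 2, nat_lit 4, nat_lit 2, nat_lit 5, nat_lit 0],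
  [nat_lit 4, nat_lit 0, nat_lit 2, nat_lit 1, nat_lit 2, nat_lit 1, nat_lit 2, nat_lit 3, nat_lit 2, nat_lit 3, nat_lit 4, nat_lit 3, nat_lit 2, nat_lit 1, nat_lit 2, nat_lit 3, nat_lit 5, nat_lit 4, nat_lit 3, nat_lit 2, nat_lit 0, nat_lit 2, nat_lit 3, nat_lit 4],
  [nat_lit 5, nat_lit 0, nat_lit 5, nat_lit 2, nat_lit 0, nat_lit 1, nat_lit 0, nat_lit 4, nat_lit 3, nat_lit 2, nat_lit 3, nat_lit 2, nat_lit 0, nat_lit 2, nat_lit 5, nat_lit 4, nat_lit 3, nat_lit 2, nat_lit 0, nat_lit 2, nat_lit 0, nat_lit 1, nat_lit 6, nat_lit 5, nat_lit 4, nat_lit 3, nat_lit 2, nat_lit 0, nat_lit 6, nat_lit 5, nat_lit 2, nat_lit 4],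
  [nat_lit 0, nat_lit 2, nat_lit 0, nat_lit 2, nat_lit 1, nat_lit 3, nat_lit 4, nat_lit 3, nat_lit 2, nat_lit 0, nat_lit 2, nat_lit 5, nat_lit 4, nat_lit 3, nat_lit 2, nat_lit 3, nat_lit 2, nat_lit 3, nat_lit 4, nat_lit 2, nat_lit 6, nat_lit 5, nat_lit 4, nat_lit 3, nat_lit 2, nat_lit 0, nat_lit 2, nat_lit 3, nat_lit 4, nat_lit 6]]
noncomputable def c1ce_P : ℕ → ℕ → ℕ := wdsP H15.Co3.P c1ce_W
noncomputable def c1cc6Dd : ℕ := nat_lit 4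
noncomputable def c1cc6D (u : ℕ) : ℕ := Nat.land (Nat.shiftRight c1cc6Dd (Nat.mul u (nat_lit 1))) (nat_lit 1)
noncomputable def c1cc6Pd : ℕ := nat_lit 0xe2ed01
noncomputable def c1cc6P (u : ℕ) : ℕ := Nat.land (Nat.shiftRight c1cc6Pd (Nat.mul u (nat_lit 8))) (nat_lit 255)
noncomputable def c1cc6Qd : ℕ := nat_lit 0x40000200000000000000000000000000000000000000000000000000000000000000000000000000000000000000000000000000000000000000000
noncomputable def c1cc6Q (u : ℕ) : ℕ := Nat.land (Nat.shiftRight c1cc6Qd (Nat.mul u (nat_lit 2))) (nat_lit 3)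
noncomputable def c1cc6 : Lev := ⟨3, 1, c1cc6D, c1cc6P, c1cc6Q⟩
noncomputable def c1tn0Fd : ℕ := nat_lit 0
noncomputable def c1tn0F (u : ℕ) : ℕ := Nat.land (Nat.shiftRight c1tn0Fd (Nat.mul u (nat_lit 1))) (nat_lit 1)
noncomputable def c1tn0 : Nd := ⟨c1tn0F, (nat_lit 2), (nat_lit 1), [], [((nat_lit 0), [])], []⟩
noncomputable def c1cc3Dd : ℕ := nat_lit 0xd76543210
noncomputable def c1cc3D (u : ℕ) : ℕ := Nat.land (Nat.shiftRight c1cc3Dd (Nat.mul u (nat_lit 4))) (nat_lit 15)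
noncomputable def c1cc3Pd : ℕ := nat_lit 0x2396140a978fdae502
noncomputable def c1cc3P (u : ℕ) : ℕ := Nat.land (Nat.shiftRight c1cc3Pd (Nat.mul u (nat_lit 8))) (nat_lit 255)
noncomputable def c1cc3Qd : ℕ := nat_lit 0x10000000000200000000000000000000000000000000000000000000000000000000000000000047000000300000000000000000000000000000000000000000000000000000000000000000000000000000000000000000000000000000000000800000000000000600000000050000000000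
noncomputable def c1cc3Q (u : ℕ) : ℕ := Nat.land (Nat.shiftRight c1cc3Qd (Nat.mul u (nat_lit 4))) (nat_lit 15)
noncomputable def c1cc3 : Lev := ⟨9, 2, c1cc3D, c1cc3P, c1cc3Q⟩
noncomputable def c1tn1y191_W : List (List ℕ) := [[nat_lit 1, nat_lit 2, nat_lit 1, nat_lit 2, nat_lit 1, nat_lit 2, nat_lit 1, nat_lit 2, nat_lit 3, nat_lit 2, nat_lit 3, nat_lit 2, nat_lit 4, nat_lit 3, nat_lit 2, nat_lit 0, nat_lit 2, nat_lit 0, nat_lit 2, nat_lit 0, nat_lit 5, nat_lit 4, nat_lit 3, nat_lit 2, nat_lit 0, nat_lit 2, nat_lit 3, nat_lit 4, nat_lit 3, nat_lit 5, nat_lit 2, nat_lit 3, nat_lit 6, nat_lit 5, nat_lit 4, nat_lit 3, nat_lit 2, nat_lit 1, nat_lit 2, nat_lit 3, nat_lit 2, nat_lit 4, nat_lit 2, nat_lit 1]]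
noncomputable def c1tn1y191_P : ℕ → ℕ → ℕ := wdsP H15.Co3.P c1tn1y191_W
noncomputable def c1tr2k_W : List (List ℕ) := [[nat_lit 1, nat_lit 5, nat_lit 6, nat_lit 2, nat_lit 0, nat_lit 2, nat_lit 1, nat_lit 0, nat_lit 3, nat_lit 2, nat_lit 1, nat_lit 4, nat_lit 3, nat_lit 2, nat_lit 0, nat_lit 2, nat_lit 1, nat_lit 5, nat_lit 6, nat_lit 5, nat_lit 6, nat_lit 0],
  [nat_lit 2, nat_lit 3, nat_lit 2, nat_lit 1, nat_lit 2, nat_lit 3, nat_lit 2, nat_lit 3, nat_lit 2, nat_lit 1, nat_lit 2, nat_lit 5, nat_lit 4, nat_lit 3, nat_lit 2, nat_lit 3, nat_lit 2, nat_lit 5]]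
noncomputable def c1tr2k_P : ℕ → ℕ → ℕ := wdsP H15.Co3.P c1tr2k_W
noncomputable def c1tn2Fd : ℕ := nat_lit 0x2d
noncomputable def c1tn2F (u : ℕ) : ℕ := Nat.land (Nat.shiftRight c1tn2Fd (Nat.mul u (nat_lit 2))) (nat_lit 3)
noncomputable def c1tn2 : Nd := ⟨c1tn2F, (nat_lit 2), (nat_lit 2), [], [((nat_lit 0), []), ((nat_lit 1), [nat_lit 0])], []⟩
noncomputable def c1tn1y258_W : List (List ℕ) := [[nat_lit 3, nat_lit 1, nat_lit 0, nat_lit 2, nat_lit 1, nat_lit 0, nat_lit 3, nat_lit 2, nat_lit 3, nat_lit 2, nat_lit 0, nat_lit 4, nat_lit 3, nat_lit 2, nat_lit 3, nat_lit 2, nat_lit 3, nat_lit 5, nat_lit 4, nat_lit 3, nat_lit 2, nat_lit 0, nat_lit 2, nat_lit 3, nat_lit 2, nat_lit 4, nat_lit 6, nat_lit 5, nat_lit 4, nat_lit 3, nat_lit 2, nat_lit 1, nat_lit 2, nat_lit 3, nat_lit 4, nat_lit 2, nat_lit 6, nat_lit 1]]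
noncomputable def c1tn1y258_P : ℕ → ℕ → ℕ := wdsP H15.Co3.P c1tn1y258_W
noncomputable def c1tr3k_W : List (List ℕ) := [[nat_lit 5, nat_lit 6, nat_lit 0, nat_lit 1, nat_lit 0, nat_lit 2, nat_lit 0, nat_lit 2, nat_lit 1, nat_lit 0, nat_lit 3, nat_lit 2, nat_lit 1, nat_lit 4, nat_lit 3, nat_lit 2, nat_lit 0, nat_lit 2, nat_lit 1, nat_lit 6, nat_lit 5],
  []]
noncomputable def c1tr3k_P : ℕ → ℕ → ℕ := wdsP H15.Co3.P c1tr3k_W
noncomputable def c1tn3Fd : ℕ := nat_lit 0xa1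
noncomputable def c1tn3F (u : ℕ) : ℕ := Nat.land (Nat.shiftRight c1tn3Fd (Nat.mul u (nat_lit 3))) (nat_lit 7)
noncomputable def c1tn3 : Nd := ⟨c1tn3F, (nat_lit 2), (nat_lit 2), [], [((nat_lit 0), []), ((nat_lit 1), [nat_lit 0])], []⟩
noncomputable def c1tn1Fd : ℕ := nat_lit 0x38ac75d31ac828f2b141048
noncomputable def c1tn1F (u : ℕ) : ℕ := Nat.land (Nat.shiftRight c1tn1Fd (Nat.mul u (nat_lit 3))) (nat_lit 7)
noncomputable def c1tn1 : Nd := ⟨c1tn1F, (nat_lit 2), (nat_lit 2), [], [((nat_lit 0), []), ((nat_lit 0), [nat_lit 0]), ((nat_lit 0), [nat_lit 0, nat_lit 0])], [((nat_lit 191), c1tn1y191_W), ((nat_lit 258), c1tn1y258_W)]⟩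
noncomputable def c1cc0Dd : ℕ := nat_lit 0xa09b7745e076136489cc6a516449896a198564ff5d1213c8ee5815c56154531113ccef5112c39cde440df3e4f53b4c6394e132cc72f8dd2fce82a8a22789a390e028c9b2388a360d4344cd304831f8bd2e47f340b52c47a330c0294a1274952447b1a8bc2e08d214731bcb42b0661885e2a0a42406718c5f158522308416c791d4711a465164551444a1704b1505010c3a124450ec3610437130320b8481103d0cc2f0a8261002b09c390d4380b4340a4250c02c084280901d0681b058170381905418044140341003009014080100200c00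
noncomputable def c1cc0D (u : ℕ) : ℕ := Nat.land (Nat.shiftRight c1cc0Dd (Nat.mul u (nat_lit 10))) (nat_lit 1023)
noncomputable def c1cc0Pd : ℕ := nat_lit 0x31264ac417512164728722818ce7ea04f63176bccfc3e42288ab11301ccc83004a9c201f60bf8cce015c1928c48383d003c878e126a52fb14a44769079581146888d70a71355d05b4a94d4c3a4f8dd6edc80b34031054bc89c5430a2ce22e288b18d0925a32270c3a910730b5a82d5aef0c084983b6e871ae681b05d566c4ec017aae82240fe0d21a84f0fc6381990b05e2e1b2747da25dceb71874f27a0d2d1341b3b895467d5db29e076732e5ac9e708a136fa380b4ba264e1a89200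
noncomputable def c1cc0P (u : ℕ) : ℕ := Nat.land (Nat.shiftRight c1cc0Pd (Nat.mul u (nat_lit 9))) (nat_lit 511)
noncomputable def c1cc0Qd : ℕ := nat_lit 0x4d00905c7b9f004c486c50007f82003300005f3600869b2c2308000000000000965a00114421970020a30069000f00001f6b0b8400003f60000025003d0d6a0000730000009c5e00001200292b517680000087000000352713000e266100471a00a100280034457139005b008a65780015922e00630c37030919a600000067817900003200006f4e569e22000000009300009a7d31951400991c1d2d17104b248ea05507000000386d02003c0085008d00a7578f770005006800000000a5915866755300005900414f0001a27400004a2f00a4000094007c4064497a623b00000000988c005406528300000a00041600006e420088721e3e181b00433a000000000070897e00309d46008b00002a000000005d00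
noncomputable def c1cc0Q (u : ℕ) : ℕ := Nat.land (Nat.shiftRight c1cc0Qd (Nat.mul u (nat_lit 8))) (nat_lit 255)
noncomputable def c1cc0 : Lev := ⟨168, 4, c1cc0D, c1cc0P, c1cc0Q⟩
noncomputable def c1tn4Fd : ℕ := nat_lit 0x28f002ad0026900000002a08b40098019002000000a002c004640000109800805aa08c40f002a060280a822000000882800000000000a800060179002c000014c00148026d802000001583015035c6000157c800ab400c8015002cc0028000000a80000000000220401000000000000755a005000056008d400000158d0a06000d036c005737002608a6a00001000012c82e0002209800088297a800001e600023700300ad12000000a8400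
noncomputable def c1tn4F (u : ℕ) : ℕ := Nat.land (Nat.shiftRight c1tn4Fd (Nat.mul u (nat_lit 5))) (nat_lit 31)
noncomputable def c1tn4 : Nd := ⟨c1tn4F, (nat_lit 4), (nat_lit 4), [], [((nat_lit 0), []), ((nat_lit 0), [nat_lit 0]), ((nat_lit 0), [nat_lit 0, nat_lit 0])], []⟩
noncomputable def c2x_W : List (List ℕ) := [[nat_lit 0, nat_lit 1, nat_lit 2, nat_lit 1, nat_lit 2, nat_lit 1, nat_lit 2, nat_lit 1, nat_lit 0, nat_lit 4, nat_lit 3, nat_lit 2, nat_lit 1, nat_lit 2, nat_lit 1, nat_lit 2, nat_lit 5, nat_lit 4, nat_lit 3, nat_lit 2, nat_lit 0, nat_lit 2, nat_lit 0, nat_lit 2, nat_lit 0, nat_lit 2, nat_lit 6, nat_lit 5, nat_lit 4, nat_lit 3, nat_lit 2, nat_lit 6, nat_lit 2, nat_lit 5, nat_lit 4, nat_lit 3]]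
noncomputable def c2x_P : ℕ → ℕ → ℕ := wdsP H15.Co3.P c2x_W
noncomputable def c2th_W : List (List ℕ) := [[nat_lit 4, nat_lit 2, nat_lit 1, nat_lit 2, nat_lit 1, nat_lit 2, nat_lit 1, nat_lit 2, nat_lit 3, nat_lit 2, nat_lit 3, nat_lit 2, nat_lit 1, nat_lit 2, nat_lit 1, nat_lit 2, nat_lit 4, nat_lit 5, nat_lit 4, nat_lit 3, nat_lit 2, nat_lit 0, nat_lit 4, nat_lit 6, nat_lit 5, nat_lit 4, nat_lit 3, nat_lit 2, nat_lit 0, nat_lit 2, nat_lit 0, nat_lit 3, nat_lit 2, nat_lit 4, nat_lit 3, nat_lit 5, nat_lit 4],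
  [nat_lit 1, nat_lit 2, nat_lit 6, nat_lit 1, nat_lit 2, nat_lit 0, nat_lit 3, nat_lit 2, nat_lit 0, nat_lit 2, nat_lit 1, nat_lit 0, nat_lit 3, nat_lit 4, nat_lit 3, nat_lit 2, nat_lit 0, nat_lit 2, nat_lit 1, nat_lit 3, nat_lit 5, nat_lit 4, nat_lit 3, nat_lit 2, nat_lit 3, nat_lit 2, nat_lit 0, nat_lit 3, nat_lit 2, nat_lit 4, nat_lit 5, nat_lit 6, nat_lit 5, nat_lit 4, nat_lit 3, nat_lit 2, nat_lit 3, nat_lit 2, nat_lit 3, nat_lit 2],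
  [nat_lit 6, nat_lit 1, nat_lit 3, nat_lit 2, nat_lit 0, nat_lit 1, nat_lit 4, nat_lit 3, nat_lit 2, nat_lit 5, nat_lit 6, nat_lit 5, nat_lit 4, nat_lit 3, nat_lit 2, nat_lit 3, nat_lit 6, nat_lit 5, nat_lit 4, nat_lit 5],
  [nat_lit 6, nat_lit 3, nat_lit 2, nat_lit 1, nat_lit 2, nat_lit 0, nat_lit 4, nat_lit 3, nat_lit 2, nat_lit 0, nat_lit 2, nat_lit 3, nat_lit 2, nat_lit 4, nat_lit 5, nat_lit 4, nat_lit 3, nat_lit 2, nat_lit 3, nat_lit 2, nat_lit 3, nat_lit 2, nat_lit 6, nat_lit 5, nat_lit 4, nat_lit 3, nat_lit 2, nat_lit 0, nat_lit 6, nat_lit 5, nat_lit 2, nat_lit 5, nat_lit 6, nat_lit 5],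
  [nat_lit 6, nat_lit 0, nat_lit 1, nat_lit 2, nat_lit 1, nat_lit 3, nat_lit 2, nat_lit 1, nat_lit 2, nat_lit 1, nat_lit 2, nat_lit 4, nat_lit 3, nat_lit 2, nat_lit 3, nat_lit 2, nat_lit 3, nat_lit 4, nat_lit 2, nat_lit 5, nat_lit 4, nat_lit 3, nat_lit 2, nat_lit 1, nat_lit 2, nat_lit 3, nat_lit 4, nat_lit 2, nat_lit 3, nat_lit 6],
  [nat_lit 3, nat_lit 2, nat_lit 0, nat_lit 2, nat_lit 0, nat_lit 2, nat_lit 4, nat_lit 3, nat_lit 5, nat_lit 4, nat_lit 3, nat_lit 2, nat_lit 0, nat_lit 2, nat_lit 3, nat_lit 4, nat_lit 3, nat_lit 5, nat_lit 2, nat_lit 3, nat_lit 6, nat_lit 5, nat_lit 4, nat_lit 3, nat_lit 2, nat_lit 0, nat_lit 2, nat_lit 0, nat_lit 3, nat_lit 4, nat_lit 5],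
  [nat_lit 1, nat_lit 0, nat_lit 3, nat_lit 2, nat_lit 3, nat_lit 2, nat_lit 0, nat_lit 2, nat_lit 0, nat_lit 2, nat_lit 4, nat_lit 3, nat_lit 5, nat_lit 4, nat_lit 3, nat_lit 2, nat_lit 1, nat_lit 2, nat_lit 3, nat_lit 4, nat_lit 5, nat_lit 4, nat_lit 3, nat_lit 6, nat_lit 5, nat_lit 4, nat_lit 3, nat_lit 2, nat_lit 3, nat_lit 2, nat_lit 3, nat_lit 4, nat_lit 5],
  [nat_lit 6, nat_lit 2, nat_lit 1, nat_lit 2, nat_lit 1, nat_lit 2, nat_lit 1, nat_lit 5, nat_lit 4, nat_lit 3, nat_lit 2, nat_lit 0, nat_lit 2, nat_lit 3, nat_lit 4, nat_lit 2, nat_lit 5, nat_lit 6, nat_lit 5, nat_lit 4, nat_lit 3, nat_lit 2, nat_lit 0, nat_lit 2, nat_lit 3, nat_lit 4, nat_lit 5, nat_lit 4, nat_lit 6],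
  [nat_lit 2, nat_lit 3, nat_lit 2, nat_lit 3, nat_lit 2, nat_lit 0, nat_lit 2, nat_lit 5, nat_lit 4, nat_lit 3, nat_lit 2, nat_lit 3, nat_lit 2, nat_lit 5, nat_lit 2, nat_lit 6, nat_lit 5, nat_lit 4, nat_lit 3, nat_lit 2, nat_lit 0, nat_lit 2, nat_lit 4, nat_lit 5, nat_lit 0, nat_lit 1],
  [nat_lit 5, nat_lit 1, nat_lit 2, nat_lit 1, nat_lit 2, nat_lit 1, nat_lit 2, nat_lit 3, nat_lit 2, nat_lit 0, nat_lit 2, nat_lit 0, nat_lit 1, nat_lit 0, nat_lit 4, nat_lit 3, nat_lit 2, nat_lit 3, nat_lit 2, nat_lit 3, nat_lit 2, nat_lit 0, nat_lit 5, nat_lit 4, nat_lit 3, nat_lit 2, nat_lit 3, nat_lit 2, nat_lit 0, nat_lit 2, nat_lit 6, nat_lit 5, nat_lit 4, nat_lit 3, nat_lit 2, nat_lit 0, nat_lit 6, nat_lit 5, nat_lit 4],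
  [nat_lit 6, nat_lit 0, nat_lit 2, nat_lit 1, nat_lit 2, nat_lit 3, nat_lit 2, nat_lit 0, nat_lit 4, nat_lit 3, nat_lit 2, nat_lit 0, nat_lit 2, nat_lit 3, nat_lit 4, nat_lit 2, nat_lit 0, nat_lit 3, nat_lit 2, nat_lit 0, nat_lit 5, nat_lit 4, nat_lit 3, nat_lit 2, nat_lit 0, nat_lit 2, nat_lit 0, nat_lit 6, nat_lit 5, nat_lit 4, nat_lit 3, nat_lit 2, nat_lit 1, nat_lit 2, nat_lit 3, nat_lit 5, nat_lit 3],
  [nat_lit 6, nat_lit 4, nat_lit 2, nat_lit 0, nat_lit 1, nat_lit 0, nat_lit 3, nat_lit 2, nat_lit 1, nat_lit 2, nat_lit 0, nat_lit 4, nat_lit 5, nat_lit 4, nat_lit 3, nat_lit 2, nat_lit 1, nat_lit 2, nat_lit 0, nat_lit 3, nat_lit 6, nat_lit 5, nat_lit 4, nat_lit 3, nat_lit 2, nat_lit 0, nat_lit 2, nat_lit 0, nat_lit 5, nat_lit 3],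
  [nat_lit 1, nat_lit 2, nat_lit 0, nat_lit 2, nat_lit 0, nat_lit 1, nat_lit 0, nat_lit 2, nat_lit 3, nat_lit 2, nat_lit 0, nat_lit 2, nat_lit 3, nat_lit 2, nat_lit 4, nat_lit 3, nat_lit 2, nat_lit 1, nat_lit 5, nat_lit 4, nat_lit 3, nat_lit 2, nat_lit 0, nat_lit 2, nat_lit 3, nat_lit 2, nat_lit 6, nat_lit 5, nat_lit 4, nat_lit 3, nat_lit 2, nat_lit 0, nat_lit 2, nat_lit 0, nat_lit 3, nat_lit 2],
  [nat_lit 1, nat_lit 2, nat_lit 1, nat_lit 2, nat_lit 3, nat_lit 2, nat_lit 3, nat_lit 2, nat_lit 1, nat_lit 3, nat_lit 2, nat_lit 4, nat_lit 3, nat_lit 2, nat_lit 1, nat_lit 2, nat_lit 0, nat_lit 5, nat_lit 4, nat_lit 3, nat_lit 2, nat_lit 0, nat_lit 2, nat_lit 1, nat_lit 2, nat_lit 6, nat_lit 5, nat_lit 4, nat_lit 3, nat_lit 2, nat_lit 0, nat_lit 6, nat_lit 2, nat_lit 3, nat_lit 2],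
  [nat_lit 1],
  [nat_lit 3],
  [nat_lit 4],
  [nat_lit 5],
  [nat_lit 1, nat_lit 0, nat_lit 2, nat_lit 1, nat_lit 0, nat_lit 3, nat_lit 2, nat_lit 3, nat_lit 4, nat_lit 3, nat_lit 2, nat_lit 1, nat_lit 2, nat_lit 1, nat_lit 5, nat_lit 4, nat_lit 3, nat_lit 2, nat_lit 3, nat_lit 2, nat_lit 0, nat_lit 3, nat_lit 2, nat_lit 4, nat_lit 5, nat_lit 6, nat_lit 5, nat_lit 4, nat_lit 3, nat_lit 2, nat_lit 0, nat_lit 3],
  [nat_lit 0],
  [nat_lit 2],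
  [nat_lit 6],
  [nat_lit 2, nat_lit 0, nat_lit 1, nat_lit 0, nat_lit 2, nat_lit 0, nat_lit 2, nat_lit 1, nat_lit 3, nat_lit 2, nat_lit 3, nat_lit 4, nat_lit 3, nat_lit 2, nat_lit 0, nat_lit 2, nat_lit 4, nat_lit 3, nat_lit 2, nat_lit 4, nat_lit 5, nat_lit 4, nat_lit 3, nat_lit 2, nat_lit 0, nat_lit 2, nat_lit 3, nat_lit 6, nat_lit 5, nat_lit 4, nat_lit 3, nat_lit 2, nat_lit 6, nat_lit 2, nat_lit 6]]
noncomputable def c2th_P : ℕ → ℕ → ℕ := wdsP H15.Co3.P c2th_W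
noncomputable def c2tl0Dd : ℕ := nat_lit 0xacf4c7280131b808bc51f08fdf3c738bce0825c6a4b2457e0b666e732955b8db7534ab6d476a7f08428353be22f285260d1c68cc5ea13150848e2465a5acffaa9353e21bd6ee8414151e28ee61303fe2c6d0dc7e52291e80e8a72e0d11b482328123fdaa4481a7444cb1dc415c11b43621547be9954f81b40d749393f101f01380943b7997c1721784851f2867c7853b71978c3480e0272090f367840429db4cba6cd3501d58f3476c0349ad8e206e232d9b2ccb454a2dd18acc545fd2f3173c89c5fc2e7162889a5892b994b8a3044c05e8f104b054426981106fe0bf039918489439519d0eac64622a109817089241c05e10c86fa3390e70b7891805f1d48c845e818920d0fb48603a81f60ac06f43a718f8fac0c237919a8e9863c03716d0ab809437819a018c63a2f016c81dc66603a18e0bbc5b006001c00ec5dc2d702480a404202403d8aa80c826a12a00bc4a423c00c08383ee1c90ce094036424f0d886683081dd0ee06bc3302090ed80740621da0cb006832a17f00b00cc1ee08c07000d41ec0df00f01d406405e00d80d803e0cc05b02d013c0b2044031816208703882c00e00af04d016410808303680c00d604301580fc07a03c0128050026000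
noncomputable def c2tl0D (u : ℕ) : ℕ := Nat.land (Nat.shiftRight c2tl0Dd (Nat.mul u (nat_lit 13))) (nat_lit 8191)
noncomputable def c2tl0Pd : ℕ := nat_lit 0x11909685b430d17a652825c409d452694cde638e454537d294c8891996972540f2ad06cd78344d67a68101b7123bc042cdc86be052f5193952cc01d0f8e4b3139c0485842278e8667612a00e45f19e189244068f2c86fb8cf0591597d7eca17a914269279b9fa3c4fadd98a9749060e442b3f9f61169089e24d7b04d36855d2b9b27e77ac51e7f593848e71703fd30c32e80042c17133988680c2312a9045a721d135c18d6ca7369246c17563a8910540a88e60c742bc76ee84410a2eb4c9d8fa3821a0a124c230d4502d30be5babb229b04a875e2505c7c0a239ac37162807e5761148c4755a83cdeed0e35546e73520036c96c3c99f0b6a2460caa4987462a88115560e66b84002d31818006082f23408f32e014967b7e03a22150304816f40f8658c4e7bc0db4c55680a210f850987a0903b2c140d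
noncomputable def c2tl0P (u : ℕ) : ℕ := Nat.land (Nat.shiftRight c2tl0Pd (Nat.mul u (nat_lit 9))) (nat_lit 511)
noncomputable def c2tl0Qd : ℕ := nat_lit 0x423b0320904215cecd1c01cca6f588d4f06e070bdd4d14b2b9721b56bfcbce607a9dc814100e952f34f9c088d3361e96673200b1c4d06323d349763c10bae876835423b159448437142ade4ef1ca39e8b50130078c881844188d4a12d20e060b3e1a572e28df2835b2048f116e26d3c2d39288167b7b0d1683040415fcbe209d97a4e5bb5a108652c18d69585385125619b306c884e948448a43c1df8cb2c43d48d77a998ee3e4e280d2540e3c192c5759a890d53ab7530da22ae8fe5a788fd788c6735218fd41124be266108d261f883e988d8262bc5cf880128db0b5d84150640eb48fc794c98cb6b033c4964ee26b780ab838b7e0468281f4c50e7db8c62275f954c04f61c05ca616d818b2d989aa9230909bdc64431eb28248b3e3a4305353059582a2306800740a80408240185c3c21128285292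
noncomputable def c2tl0Q (u : ℕ) : ℕ := Nat.land (Nat.shiftRight c2tl0Qd (Nat.mul u (nat_lit 9))) (nat_lit 511)
noncomputable def c2tl0 : Lev := ⟨276, 23, c2tl0D, c2tl0P, c2tl0Q⟩
noncomputable def c2tl1Dd : ℕ := nat_lit 0x1b1492516c5e7c27603302b13b3e01d14fb8827a869efeec24fa0ba83129490bb0581dcc27a7603648f7429d39ab77064c0aa0e98700d60ce6631b34c276bf007b8344438b915b62d64162a4f556aa1d6aea280dca5ad3dea73047293544e9c94b5226905081524e29c88eca2622822650e68603c81df482e37f1b60d64f6a6f80cba04d1c67301901e8455c0af03881b0f4070937b1b94dc823c0399b44d0c64d31d1930c7221634b1978c966702d118dcbb406a2d095a4b1c53028515a0aaa542255959ca104971f68e8471c3682b310e06aa52d25490946841912418ffc65e0421c68d9c6124111ff117071837902f01586cc05918d89c468011f0228ec465a2e21c58de0096365141811860e27012f0bd01a6282125823460c26f12e88e05e60ad14a0a04494248109084444605710800e408820f02787ac3f81d80f506cc38a1a002887a42ce03e0d885500a619e0bc850425c11b0c586c02f014008d01403140cf0a900c82ee12c08c841c0380f401c00c00660ce0a882ec15205400f82e81e40df0128074040041053809c14c031016007802c02b04b00b412a01802700a803409303780ec0dc01700900b80da01b014012002a035011804001c000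
noncomputable def c2tl1D (u : ℕ) : ℕ := Nat.land (Nat.shiftRight c2tl1Dd (Nat.mul u (nat_lit 13))) (nat_lit 8191)
noncomputable def c2tl1Pd : ℕ := nat_lit 0x281b89a15addb6bd212e5d2d14bc1d1c5f453389e7a118693c32102d9ca70621f0d8f11a19a1074633f9e650020a8521e602113ae319875065b80805e492893f422ea01c151edd7135c14414b2ccee577cb206273561e0dccc65264288903ab81ed5443edb27587409445a88a5182c3582350ad670b7d649b5dc19bc7975bb850a952a718e48321fd4cd21eb910e583f11430c232944c2760cb3412f886134d4af35ad208930e008807d25a085ad37b0e86010392a0181746055f4be1bc2cd2c9743b520ec2a8b900210da620095522f19e537391d170953948bc3f160e620fc3398ca90d120f026e67ab1596a32c911e10a778f8985c3020542da37a4556164fbd06c3b21ab4c4ba6a3609427001c5c11324afc6aff58894445d041a09c2f5c1b4700b132d40ad0431181c5681aa9ee060943cf61f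
noncomputable def c2tl1P (u : ℕ) : ℕ := Nat.land (Nat.shiftRight c2tl1Pd (Nat.mul u (nat_lit 9))) (nat_lit 511)
noncomputable def c2tl1Qd : ℕ := nat_lit 0x1036d664d012dc9087350f0a8f183299ac8103ad9be5d0e3b9b44c5d1b59688029dc862e76b75e83d1da88cc6451b6212672b911f2967234d562155295a911868d17226692b178273c262100c2cc0914c420b0cd0ca4ebbc84f75824162e70f1b2185a538a21413873e81c82672a436af422f854c718819407229a653e5b202d46b1217bf5ca9e54441845e83b3cb8b24037064656ac155c6f2ac0d80bb4a82d5ae6709e86c614d24cf8f600c0148c666a3170f0641cc44f819b1424f541a14d21625bc91e9b250a51a37821443038702d07e9466020c6492c1491cec808550c393d8943e9c2b029243e15c2da07d280e92e46161d89c11358b43af371bf192750a188f24f87ba9d2a11203c34477f864c0fb003a1c47f2fbf91691380c0dcc12280db2745e82400710834512175f8101aeb6b9f9bc23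
noncomputable def c2tl1Q (u : ℕ) : ℕ := Nat.land (Nat.shiftRight c2tl1Qd (Nat.mul u (nat_lit 9))) (nat_lit 511)
noncomputable def c2tl1 : Lev := ⟨275, 19, c2tl1D, c2tl1P, c2tl1Q⟩
noncomputable def c2tl2Dd : ℕ := nat_lit 0xd4a90999f6b45a2651dd73d78765d46bfe4b31d65014d414f77e9d0495173e8f8464ef3b4de2fd3137d073b902344c2434b42c8954aca443c984b5114a91c1f46e1746c3c86f180e54486114904374f61fccf18cb311c972245f104444a0424690c0d8fe0d0f00dc6a3882b10c351c832098290681806c0f0701407c110842305420048240581e0400c03400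
noncomputable def c2tl2D (u : ℕ) : ℕ := Nat.land (Nat.shiftRight c2tl2Dd (Nat.mul u (nat_lit 10))) (nat_lit 1023)
noncomputable def c2tl2Pd : ℕ := nat_lit 0x2c445550e150acfd12412cd2e5f68a1872e17009422654a1002ea5212d1db06532fd088c27b1506eb6c26dd22434990fee44c2486e1a55969f6e56f3b8b70316b5cea3242c3e18c960b5052777fb5944c3661b48aec752b0f46858ac96c36679ba045d3d9e18ece7a1188281179e45cb02b340e8f7711c488381a0899a61
noncomputable def c2tl2P (u : ℕ) : ℕ := Nat.land (Nat.shiftRight c2tl2Pd (Nat.mul u (nat_lit 9))) (nat_lit 511)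
noncomputable def c2tl2Qd : ℕ := nat_lit 0x1a370065b003100000000150000706400056000007a000001000013000000000eaaa4988e4800001e44001f05f00ec000000004b6ca802e000318a36500a700018002a027005001780a40000000000000074056cc78f8c00000227fb4000014ec0000a400000000009400043ca0005b01080000000050000000001899d19b9c8008ba40002e847165801a890000300006930000023a00002e460000000c800c0072f806f002c00000000009e0000000000000049285015c8da00000000003084827000300d00001e35b80d5ad6800002f48000800000000000100000b2000000002e800000000000000000000000000000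
noncomputable def c2tl2Q (u : ℕ) : ℕ := Nat.land (Nat.shiftRight c2tl2Qd (Nat.mul u (nat_lit 7))) (nat_lit 127)
noncomputable def c2tl2 : Lev := ⟨112, 14, c2tl2D, c2tl2P, c2tl2Q⟩
noncomputable def c2tl3Dd : ℕ := nat_lit 0x226ca592fd1c6f229c0625f2b91c765c10888c4192b08c2a0d0b8481e130a0381600
noncomputable def c2tl3D (u : ℕ) : ℕ := Nat.land (Nat.shiftRight c2tl3Dd (Nat.mul u (nat_lit 9))) (nat_lit 511)
noncomputable def c2tl3Pd : ℕ := nat_lit 0x222922c2a9690615a94bed12db24808327b94ca7a209f92ee15938104b3870c88417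
noncomputable def c2tl3P (u : ℕ) : ℕ := Nat.land (Nat.shiftRight c2tl3Pd (Nat.mul u (nat_lit 9))) (nat_lit 511)
noncomputable def c2tl3Qd : ℕ := nat_lit 0x3a000c00000000600000000000000000000000000000000000000001c000106000000000000000002800000000240000000000000000000000001921c000000006800002c0000000000000000480000700000000000000000081400028000300000000000000000000000001a000000a80009801b0000000000780000000000000005710000000000000000080000000b800000000000000000000000000000000000000000000000000000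
noncomputable def c2tl3Q (u : ℕ) : ℕ := Nat.land (Nat.shiftRight c2tl3Qd (Nat.mul u (nat_lit 5))) (nat_lit 31)
noncomputable def c2tl3 : Lev := ⟨30, 12, c2tl3D, c2tl3P, c2tl3Q⟩
noncomputable def c2tl4Dd : ℕ := nat_lit 0xba78de864b503645382b225a1f4f2044172314150c0e120f0d0a00
noncomputable def c2tl4D (u : ℕ) : ℕ := Nat.land (Nat.shiftRight c2tl4Dd (Nat.mul u (nat_lit 8))) (nat_lit 255)
noncomputable def c2tl4Pd : ℕ := nat_lit 0x1612440709f8647a2db24bee570109046520a0e0d0e59ac92e4f68a9456b4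
noncomputable def c2tl4P (u : ℕ) : ℕ := Nat.land (Nat.shiftRight c2tl4Pd (Nat.mul u (nat_lit 9))) (nat_lit 511)
noncomputable def c2tl4Qd : ℕ := nat_lit 0x200000000024000000000000000000000000000000000000000200002ef0000000000000000006000000002400000000000000000000000000398000000000000000400000000000000002800006400000000000000000534000580005000000000000000000000000018000000880009801a00000000002000000000000000397800000000000000005400000000800000000000000000000000000000000000000000000000000000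
noncomputable def c2tl4Q (u : ℕ) : ℕ := Nat.land (Nat.shiftRight c2tl4Qd (Nat.mul u (nat_lit 5))) (nat_lit 31)
noncomputable def c2tl4 : Lev := ⟨27, 11, c2tl4D, c2tl4P, c2tl4Q⟩
noncomputable def c2tl5Dd : ℕ := nat_lit 0xc065635947454931334a291d1f133e0b0901060307080200
noncomputable def c2tl5D (u : ℕ) : ℕ := Nat.land (Nat.shiftRight c2tl5Dd (Nat.mul u (nat_lit 8))) (nat_lit 255)
noncomputable def c2tl5Pd : ℕ := nat_lit 0x59325ca832096d4ad12fc18ca2b3f25c80e1279e9670e702088432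
noncomputable def c2tl5P (u : ℕ) : ℕ := Nat.land (Nat.shiftRight c2tl5Pd (Nat.mul u (nat_lit 9))) (nat_lit 511)
noncomputable def c2tl5Qd : ℕ := nat_lit 0x1000000000380000000000000000000000000000000000000002a0001030000000000000000020000000002c000000000000000000000000002dc000000000000002200000000000000005000000000000000000000000a080002c000180000000000000000000000001a000000780009000000000000003800000000000000066900000000000000000000000006000000000000000000000000000000000000000000000000000000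
noncomputable def c2tl5Q (u : ℕ) : ℕ := Nat.land (Nat.shiftRight c2tl5Qd (Nat.mul u (nat_lit 5))) (nat_lit 31)
noncomputable def c2tl5 : Lev := ⟨24, 10, c2tl5D, c2tl5P, c2tl5Q⟩
noncomputable def c2tl6Dd : ℕ := nat_lit 4
noncomputable def c2tl6D (u : ℕ) : ℕ := Nat.land (Nat.shiftRight c2tl6Dd (Nat.mul u (nat_lit 1))) (nat_lit 1)
noncomputable def c2tl6Pd : ℕ := nat_lit 0xa54fd1
noncomputable def c2tl6P (u : ℕ) : ℕ := Nat.land (Nat.shiftRight c2tl6Pd (Nat.mul u (nat_lit 8))) (nat_lit 255)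
noncomputable def c2tl6Qd : ℕ := nat_lit 0x80000000000000000000000000000000000000000004000000000000000000000000000000000000000
noncomputable def c2tl6Q (u : ℕ) : ℕ := Nat.land (Nat.shiftRight c2tl6Qd (Nat.mul u (nat_lit 2))) (nat_lit 3)
noncomputable def c2tl6 : Lev := ⟨3, 1, c2tl6D, c2tl6P, c2tl6Q⟩
noncomputable def c2ce_W : List (List ℕ) := [[nat_lit 1, nat_lit 2, nat_lit 3, nat_lit 2, nat_lit 0, nat_lit 2, nat_lit 0, nat_lit 2, nat_lit 4, nat_lit 3, nat_lit 2, nat_lit 1, nat_lit 2, nat_lit 1, nat_lit 2, nat_lit 5, nat_lit 4, nat_lit 3, nat_lit 2, nat_lit 3, nat_lit 6, nat_lit 5, nat_lit 4, nat_lit 3, nat_lit 2, nat_lit 3, nat_lit 6, nat_lit 5, nat_lit 2, nat_lit 0],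
  [nat_lit 2, nat_lit 0, nat_lit 1, nat_lit 0, nat_lit 2, nat_lit 1, nat_lit 2, nat_lit 1, nat_lit 3, nat_lit 2, nat_lit 3, nat_lit 2, nat_lit 4, nat_lit 3, nat_lit 2, nat_lit 3, nat_lit 2, nat_lit 3, nat_lit 2, nat_lit 4, nat_lit 5, nat_lit 4, nat_lit 6, nat_lit 5, nat_lit 4, nat_lit 3, nat_lit 2, nat_lit 1, nat_lit 2, nat_lit 3, nat_lit 4, nat_lit 2, nat_lit 3, nat_lit 2, nat_lit 5, nat_lit 2, nat_lit 6],
  [nat_lit 4, nat_lit 0, nat_lit 2, nat_lit 0, nat_lit 1, nat_lit 0, nat_lit 3, nat_lit 2, nat_lit 0, nat_lit 2, nat_lit 1, nat_lit 4, nat_lit 3, nat_lit 2, nat_lit 1, nat_lit 2, nat_lit 1, nat_lit 5, nat_lit 6, nat_lit 5, nat_lit 4, nat_lit 3, nat_lit 2, nat_lit 1, nat_lit 2, nat_lit 3, nat_lit 2, nat_lit 4, nat_lit 5],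
  [nat_lit 3, nat_lit 1, nat_lit 2, nat_lit 1, nat_lit 2, nat_lit 1, nat_lit 0, nat_lit 2, nat_lit 3, nat_lit 2, nat_lit 1, nat_lit 2, nat_lit 4, nat_lit 3, nat_lit 2, nat_lit 0, nat_lit 2, nat_lit 0, nat_lit 1, nat_lit 4, nat_lit 3, nat_lit 5, nat_lit 4, nat_lit 3, nat_lit 2, nat_lit 3, nat_lit 2, nat_lit 3, nat_lit 2, nat_lit 6, nat_lit 5]]
noncomputable def c2ce_P : ℕ → ℕ → ℕ := wdsP H15.Co3.P c2ce_W
noncomputable def c2cc3Dd : ℕ := nat_lit 0x390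
noncomputable def c2cc3D (u : ℕ) : ℕ := Nat.land (Nat.shiftRight c2cc3Dd (Nat.mul u (nat_lit 2))) (nat_lit 3)
noncomputable def c2cc3Pd : ℕ := nat_lit 0x3241b4d117
noncomputable def c2cc3P (u : ℕ) : ℕ := Nat.land (Nat.shiftRight c2cc3Pd (Nat.mul u (nat_lit 8))) (nat_lit 255)
noncomputable def c2cc3Qd : ℕ := nat_lit 0x8000000000000000000002000000000000000000000000000000000000000000000000000000000000000000000000000000000000018000000000100000000000000000000000000000000000000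
noncomputable def c2cc3Q (u : ℕ) : ℕ := Nat.land (Nat.shiftRight c2cc3Qd (Nat.mul u (nat_lit 3))) (nat_lit 7)
noncomputable def c2cc3 : Lev := ⟨5, 1, c2cc3D, c2cc3P, c2cc3Q⟩
noncomputable def c2tn0Fd : ℕ := nat_lit 0x266208842066484822048461111010
noncomputable def c2tn0F (u : ℕ) : ℕ := Nat.land (Nat.shiftRight c2tn0Fd (Nat.mul u (nat_lit 4))) (nat_lit 15)
noncomputable def c2tn0 : Nd := ⟨c2tn0F, (nat_lit 2), (nat_lit 1), [], [((nat_lit 0), []), ((nat_lit 0), [nat_lit 0]), ((nat_lit 0), [nat_lit 0, nat_lit 0]), ((nat_lit 0), [nat_lit 0, nat_lit 0, nat_lit 0]), ((nat_lit 1), [nat_lit 0, nat_lit 0, nat_lit 0, nat_lit 0])], []⟩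
noncomputable def c2cc2Dd : ℕ := nat_lit 2
noncomputable def c2cc2D (u : ℕ) : ℕ := Nat.land (Nat.shiftRight c2cc2Dd (Nat.mul u (nat_lit 1))) (nat_lit 1)
noncomputable def c2cc2Pd : ℕ := nat_lit 0xfb61
noncomputable def c2cc2P (u : ℕ) : ℕ := Nat.land (Nat.shiftRight c2cc2Pd (Nat.mul u (nat_lit 8))) (nat_lit 255)
noncomputable def c2cc2Qd : ℕ := nat_lit 0x800000000000000000000000000000000000000000000000000000000000000
noncomputable def c2cc2Q (u : ℕ) : ℕ := Nat.land (Nat.shiftRight c2cc2Qd (Nat.mul u (nat_lit 1))) (nat_lit 1)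
noncomputable def c2cc2 : Lev := ⟨2, 2, c2cc2D, c2cc2P, c2cc2Q⟩
noncomputable def c2tn1Fd : ℕ := nat_lit 0x9593527677577649556645974373233274562495532723475507937296574741722555966174279633742935555756597517114171111610
noncomputable def c2tn1F (u : ℕ) : ℕ := Nat.land (Nat.shiftRight c2tn1Fd (Nat.mul u (nat_lit 4))) (nat_lit 15)
noncomputable def c2tn1 : Nd := ⟨c2tn1F, (nat_lit 2), (nat_lit 2), [[nat_lit 0]], [((nat_lit 0), [])], []⟩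
noncomputable def c2cc1Dd : ℕ := nat_lit 0x84520
noncomputable def c2cc1D (u : ℕ) : ℕ := Nat.land (Nat.shiftRight c2cc1Dd (Nat.mul u (nat_lit 4))) (nat_lit 15)
noncomputable def c2cc1Pd : ℕ := nat_lit 0x4e6196fb1f
noncomputable def c2cc1P (u : ℕ) : ℕ := Nat.land (Nat.shiftRight c2cc1Pd (Nat.mul u (nat_lit 8))) (nat_lit 255)
noncomputable def c2cc1Qd : ℕ := nat_lit 0x200000000000000000000000000000000000000000000000000000000000000000000000000080000000000000000000000000000000000000018000000000000100000000000000000000000000000000000000000000000000000000000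
noncomputable def c2cc1Q (u : ℕ) : ℕ := Nat.land (Nat.shiftRight c2cc1Qd (Nat.mul u (nat_lit 3))) (nat_lit 7)
noncomputable def c2cc1 : Lev := ⟨5, 3, c2cc1D, c2cc1P, c2cc1Q⟩
noncomputable def c2tn2Fd : ℕ := nat_lit 0x216b5c5a4734e88c5ad6c5686aa2a6923042a0b82daa7290d4aa30446056a96b2a9ca728901aa318c4c703a878ae2a3c09184db483548380ee5b54641e136b5cd829ca1b9c348dd06ae083b56d9adae5c1d18a00e48d7031dca6914b39d6d3b56e22d07511ada1510828e86a5cb399488ad4d538ca5c60e3960d6a505539cb69c6853a08528ed5216e73607429a78a20d540a46a4c953a282aa715b8e78340e0a94e30471585b41c42108420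
noncomputable def c2tn2F (u : ℕ) : ℕ := Nat.land (Nat.shiftRight c2tn2Fd (Nat.mul u (nat_lit 5))) (nat_lit 31)
noncomputable def c2tn2 : Nd := ⟨c2tn2F, (nat_lit 3), (nat_lit 3), [[nat_lit 0]], [((nat_lit 0), [])], []⟩
noncomputable def c2cc0Dd : ℕ := nat_lit 0xe57630
noncomputable def c2cc0D (u : ℕ) : ℕ := Nat.land (Nat.shiftRight c2cc0Dd (Nat.mul u (nat_lit 4))) (nat_lit 15)
noncomputable def c2cc0Pd : ℕ := nat_lit 0x4efb961f610d
noncomputable def c2cc0P (u : ℕ) : ℕ := Nat.land (Nat.shiftRight c2cc0Pd (Nat.mul u (nat_lit 8))) (nat_lit 255)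
noncomputable def c2cc0Qd : ℕ := nat_lit 0x8000000000000000000000000000000000000000000000000000000000000000000000000000c0000000000000000000000000000000000000008000000000000140000000000000000000000000000000000400000000000000000000000
noncomputable def c2cc0Q (u : ℕ) : ℕ := Nat.land (Nat.shiftRight c2cc0Qd (Nat.mul u (nat_lit 3))) (nat_lit 7)
noncomputable def c2cc0 : Lev := ⟨6, 4, c2cc0D, c2cc0P, c2cc0Q⟩
noncomputable def c2tn3Fd : ℕ := nat_lit 0xb39ed529f27d5723c62d5cd4c9da52949c8929ed6ba53949316a671212675380b946539b5ea5ba75bbda953df77396974de9b5e559b9cf72a4b939c67cdb37ac1592caa74e2a8c9ed4bdce8dd0f9adcb7df4b8cdf1749ad69a497a64e9c62e74e6a6b5ef8d5374bdab8d9539bd317cd4f031335da6622df299de7996d2abdae7ddd2bc6ad515d19da2ab95f28b24f719cd7a22e9a12e7348d7ca4f4d653b31b203a209b66b748330a9e998420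
noncomputable def c2tn3F (u : ℕ) : ℕ := Nat.land (Nat.shiftRight c2tn3Fd (Nat.mul u (nat_lit 5))) (nat_lit 31)
noncomputable def c2tn3 : Nd := ⟨c2tn3F, (nat_lit 4), (nat_lit 4), [[nat_lit 0]], [((nat_lit 0), [])], []⟩
noncomputable def c3x_W : List (List ℕ) := [[nat_lit 0, nat_lit 2, nat_lit 0, nat_lit 1, nat_lit 3, nat_lit 2, nat_lit 1, nat_lit 2, nat_lit 1, nat_lit 2, nat_lit 3, nat_lit 2, nat_lit 4, nat_lit 3, nat_lit 2, nat_lit 0, nat_lit 4, nat_lit 5, nat_lit 4, nat_lit 3, nat_lit 2, nat_lit 1, nat_lit 2, nat_lit 1, nat_lit 2, nat_lit 6, nat_lit 5, nat_lit 4, nat_lit 3, nat_lit 2, nat_lit 6, nat_lit 2, nat_lit 0, nat_lit 1, nat_lit 0]]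
noncomputable def c3x_P : ℕ → ℕ → ℕ := wdsP H15.Co3.P c3x_W
noncomputable def c3th_W : List (List ℕ) := [[nat_lit 1, nat_lit 3, nat_lit 2, nat_lit 1, nat_lit 2, nat_lit 3, nat_lit 4, nat_lit 3, nat_lit 2, nat_lit 0, nat_lit 2, nat_lit 1, nat_lit 0, nat_lit 3, nat_lit 6, nat_lit 5, nat_lit 4, nat_lit 3, nat_lit 2, nat_lit 0, nat_lit 6, nat_lit 5, nat_lit 2, nat_lit 3, nat_lit 5],
  [nat_lit 6, nat_lit 3, nat_lit 2, nat_lit 3, nat_lit 5, nat_lit 6, nat_lit 1],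
  [nat_lit 1, nat_lit 3, nat_lit 2, nat_lit 0, nat_lit 4, nat_lit 3, nat_lit 2, nat_lit 1, nat_lit 2, nat_lit 0, nat_lit 1, nat_lit 3, nat_lit 4, nat_lit 6, nat_lit 5, nat_lit 4, nat_lit 3, nat_lit 2, nat_lit 0, nat_lit 2, nat_lit 0, nat_lit 3, nat_lit 4, nat_lit 5, nat_lit 6, nat_lit 3],
  [nat_lit 2, nat_lit 0, nat_lit 2, nat_lit 0, nat_lit 1, nat_lit 0, nat_lit 2, nat_lit 1, nat_lit 3, nat_lit 4, nat_lit 3, nat_lit 2, nat_lit 1, nat_lit 5, nat_lit 6, nat_lit 5, nat_lit 4, nat_lit 3, nat_lit 2, nat_lit 0, nat_lit 1],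
  [nat_lit 3, nat_lit 2, nat_lit 1, nat_lit 2, nat_lit 3, nat_lit 4, nat_lit 3, nat_lit 2, nat_lit 1, nat_lit 2, nat_lit 0, nat_lit 5, nat_lit 4, nat_lit 3, nat_lit 2, nat_lit 0, nat_lit 2, nat_lit 0, nat_lit 2, nat_lit 0, nat_lit 4, nat_lit 6, nat_lit 5, nat_lit 4, nat_lit 3, nat_lit 2, nat_lit 1, nat_lit 2, nat_lit 3, nat_lit 4, nat_lit 2, nat_lit 3],
  [nat_lit 3, nat_lit 2, nat_lit 0, nat_lit 2, nat_lit 0, nat_lit 2, nat_lit 4, nat_lit 3, nat_lit 2, nat_lit 3, nat_lit 2, nat_lit 0, nat_lit 3, nat_lit 2, nat_lit 4, nat_lit 3, nat_lit 5, nat_lit 4, nat_lit 3, nat_lit 2, nat_lit 1, nat_lit 2, nat_lit 0, nat_lit 3, nat_lit 4, nat_lit 1],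
  [nat_lit 6],
  [nat_lit 2, nat_lit 1, nat_lit 2, nat_lit 0, nat_lit 2, nat_lit 3, nat_lit 2, nat_lit 0, nat_lit 1, nat_lit 4, nat_lit 3, nat_lit 2, nat_lit 3, nat_lit 2, nat_lit 3, nat_lit 5, nat_lit 4, nat_lit 3, nat_lit 2, nat_lit 3, nat_lit 2, nat_lit 3, nat_lit 2, nat_lit 4, nat_lit 5, nat_lit 6, nat_lit 5, nat_lit 4, nat_lit 3, nat_lit 2, nat_lit 3, nat_lit 6, nat_lit 2, nat_lit 6],
  [nat_lit 0],
  [nat_lit 1],
  [nat_lit 4],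
  [nat_lit 5],
  [nat_lit 0, nat_lit 3, nat_lit 2, nat_lit 0, nat_lit 2, nat_lit 0, nat_lit 1, nat_lit 0, nat_lit 2, nat_lit 4, nat_lit 3, nat_lit 2, nat_lit 1, nat_lit 2, nat_lit 1, nat_lit 2, nat_lit 3, nat_lit 5, nat_lit 4, nat_lit 3, nat_lit 2, nat_lit 0, nat_lit 2, nat_lit 0, nat_lit 3, nat_lit 5, nat_lit 4, nat_lit 6, nat_lit 5, nat_lit 4, nat_lit 3, nat_lit 2, nat_lit 0, nat_lit 2, nat_lit 0, nat_lit 3, nat_lit 4, nat_lit 3],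
  [nat_lit 2],
  [nat_lit 3],
  [nat_lit 5, nat_lit 6, nat_lit 0, nat_lit 1, nat_lit 0, nat_lit 2, nat_lit 0, nat_lit 2, nat_lit 1, nat_lit 2, nat_lit 3, nat_lit 2, nat_lit 1, nat_lit 2, nat_lit 1, nat_lit 4, nat_lit 3, nat_lit 2, nat_lit 3, nat_lit 5, nat_lit 4, nat_lit 3, nat_lit 2, nat_lit 3, nat_lit 2, nat_lit 3, nat_lit 5, nat_lit 6, nat_lit 5, nat_lit 4, nat_lit 3, nat_lit 2, nat_lit 0, nat_lit 6, nat_lit 5, nat_lit 4]]
noncomputable def c3th_P : ℕ → ℕ → ℕ := wdsP H15.Co3.P c3th_W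
noncomputable def c3tl0Dd : ℕ := nat_lit 0xf39dd1f26c41b3aaab393b39cb6c968ddc86c46ac98cd89d84eb86a09941155145047b36a388dba189698ea172aa68ba80d1e086ba2684182b84a83180b73e9468496ee87880a1707e18d68688487db7cb6fd1e30f28b67d18097bb7f964e15076175b80875173171b66d65d63d5fe1107117016f16eb62d7b973a72a61d60d5fd0a26ea1638067b87396f967b65b63b59d7487386f869a61b55d6e85f11235e17966395bb53d0850756295b17365910656f66385f958155b52d59a6e65f859964663654a53a52b5980726265214bd5f600f0245960520350144da4ba08006046a43a35d0503f13e130d2fd28e40a09304043839a35b0733513e935a3892ab43639830a2ea2a128b05328135826b0430253d63a626a21d0152d825a36624a26824921a2011eb2662192181da1c11d91ca15d11e1811e817b17111d1611511e61a81790ed1310dd0cd17813a1490131a61291191010f10e10cb1761380ea0ad1180ca0d90c90ab0c80e60a90c609d06e07d06d09b08b05d08106b04d06a09805103d06804105804903b06603105603802102a01b01101901801600e00d000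
noncomputable def c3tl0D (u : ℕ) : ℕ := Nat.land (Nat.shiftRight c3tl0Dd (Nat.mul u (nat_lit 12))) (nat_lit 4095)
noncomputable def c3tl0Pd : ℕ := nat_lit 0x2ea29c84c390fdb90c0a28444cd1a341faa62916c4e183cbc05e2c42150cc891c8c970452ca6854d783becc46b061902c1c20b0088df2307884356522c5c9f1bba842137aa20f86824a4834381dc201e337c05cc6286936c56b971bd99c7d23959064f219c20a690ea05e25e599e93a57398f8be4a799546c78303104099438c42286329d958612031dd901548a44a771e2bd1aeb5f378dae52e25e264d4f2f56c4b12259acc2822f1d29c529c536740dc39fc232d28128b424239f2e15d41a24bb699b96ecc1694557022c2090a755114ca0d907035910933b75cced57435a2e047c2c9cfc7bac5c4c13604130c3539a964a367b5148900a82874f249b6192ee0cba0fe268531923007a2555afa1832cfc805ab55190300ac000ef73bfe20076d4440b0f3d82d50bf1e8241002091bc0c1f6280d5404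
noncomputable def c3tl0P (u : ℕ) : ℕ := Nat.land (Nat.shiftRight c3tl0Pd (Nat.mul u (nat_lit 9))) (nat_lit 511)
noncomputable def c3tl0Qd : ℕ := nat_lit 0x449a42415081d89d0c250aca8ce779a9727f0e18130280b1d60a4877090dacb23b09ae27558d16afe0c0c0a09948368fa2e0b945191161914d84c72238a50d6304cb032782043c3a33b1c9b061db0610641137c62554d0a806a62020088e60623d0c7e341ad88f532a143e70598f48c1a4913c4a9d308052e0d1fc10f6391e16e14726e21d627c3cbc94841452084c7119b485238259b9221d6f449f0d651a80bafb5e9796c201688580d507ac9fea84a278b87857c3cf4ba031991a43760f970d429be53eea64bb538a756ad2268b811cde65f582f954fa2d40cc4595e1251110422b1a66f5fb8de8e55db85ce9b872b81693678d5eed06daa5c107663d944237eb74c6fc62bc52cc8808b12a833a425b2a5023896ee83bb445f00653a46f0b6c01d42426695caceb070d814090a0142200010203619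
noncomputable def c3tl0Q (u : ℕ) : ℕ := Nat.land (Nat.shiftRight c3tl0Qd (Nat.mul u (nat_lit 9))) (nat_lit 511)
noncomputable def c3tl0 : Lev := ⟨276, 16, c3tl0D, c3tl0P, c3tl0Q⟩
noncomputable def c3tl1Dd : ℕ := nat_lit 0xc8cc24bd6bb9b77b6ab3ab50b75b68b36aecb1cadfaf5ab5b3428aa4db32acca98a4bad7908925918a3d1a0ab0862845a96a3b9538ab82a91287786a13d8aa88384f7b58281967ce75a72a7036e67b38260936977b165a68a6306236165e512b5cb5ae62e5976215d45536c762d5ed5396936135d355f4eb6795ec5924d165f6455b852b4c74aa5ab62b4c30d061157752a49c45c44f5434824751145ea4dc42803b5b65290fa5a94e847402e3da5413f339c5003ff4e60ac00c4bf4254183b13314713f13273b03a333d09106032f3170530460383ae3a132230a2fd02b3213153092f308f01e3143082fb2bc01131f3072e22b228b2882fa0683122e125428724a2ba30526d25309f2300852f82b90412792522231ec2851e22de2511d12c42442b729019403928326924f2031cf04402c2422351a818e1681cd1c003601202901c00f03415d13913612c01a15b11f11c11215a0f80f50370eb02a0ce0c115814b0f30e70d10c40b70b40101240d910a0b20d809d08d09908c07307f06906608a07d09505804b08803e03202801b02401702201600b00a009008000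
noncomputable def c3tl1D (u : ℕ) : ℕ := Nat.land (Nat.shiftRight c3tl1Dd (Nat.mul u (nat_lit 12))) (nat_lit 4095)
noncomputable def c3tl1Pd : ℕ := nat_lit 0x25e246c4dadde2713c1cd3c6a310806aa04531836e95811d10831f804540f42c11bc541915a0c2e5d2ca18cd5c12dcef9290cdc4002807a02c08297d4ef20c41c7621671f4bac76d90908a643bd8509a06329dafb1795444d772310fe1389a187237750d9d89f0e2f54ab37c3c004df3b0c4da4871a40d09960bd542dd23370c2d540c20f24c72a50ee1732aa5447a2c2b198642b8e04ef34e9056c2439249a0be1a094b2893010cb45c33135fa14161c0f8d94598e0049690ad842d2da555e4f0ea58d69c3394548162220822056400c7c4a1e1f978d668ab91a23773f852b169bbdd0405cc25a9110f84a04935d9b8bc692286922bf5abea1ce661ad11cd886b25d6743a820121040261560747bd1506f3daa81b0b87865fec551c40740a65b80a60681ab5180b1eb3dc230131381d0a6d3f1ee15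
noncomputable def c3tl1P (u : ℕ) : ℕ := Nat.land (Nat.shiftRight c3tl1Pd (Nat.mul u (nat_lit 9))) (nat_lit 511)
noncomputable def c3tl1Qd : ℕ := nat_lit 0x5fc4488160d8d45eed0e0108c9e6d3c5bef607905c2710c938f202640d9d0b300b394c22463721ab22513d92b916aee0049748d136c355b941212583d548a26980ce830621514045259bca6850535dd89109b285c5b6a40830c2199b54ee01c2116c551fbbc8eeb872246e325a3b898ff349481c92128792c216eb416a610ba554b045c425166487b31502689198d49a2021872aa118c4a20d39c0d00fd67af9eed17e1793e2760959ac750fa513b0b4cabc562c8521e1876100f95b1032c2078a9319ed2e903941d427f6f0f5aa7c359f5029347bc98cf408b9cc4e334018f49c75160e0ac7f28c765f3f34914487d96416576c8557a8e5e2ea0a83733cd5c0863bc0d877373e49acd4681d048828315b10621b88ceb7808e834db4c180007860108ba287c0143acb06050522a12040b8002d2c5f4e4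
noncomputable def c3tl1Q (u : ℕ) : ℕ := Nat.land (Nat.shiftRight c3tl1Qd (Nat.mul u (nat_lit 9))) (nat_lit 511)
noncomputable def c3tl1 : Lev := ⟨275, 13, c3tl1D, c3tl1P, c3tl1Q⟩
noncomputable def c3tl2Dd : ℕ := nat_lit 0x27b4e19a2dee634b691d21a28c418727ace9bf187c514d98f4792455c4be67ac5018c8f51dadb980af9276b65688c5542cd9932895ec9656b0f01c01b16324155c2b41f8b850c9f90c8eb4cc36c2209a3d230c451c90fa1d50b02741c2081a0a01301b4ff0903ec1943902c3cc778e718114626ce317937c24cdb19e2920f4c706030c0d40e15e2620e8ab0630645382d9090540949b12e0864781101d21c3e4199061d20ac100e61bc08c0c0ce1622f80b89915c2984f0790e2238348860c21b80783902a1581881207c0300802e00e0640982601a0780500801602403000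
noncomputable def c3tl2D (u : ℕ) : ℕ := Nat.land (Nat.shiftRight c3tl2Dd (Nat.mul u (nat_lit 11))) (nat_lit 2047)
noncomputable def c3tl2Pd : ℕ := nat_lit 0x2227d02ad5b6353687df08779a0c90ab8991c3c090a2b178b17d03d382b2c0420a634f1e4be89320f1df0d51b44aaa16f93ca8d7653748c2206ac0324a88335a43f18b3200c9118a1ac6121382188a2eae11e322e2505c8120b95960a79301867b84ad06ebe0190e060705ad9bcf0813a8e09d2884a1ee83a1c9e806203995a3077008d02f1db08107f19a4c7a806c2a4ce5900388b4e7102bdfe9908c2c02ba432485a363606d30a213134a60e89259044e642944a7c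
noncomputable def c3tl2P (u : ℕ) : ℕ := Nat.land (Nat.shiftRight c3tl2Pd (Nat.mul u (nat_lit 9))) (nat_lit 511)
noncomputable def c3tl2Qd : ℕ := nat_lit 0x9307a16b39007c5d16004b0000008500453f006519000000008b009900000035974f00407d2f0000003e00381c325200001e005e774172009d0000237461000000697a0000006a6651736403000000004d2a004e0048008d0014005a00429e4a00008c6e1a00318e94002200000002007b0c780000833c890000180d000600562612000059000000005c800098130000960554242800a0004c008200000000370036003d00009b0f0000002d2100007f8400600081005b57001d20870000797509003b0076040a00006c009592710000465f53336800257e2b00000049109c00275867302c55110088000062000b01006370001b9a9100000e006d000000008f003a17868a086f004350902944349f00472e151f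
noncomputable def c3tl2Q (u : ℕ) : ℕ := Nat.land (Nat.shiftRight c3tl2Qd (Nat.mul u (nat_lit 8))) (nat_lit 255)
noncomputable def c3tl2 : Lev := ⟨162, 8, c3tl2D, c3tl2P, c3tl2Q⟩
noncomputable def c3tl3Dd : ℕ := nat_lit 0xa55ef746df4081597bc14169a9544e6335225748383c2c2a239791247f731d16551a103d1837140a25120e1f150c0b0f0806090d07040500
noncomputable def c3tl3D (u : ℕ) : ℕ := Nat.land (Nat.shiftRight c3tl3Dd (Nat.mul u (nat_lit 8))) (nat_lit 255)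
noncomputable def c3tl3Pd : ℕ := nat_lit 0x89a85de546891cfa3515c4490870687d62db30bea12098281546b5091fcaa100798dc4142540df0ab2116178ca2d3591ecb368f1e683230ee1a312e1c1ba01
noncomputable def c3tl3P (u : ℕ) : ℕ := Nat.land (Nat.shiftRight c3tl3Pd (Nat.mul u (nat_lit 9))) (nat_lit 511)
noncomputable def c3tl3Qd : ℕ := nat_lit 0xdc0b800001400009400008c0580000000000026015000000240000d40000000000000000019000000040a0000000e000000cc0000000310000000000000000000011000000000800000a40000000500000000000840d80000000000000000000000000340000000000b00000200000780c400000000000000000020002c00000000000006809c000000300f01200077400000000000001702dc8700001300000000a180000000c00000100000000bc0000000000000000a8000000000000001801f01c6c0ac0000900000880000000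
noncomputable def c3tl3Q (u : ℕ) : ℕ := Nat.land (Nat.shiftRight c3tl3Qd (Nat.mul u (nat_lit 6))) (nat_lit 63)
noncomputable def c3tl3 : Lev := ⟨56, 6, c3tl3D, c3tl3P, c3tl3Q⟩
noncomputable def c3tl4Dd : ℕ := nat_lit 0x62e6fa44b790dffdbada6b460b95334879caf5668b1f305091b2e4cc8e223050f102c3040a08180
noncomputable def c3tl4D (u : ℕ) : ℕ := Nat.land (Nat.shiftRight c3tl4Dd (Nat.mul u (nat_lit 7))) (nat_lit 127)
noncomputable def c3tl4Pd : ℕ := nat_lit 0x4a08359ba465e1701a3b5ac0d56422d424565886a1ddf0588a3d96f31e18da28330ac4621f2abe812ca519c00a146d9b49012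
noncomputable def c3tl4P (u : ℕ) : ℕ := Nat.land (Nat.shiftRight c3tl4Pd (Nat.mul u (nat_lit 9))) (nat_lit 511)
noncomputable def c3tl4Qd : ℕ := nat_lit 0x5c00006c000078000060088000000000000a000000000500000640000000000000000000000000a400c000002a0000004400000005480000000000000000000270000000008c00003800000008400000000001c00000000000000000000000000005800000000006800004000000000000000000000000000060000800000000000004803c000002601f01c0002c000000000000002c00102800002000000001390000000000000034000000074000000000000000030000000000000000400002b000940000240000140000000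
noncomputable def c3tl4Q (u : ℕ) : ℕ := Nat.land (Nat.shiftRight c3tl4Qd (Nat.mul u (nat_lit 6))) (nat_lit 63)
noncomputable def c3tl4 : Lev := ⟨45, 4, c3tl4D, c3tl4P, c3tl4Q⟩
noncomputable def c3tl5Dd : ℕ := nat_lit 0xb52507a9a8310e510020
noncomputable def c3tl5D (u : ℕ) : ℕ := Nat.land (Nat.shiftRight c3tl5Dd (Nat.mul u (nat_lit 5))) (nat_lit 31)
noncomputable def c3tl5Pd : ℕ := nat_lit 0x425a3b63311fdd05705cd63c4aab100d
noncomputable def c3tl5P (u : ℕ) : ℕ := Nat.land (Nat.shiftRight c3tl5Pd (Nat.mul u (nat_lit 8))) (nat_lit 255)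
noncomputable def c3tl5Qd : ℕ := nat_lit 0x90000005000000000000000000000000000000000000000000200000000000000000000000000000000000000000000000000000000007000000000000c00000060e00000000000000030000000f000004d000000000b00000000000000000a0000000000000010000000000800000
noncomputable def c3tl5Q (u : ℕ) : ℕ := Nat.land (Nat.shiftRight c3tl5Qd (Nat.mul u (nat_lit 4))) (nat_lit 15)
noncomputable def c3tl5 : Lev := ⟨16, 2, c3tl5D, c3tl5P, c3tl5Q⟩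
noncomputable def c3ce_W : List (List ℕ) := [[nat_lit 0, nat_lit 2, nat_lit 0, nat_lit 4, nat_lit 3, nat_lit 2, nat_lit 1, nat_lit 2, nat_lit 1, nat_lit 2, nat_lit 5, nat_lit 4, nat_lit 3, nat_lit 2, nat_lit 1, nat_lit 6, nat_lit 5, nat_lit 4, nat_lit 3, nat_lit 2, nat_lit 1],
  [nat_lit 6, nat_lit 5, nat_lit 0, nat_lit 1, nat_lit 0, nat_lit 3, nat_lit 2, nat_lit 0, nat_lit 4, nat_lit 3, nat_lit 2, nat_lit 1, nat_lit 2, nat_lit 3, nat_lit 5, nat_lit 4, nat_lit 3, nat_lit 2, nat_lit 1, nat_lit 2, nat_lit 3, nat_lit 4, nat_lit 2, nat_lit 5, nat_lit 2, nat_lit 3, nat_lit 4, nat_lit 6, nat_lit 5, nat_lit 4, nat_lit 3, nat_lit 2, nat_lit 3, nat_lit 2, nat_lit 3, nat_lit 2, nat_lit 4, nat_lit 3],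
  [nat_lit 4, nat_lit 0, nat_lit 2, nat_lit 1, nat_lit 2, nat_lit 1, nat_lit 3, nat_lit 2, nat_lit 0, nat_lit 2, nat_lit 3, nat_lit 2, nat_lit 4, nat_lit 3, nat_lit 2, nat_lit 1, nat_lit 2, nat_lit 1, nat_lit 2, nat_lit 0, nat_lit 5, nat_lit 4, nat_lit 3, nat_lit 2, nat_lit 1, nat_lit 2, nat_lit 3, nat_lit 6, nat_lit 5, nat_lit 4, nat_lit 3, nat_lit 2, nat_lit 0, nat_lit 2, nat_lit 0, nat_lit 1]]
noncomputable def c3ce_P : ℕ → ℕ → ℕ := wdsP H15.Co3.P c3ce_W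
noncomputable def c3cc3Dd : ℕ := nat_lit 0x163440
noncomputable def c3cc3D (u : ℕ) : ℕ := Nat.land (Nat.shiftRight c3cc3Dd (Nat.mul u (nat_lit 3))) (nat_lit 7)
noncomputable def c3cc3Pd : ℕ := nat_lit 0x40ad4cbe1
noncomputable def c3cc3P (u : ℕ) : ℕ := Nat.land (Nat.shiftRight c3cc3Pd (Nat.mul u (nat_lit 5))) (nat_lit 31)
noncomputable def c3cc3Qd : ℕ := nat_lit 0x200000000086020018028000
noncomputable def c3cc3Q (u : ℕ) : ℕ := Nat.land (Nat.shiftRight c3cc3Qd (Nat.mul u (nat_lit 3))) (nat_lit 7)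
noncomputable def c3cc3 : Lev := ⟨7, 1, c3cc3D, c3cc3P, c3cc3Q⟩
noncomputable def c3tn0Fd : ℕ := nat_lit 0x8848286a22c600acac6040c602c0868c4a822244aa41c661a4111110
noncomputable def c3tn0F (u : ℕ) : ℕ := Nat.land (Nat.shiftRight c3tn0Fd (Nat.mul u (nat_lit 4))) (nat_lit 15)
noncomputable def c3tn0 : Nd := ⟨c3tn0F, (nat_lit 2), (nat_lit 1), [], [((nat_lit 0), []), ((nat_lit 0), [nat_lit 0]), ((nat_lit 0), [nat_lit 0, nat_lit 0]), ((nat_lit 1), [nat_lit 0, nat_lit 0, nat_lit 0])], []⟩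
noncomputable def c3tn1Fd : ℕ := nat_lit 0xccaa8242c666c68cc62c4a2c462c8a26c2ca8422c42a88aa1a8664cc4444ac68a66284468a1aa222426a6a2c688c1ca828c618248c28c428a28c641648a6aa4826611464a1a2181411141114c811111110
noncomputable def c3tn1F (u : ℕ) : ℕ := Nat.land (Nat.shiftRight c3tn1Fd (Nat.mul u (nat_lit 4))) (nat_lit 15)
noncomputable def c3tn1 : Nd := ⟨c3tn1F, (nat_lit 2), (nat_lit 1), [[nat_lit 0]], [((nat_lit 0), [])], []⟩
noncomputable def c3cc1Dd : ℕ := nat_lit 2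
noncomputable def c3cc1D (u : ℕ) : ℕ := Nat.land (Nat.shiftRight c3cc1Dd (Nat.mul u (nat_lit 1))) (nat_lit 1)
noncomputable def c3cc1Pd : ℕ := nat_lit 0x3e15
noncomputable def c3cc1P (u : ℕ) : ℕ := Nat.land (Nat.shiftRight c3cc1Pd (Nat.mul u (nat_lit 7))) (nat_lit 127)
noncomputable def c3cc1Qd : ℕ := nat_lit 0x10000000000000000000000000000000
noncomputable def c3cc1Q (u : ℕ) : ℕ := Nat.land (Nat.shiftRight c3cc1Qd (Nat.mul u (nat_lit 1))) (nat_lit 1)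
noncomputable def c3cc1 : Lev := ⟨2, 2, c3cc1D, c3cc1P, c3cc1Q⟩
noncomputable def c3tn2Fd : ℕ := nat_lit 0x323bfbf26493adf746c84338326d76cb98da77d596f85b6cfbc8ad9697d7988f642a555a77cf58ad65ffc9a893835cfcc434af2a47b74b38bddddf2fcc7f6d762d9666db558cfa6644d4a67351aa403ca948cabda272442b6a25f7d48b844b39c23cc918274692557948ba58b2928a93253c2861a9f121c111c85b13c1a2b124114111a21c816161110
noncomputable def c3tn2F (u : ℕ) : ℕ := Nat.land (Nat.shiftRight c3tn2Fd (Nat.mul u (nat_lit 4))) (nat_lit 15)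
noncomputable def c3tn2 : Nd := ⟨c3tn2F, (nat_lit 2), (nat_lit 2), [[nat_lit 0]], [((nat_lit 0), [])], []⟩
noncomputable def c3cc0Dd : ℕ := nat_lit 0x110
noncomputable def c3cc0D (u : ℕ) : ℕ := Nat.land (Nat.shiftRight c3cc0Dd (Nat.mul u (nat_lit 3))) (nat_lit 7)
noncomputable def c3cc0Pd : ℕ := nat_lit 0x57e04
noncomputable def c3cc0P (u : ℕ) : ℕ := Nat.land (Nat.shiftRight c3cc0Pd (Nat.mul u (nat_lit 7))) (nat_lit 127)
noncomputable def c3cc0Qd : ℕ := nat_lit 0x100000000000000000000000000000000000000000000000000080000000000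
noncomputable def c3cc0Q (u : ℕ) : ℕ := Nat.land (Nat.shiftRight c3cc0Qd (Nat.mul u (nat_lit 2))) (nat_lit 3)
noncomputable def c3cc0 : Lev := ⟨3, 3, c3cc0D, c3cc0P, c3cc0Q⟩
noncomputable def c3tn3Fd : ℕ := nat_lit 0x438ab7456d8414b8a16ea3908721d17354d439485c4ab739c851e855b9d16d14d52e2e5ba9142c087422b5220368d5071d515b56a6d0e819db15b5715c5cb8c5ad69d24725aa81e66599c442dcb7356369e2e5a48a552058a0ee5a8852a9687362e5a16d845c79b90e5c5ce2a62b52ceb539483adab524cd4296ba4da46a5ce341aa42ca47396472507021d143470898e98b8708ae3389d0183870721ca2ac868b50108c2669a8b1856108420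
noncomputable def c3tn3F (u : ℕ) : ℕ := Nat.land (Nat.shiftRight c3tn3Fd (Nat.mul u (nat_lit 5))) (nat_lit 31)
noncomputable def c3tn3 : Nd := ⟨c3tn3F, (nat_lit 3), (nat_lit 3), [[nat_lit 0]], [((nat_lit 0), [])], []⟩

theorem md_b : ltAll 276 H15.Co3.B = 0 ∧ 495766656000 ≠ 0 := by decide +kernel
theorem x_lt : allL (ltAll 7) x_W = true := by decide +kernel
theorem c0x_lt : allL (ltAll 7) c0x_W = true := by decide +kernel
theorem c0th_lt : allL (ltAll 7) c0th_W = true := by decide +kernel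
theorem c0tl0_e_0 : allZ (dent c0tl0 c0th_P (nat_lit 276)) (nat_lit 0) (nat_lit 275) = true := by decide +kernel
theorem c0tl0_h : 0 < c0tl0.n ∧ 0 < c0tl0.K ∧ c0tl0.Pt 0 < 276 ∧ c0tl0.Q (c0tl0.Pt 0) = 0 := by decide +kernel
theorem c0tl1_e_0 : allZ (dent c0tl1 c0th_P (nat_lit 276)) (nat_lit 0) (nat_lit 274) = true := by decide +kernel
theorem c0tl1_h : 0 < c0tl1.n ∧ 0 < c0tl1.K ∧ c0tl1.Pt 0 < 276 ∧ c0tl1.Q (c0tl1.Pt 0) = 0 := by decide +kernel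
theorem c0tl2_e_0 : allZ (dent c0tl2 c0th_P (nat_lit 276)) (nat_lit 0) (nat_lit 111) = true := by decide +kernel
theorem c0tl2_h : 0 < c0tl2.n ∧ 0 < c0tl2.K ∧ c0tl2.Pt 0 < 276 ∧ c0tl2.Q (c0tl2.Pt 0) = 0 := by decide +kernel
theorem c0tl3_e_0 : allZ (dent c0tl3 c0th_P (nat_lit 276)) (nat_lit 0) (nat_lit 29) = true := by decide +kernel
theorem c0tl3_h : 0 < c0tl3.n ∧ 0 < c0tl3.K ∧ c0tl3.Pt 0 < 276 ∧ c0tl3.Q (c0tl3.Pt 0) = 0 := by decide +kernel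
theorem c0tl4_e_0 : allZ (dent c0tl4 c0th_P (nat_lit 276)) (nat_lit 0) (nat_lit 26) = true := by decide +kernel
theorem c0tl4_h : 0 < c0tl4.n ∧ 0 < c0tl4.K ∧ c0tl4.Pt 0 < 276 ∧ c0tl4.Q (c0tl4.Pt 0) = 0 := by decide +kernel
theorem c0tl5_e_0 : allZ (dent c0tl5 c0th_P (nat_lit 276)) (nat_lit 0) (nat_lit 23) = true := by decide +kernel
theorem c0tl5_h : 0 < c0tl5.n ∧ 0 < c0tl5.K ∧ c0tl5.Pt 0 < 276 ∧ c0tl5.Q (c0tl5.Pt 0) = 0 := by decide +kernel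
theorem c0tl6_e_0 : allZ (dent c0tl6 c0th_P (nat_lit 276)) (nat_lit 0) (nat_lit 2) = true := by decide +kernel
theorem c0tl6_h : 0 < c0tl6.n ∧ 0 < c0tl6.K ∧ c0tl6.Pt 0 < 276 ∧ c0tl6.Q (c0tl6.Pt 0) = 0 := by decide +kernel
theorem c0t_f6 : (Nat.ble c0tl6.K 16 && Nat.ble (topK []) c0tl6.K && fixLetters c0th_P (topK []) (c0tl6.Pt 0)) = true := by decide +kernel
theorem c0t_f5 : (Nat.ble c0tl5.K 16 && Nat.ble (topK [c0tl6]) c0tl5.K && fixLetters c0th_P (topK [c0tl6]) (c0tl5.Pt 0)) = true := by decide +kernel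
theorem c0t_f4 : (Nat.ble c0tl4.K 16 && Nat.ble (topK [c0tl5, c0tl6]) c0tl4.K && fixLetters c0th_P (topK [c0tl5, c0tl6]) (c0tl4.Pt 0)) = true := by decide +kernel
theorem c0t_f3 : (Nat.ble c0tl3.K 16 && Nat.ble (topK [c0tl4, c0tl5, c0tl6]) c0tl3.K && fixLetters c0th_P (topK [c0tl4, c0tl5, c0tl6]) (c0tl3.Pt 0)) = true := by decide +kernel
theorem c0t_f2 : (Nat.ble c0tl2.K 16 && Nat.ble (topK [c0tl3, c0tl4, c0tl5, c0tl6]) c0tl2.K && fixLetters c0th_P (topK [c0tl3, c0tl4, c0tl5, c0tl6]) (c0tl2.Pt 0)) = true := by decide +kernel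
theorem c0t_f1 : (Nat.ble c0tl1.K 16 && Nat.ble (topK [c0tl2, c0tl3, c0tl4, c0tl5, c0tl6]) c0tl1.K && fixLetters c0th_P (topK [c0tl2, c0tl3, c0tl4, c0tl5, c0tl6]) (c0tl1.Pt 0)) = true := by decide +kernel
theorem c0t_f0 : (Nat.ble c0tl0.K 16 && Nat.ble (topK [c0tl1, c0tl2, c0tl3, c0tl4, c0tl5, c0tl6]) c0tl0.K && fixLetters c0th_P (topK [c0tl1, c0tl2, c0tl3, c0tl4, c0tl5, c0tl6]) (c0tl0.Pt 0)) = true := by decide +kernel
theorem c0t_c : chainCard [c0tl0, c0tl1, c0tl2, c0tl3, c0tl4, c0tl5, c0tl6] = 495766656000 := by decide +kernel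
theorem c0ce_lt : allL (ltAll 7) c0ce_W = true := by decide +kernel
theorem c0cc6_e_0 : allZ (dent c0cc6 c0ce_P (nat_lit 276)) (nat_lit 0) (nat_lit 2) = true := by decide +kernel
theorem c0cc6_h : 0 < c0cc6.n ∧ 0 < c0cc6.K ∧ c0cc6.Pt 0 < 276 ∧ c0cc6.Q (c0cc6.Pt 0) = 0 := by decide +kernel
theorem c0tn0_0 : (Nat.ble c0tl6.K 16 && Nat.beq (ltAll 276 [c0tl5.Pt 0, c0tl4.Pt 0, c0tl3.Pt 0, c0tl2.Pt 0, c0tl1.Pt 0, c0tl0.Pt 0]) 0 && kChk c0ce_P c0x_P c0tn0.Kn 1 H15.Co3.B [c0tl5.Pt 0, c0tl4.Pt 0, c0tl3.Pt 0, c0tl2.Pt 0, c0tl1.Pt 0, c0tl0.Pt 0] && allL (ltAll 1) c0tn0.pre && planOK c0th_P c0x_P 1 (c0tl6.Pt 0) c0tn0.plan [c0tl6]) = true := by decide +kernel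
theorem c0tn0_1_0 : allZ (c0tn0.ent H15.Co3.P c0th_P c0x_P c0x_P c0ce_P (nat_lit 7) (nat_lit 1) H15.Co3.B c0tl6 [] (memO c0cc6)) (nat_lit 0) (nat_lit 3) = true := by decide +kernel
theorem c0c_f6 : (Nat.ble c0cc6.K 6 && Nat.ble (topK []) c0cc6.K && Nat.beq (c0cc6.Pt 0) (c0tl6.Pt 0) && Nat.beq (ltAll 276 [c0tl5.Pt 0, c0tl4.Pt 0, c0tl3.Pt 0, c0tl2.Pt 0, c0tl1.Pt 0, c0tl0.Pt 0]) 0 && kChk c0ce_P c0x_P c0cc6.K 1 H15.Co3.B [c0tl5.Pt 0, c0tl4.Pt 0, c0tl3.Pt 0, c0tl2.Pt 0, c0tl1.Pt 0, c0tl0.Pt 0]) = true := by decide +kernel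
theorem c0c_f5 : (Nat.ble c0tl5.K 16 && Nat.blt (nat_lit 20) 276 && fixLetters c0th_P c0tl5.K (nat_lit 20) && Nat.beq (ltAll 1 [nat_lit 0, nat_lit 0]) 0 && Nat.beq (apW c0x_P [nat_lit 0, nat_lit 0] (nat_lit 20)) (c0tl5.Pt 0)) = true := by decide +kernel
theorem c0c_f4 : (Nat.ble c0tl4.K 16 && Nat.blt (nat_lit 20) 276 && fixLetters c0th_P c0tl4.K (nat_lit 20) && Nat.beq (ltAll 1 [nat_lit 0]) 0 && Nat.beq (apW c0x_P [nat_lit 0] (nat_lit 20)) (c0tl4.Pt 0)) = true := by decide +kernel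
theorem c0cc3_e_0 : allZ (dent c0cc3 c0ce_P (nat_lit 276)) (nat_lit 0) (nat_lit 26) = true := by decide +kernel
theorem c0cc3_h : 0 < c0cc3.n ∧ 0 < c0cc3.K ∧ c0cc3.Pt 0 < 276 ∧ c0cc3.Q (c0cc3.Pt 0) = 0 := by decide +kernel
theorem c0tn1_0 : (Nat.ble c0tl3.K 16 && Nat.beq (ltAll 276 [c0tl2.Pt 0, c0tl1.Pt 0, c0tl0.Pt 0]) 0 && kChk c0ce_P c0x_P c0tn1.Kn 1 H15.Co3.B [c0tl2.Pt 0, c0tl1.Pt 0, c0tl0.Pt 0] && allL (ltAll 1) c0tn1.pre && planOK c0th_P c0x_P 1 (c0tl3.Pt 0) c0tn1.plan [c0tl3, c0tl4, c0tl5, c0tl6]) = true := by decide +kernel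
theorem c0tn1_1_0 : allZ (c0tn1.ent H15.Co3.P c0th_P c0x_P c0x_P c0ce_P (nat_lit 7) (nat_lit 1) H15.Co3.B c0tl3 [c0tl4, c0tl5, c0tl6] (memO c0cc3)) (nat_lit 0) (nat_lit 30) = true := by decide +kernel
theorem c0c_f3 : (Nat.ble c0cc3.K 6 && Nat.ble (topK [c0cc6]) c0cc3.K && Nat.beq (c0cc3.Pt 0) (c0tl3.Pt 0) && Nat.beq (ltAll 276 [c0tl2.Pt 0, c0tl1.Pt 0, c0tl0.Pt 0]) 0 && kChk c0ce_P c0x_P c0cc3.K 1 H15.Co3.B [c0tl2.Pt 0, c0tl1.Pt 0, c0tl0.Pt 0]) = true := by decide +kernel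
theorem c0cc2_e_0 : allZ (dent c0cc2 c0ce_P (nat_lit 276)) (nat_lit 0) (nat_lit 1) = true := by decide +kernel
theorem c0cc2_h : 0 < c0cc2.n ∧ 0 < c0cc2.K ∧ c0cc2.Pt 0 < 276 ∧ c0cc2.Q (c0cc2.Pt 0) = 0 := by decide +kernel
theorem c0tn2y139_lt : allL (ltAll 7) c0tn2y139_W = true := by decide +kernel
theorem c0tr3k_lt : allL (ltAll 7) c0tr3k_W = true := by decide +kernel
theorem c0tn3y108_lt : allL (ltAll 7) c0tn3y108_W = true := by decide +kernel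
theorem c0tr4k_lt : allL (ltAll 7) c0tr4k_W = true := by decide +kernel
theorem c0tn4_0 : (Nat.ble c0tl6.K 16 && Nat.beq (ltAll 276 [c0tl5.Pt 0, c0tl4.Pt 0, c0tl3.Pt 0, c0tl2.Pt 0, c0tl1.Pt 0, c0tl0.Pt 0]) 0 && kChk c0tr4k_P c0tn3y108_P c0tn4.Kn 1 H15.Co3.B [c0tl5.Pt 0, c0tl4.Pt 0, c0tl3.Pt 0, c0tl2.Pt 0, c0tl1.Pt 0, c0tl0.Pt 0] && allL (ltAll 1) c0tn4.pre && planOK c0th_P c0x_P 1 (c0tl6.Pt 0) c0tn4.plan [c0tl6]) = true := by decide +kernel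
theorem c0tn4_1_0 : allZ (c0tn4.ent H15.Co3.P c0th_P c0x_P c0tn3y108_P c0tr4k_P (nat_lit 7) (nat_lit 1) H15.Co3.B c0tl6 [] (fun _ => nat_lit 1)) (nat_lit 0) (nat_lit 3) = true := by decide +kernel
theorem c0tn3_0 : (Nat.ble c0tl3.K 16 && Nat.beq (ltAll 276 [c0tl2.Pt 0, c0tl1.Pt 0, c0tl0.Pt 0]) 0 && kChk c0tr3k_P c0tn2y139_P c0tn3.Kn 1 H15.Co3.B [c0tl2.Pt 0, c0tl1.Pt 0, c0tl0.Pt 0] && allL (ltAll 1) c0tn3.pre && planOK c0th_P c0x_P 1 (c0tl3.Pt 0) c0tn3.plan [c0tl3, c0tl4, c0tl5, c0tl6]) = true := by decide +kernel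
theorem c0tn3_1_0 : allZ (c0tn3.ent H15.Co3.P c0th_P c0x_P c0tn2y139_P c0tr3k_P (nat_lit 7) (nat_lit 1) H15.Co3.B c0tl3 [c0tl4, c0tl5, c0tl6] (fun _ => nat_lit 1)) (nat_lit 0) (nat_lit 30) = true := by decide +kernel
theorem c0tn2_0 : (Nat.ble c0tl2.K 16 && Nat.beq (ltAll 276 [c0tl1.Pt 0, c0tl0.Pt 0]) 0 && kChk c0ce_P c0x_P c0tn2.Kn 1 H15.Co3.B [c0tl1.Pt 0, c0tl0.Pt 0] && allL (ltAll 1) c0tn2.pre && planOK c0th_P c0x_P 1 (c0tl2.Pt 0) c0tn2.plan [c0tl2, c0tl3, c0tl4, c0tl5, c0tl6]) = true := by decide +kernel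
theorem c0tn2_1_0 : allZ (c0tn2.ent H15.Co3.P c0th_P c0x_P c0x_P c0ce_P (nat_lit 7) (nat_lit 1) H15.Co3.B c0tl2 [c0tl3, c0tl4, c0tl5, c0tl6] (memO c0cc2)) (nat_lit 0) (nat_lit 112) = true := by decide +kernel
theorem c0c_f2 : (Nat.ble c0cc2.K 6 && Nat.ble (topK [c0cc3, c0cc6]) c0cc2.K && Nat.beq (c0cc2.Pt 0) (c0tl2.Pt 0) && Nat.beq (ltAll 276 [c0tl1.Pt 0, c0tl0.Pt 0]) 0 && kChk c0ce_P c0x_P c0cc2.K 1 H15.Co3.B [c0tl1.Pt 0, c0tl0.Pt 0]) = true := by decide +kernel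
theorem c0cc1_e_0 : allZ (dent c0cc1 c0ce_P (nat_lit 276)) (nat_lit 0) (nat_lit 11) = true := by decide +kernel
theorem c0cc1_h : 0 < c0cc1.n ∧ 0 < c0cc1.K ∧ c0cc1.Pt 0 < 276 ∧ c0cc1.Q (c0cc1.Pt 0) = 0 := by decide +kernel
theorem c0tn5y15_lt : allL (ltAll 7) c0tn5y15_W = true := by decide +kernel
theorem c0tr6k_lt : allL (ltAll 7) c0tr6k_W = true := by decide +kernel
theorem c0tn6y15_lt : allL (ltAll 7) c0tn6y15_W = true := by decide +kernel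
theorem c0tr7k_lt : allL (ltAll 7) c0tr7k_W = true := by decide +kernel
theorem c0tn7y20_lt : allL (ltAll 7) c0tn7y20_W = true := by decide +kernel
theorem c0tr8k_lt : allL (ltAll 7) c0tr8k_W = true := by decide +kernel
theorem c0tn8_0 : (Nat.ble c0tl6.K 16 && Nat.beq (ltAll 276 [c0tl5.Pt 0, c0tl4.Pt 0, c0tl3.Pt 0, c0tl2.Pt 0, c0tl1.Pt 0, c0tl0.Pt 0]) 0 && kChk c0tr8k_P c0tn7y20_P c0tn8.Kn 1 H15.Co3.B [c0tl5.Pt 0, c0tl4.Pt 0, c0tl3.Pt 0, c0tl2.Pt 0, c0tl1.Pt 0, c0tl0.Pt 0] && allL (ltAll 1) c0tn8.pre && planOK c0th_P c0x_P 1 (c0tl6.Pt 0) c0tn8.plan [c0tl6]) = true := by decide +kernel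
theorem c0tn8_1_0 : allZ (c0tn8.ent H15.Co3.P c0th_P c0x_P c0tn7y20_P c0tr8k_P (nat_lit 7) (nat_lit 1) H15.Co3.B c0tl6 [] (fun _ => nat_lit 1)) (nat_lit 0) (nat_lit 3) = true := by decide +kernel
theorem c0tn7_0 : (Nat.ble c0tl3.K 16 && Nat.beq (ltAll 276 [c0tl2.Pt 0, c0tl1.Pt 0, c0tl0.Pt 0]) 0 && kChk c0tr7k_P c0tn6y15_P c0tn7.Kn 1 H15.Co3.B [c0tl2.Pt 0, c0tl1.Pt 0, c0tl0.Pt 0] && allL (ltAll 1) c0tn7.pre && planOK c0th_P c0x_P 1 (c0tl3.Pt 0) c0tn7.plan [c0tl3, c0tl4, c0tl5, c0tl6]) = true := by decide +kernel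
theorem c0tn7_1_0 : allZ (c0tn7.ent H15.Co3.P c0th_P c0x_P c0tn6y15_P c0tr7k_P (nat_lit 7) (nat_lit 1) H15.Co3.B c0tl3 [c0tl4, c0tl5, c0tl6] (fun _ => nat_lit 1)) (nat_lit 0) (nat_lit 30) = true := by decide +kernel
theorem c0tn6y70_lt : allL (ltAll 7) c0tn6y70_W = true := by decide +kernel
theorem c0tr9k_lt : allL (ltAll 7) c0tr9k_W = true := by decide +kernel
theorem c0tn9_0 : (Nat.ble c0tl3.K 16 && Nat.beq (ltAll 276 [c0tl2.Pt 0, c0tl1.Pt 0, c0tl0.Pt 0]) 0 && kChk c0tr9k_P c0tn6y70_P c0tn9.Kn 1 H15.Co3.B [c0tl2.Pt 0, c0tl1.Pt 0, c0tl0.Pt 0] && allL (ltAll 1) c0tn9.pre && planOK c0th_P c0x_P 1 (c0tl3.Pt 0) c0tn9.plan [c0tl3, c0tl4, c0tl5, c0tl6]) = true := by decide +kernel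
theorem c0tn9_1_0 : allZ (c0tn9.ent H15.Co3.P c0th_P c0x_P c0tn6y70_P c0tr9k_P (nat_lit 7) (nat_lit 1) H15.Co3.B c0tl3 [c0tl4, c0tl5, c0tl6] (fun _ => nat_lit 1)) (nat_lit 0) (nat_lit 30) = true := by decide +kernel
theorem c0tn6_0 : (Nat.ble c0tl2.K 16 && Nat.beq (ltAll 276 [c0tl1.Pt 0, c0tl0.Pt 0]) 0 && kChk c0tr6k_P c0tn5y15_P c0tn6.Kn 1 H15.Co3.B [c0tl1.Pt 0, c0tl0.Pt 0] && allL (ltAll 1) c0tn6.pre && planOK c0th_P c0x_P 1 (c0tl2.Pt 0) c0tn6.plan [c0tl2, c0tl3, c0tl4, c0tl5, c0tl6]) = true := by decide +kernel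
theorem c0tn6_1_0 : allZ (c0tn6.ent H15.Co3.P c0th_P c0x_P c0tn5y15_P c0tr6k_P (nat_lit 7) (nat_lit 1) H15.Co3.B c0tl2 [c0tl3, c0tl4, c0tl5, c0tl6] (fun _ => nat_lit 1)) (nat_lit 0) (nat_lit 112) = true := by decide +kernel
theorem c0tn5_0 : (Nat.ble c0tl1.K 16 && Nat.beq (ltAll 276 [c0tl0.Pt 0]) 0 && kChk c0ce_P c0x_P c0tn5.Kn 1 H15.Co3.B [c0tl0.Pt 0] && allL (ltAll 1) c0tn5.pre && planOK c0th_P c0x_P 1 (c0tl1.Pt 0) c0tn5.plan [c0tl1, c0tl2, c0tl3, c0tl4, c0tl5, c0tl6]) = true := by decide +kernel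
theorem c0tn5_1_0 : allZ (c0tn5.ent H15.Co3.P c0th_P c0x_P c0x_P c0ce_P (nat_lit 7) (nat_lit 1) H15.Co3.B c0tl1 [c0tl2, c0tl3, c0tl4, c0tl5, c0tl6] (memO c0cc1)) (nat_lit 0) (nat_lit 275) = true := by decide +kernel
theorem c0c_f1 : (Nat.ble c0cc1.K 6 && Nat.ble (topK [c0cc2, c0cc3, c0cc6]) c0cc1.K && Nat.beq (c0cc1.Pt 0) (c0tl1.Pt 0) && Nat.beq (ltAll 276 [c0tl0.Pt 0]) 0 && kChk c0ce_P c0x_P c0cc1.K 1 H15.Co3.B [c0tl0.Pt 0]) = true := by decide +kernel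
theorem c0cc0_e_0 : allZ (dent c0cc0 c0ce_P (nat_lit 276)) (nat_lit 0) (nat_lit 14) = true := by decide +kernel
theorem c0cc0_h : 0 < c0cc0.n ∧ 0 < c0cc0.K ∧ c0cc0.Pt 0 < 276 ∧ c0cc0.Q (c0cc0.Pt 0) = 0 := by decide +kernel
theorem c0tn10_0 : (Nat.ble c0tl0.K 16 && Nat.beq (ltAll 276 []) 0 && kChk c0ce_P c0x_P c0tn10.Kn 1 H15.Co3.B [] && allL (ltAll 1) c0tn10.pre && planOK c0th_P c0x_P 1 (c0tl0.Pt 0) c0tn10.plan [c0tl0, c0tl1, c0tl2, c0tl3, c0tl4, c0tl5, c0tl6]) = true := by decide +kernel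
theorem c0tn10_1_0 : allZ (c0tn10.ent H15.Co3.P c0th_P c0x_P c0x_P c0ce_P (nat_lit 7) (nat_lit 1) H15.Co3.B c0tl0 [c0tl1, c0tl2, c0tl3, c0tl4, c0tl5, c0tl6] (memO c0cc0)) (nat_lit 0) (nat_lit 276) = true := by decide +kernel
theorem c0c_f0 : (Nat.ble c0cc0.K 6 && Nat.ble (topK [c0cc1, c0cc2, c0cc3, c0cc6]) c0cc0.K && Nat.beq (c0cc0.Pt 0) (c0tl0.Pt 0) && Nat.beq (ltAll 276 []) 0 && kChk c0ce_P c0x_P c0cc0.K 1 H15.Co3.B []) = true := by decide +kernel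
theorem c0c_c : chainCard [c0cc0, c0cc1, c0cc2, c0cc3, c0cc6] = 29160 ∧ topK [c0cc0, c0cc1, c0cc2, c0cc3, c0cc6] = 6 := by decide +kernel
theorem c1x_lt : allL (ltAll 7) c1x_W = true := by decide +kernel
theorem c1th_lt : allL (ltAll 7) c1th_W = true := by decide +kernel
theorem c1tl0_e_0 : allZ (dent c1tl0 c1th_P (nat_lit 276)) (nat_lit 0) (nat_lit 275) = true := by decide +kernel
theorem c1tl0_h : 0 < c1tl0.n ∧ 0 < c1tl0.K ∧ c1tl0.Pt 0 < 276 ∧ c1tl0.Q (c1tl0.Pt 0) = 0 := by decide +kernel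
theorem c1tl1_e_0 : allZ (dent c1tl1 c1th_P (nat_lit 276)) (nat_lit 0) (nat_lit 274) = true := by decide +kernel
theorem c1tl1_h : 0 < c1tl1.n ∧ 0 < c1tl1.K ∧ c1tl1.Pt 0 < 276 ∧ c1tl1.Q (c1tl1.Pt 0) = 0 := by decide +kernel
theorem c1tl2_e_0 : allZ (dent c1tl2 c1th_P (nat_lit 276)) (nat_lit 0) (nat_lit 111) = true := by decide +kernel
theorem c1tl2_h : 0 < c1tl2.n ∧ 0 < c1tl2.K ∧ c1tl2.Pt 0 < 276 ∧ c1tl2.Q (c1tl2.Pt 0) = 0 := by decide +kernel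
theorem c1tl3_e_0 : allZ (dent c1tl3 c1th_P (nat_lit 276)) (nat_lit 0) (nat_lit 29) = true := by decide +kernel
theorem c1tl3_h : 0 < c1tl3.n ∧ 0 < c1tl3.K ∧ c1tl3.Pt 0 < 276 ∧ c1tl3.Q (c1tl3.Pt 0) = 0 := by decide +kernel
theorem c1tl4_e_0 : allZ (dent c1tl4 c1th_P (nat_lit 276)) (nat_lit 0) (nat_lit 26) = true := by decide +kernel
theorem c1tl4_h : 0 < c1tl4.n ∧ 0 < c1tl4.K ∧ c1tl4.Pt 0 < 276 ∧ c1tl4.Q (c1tl4.Pt 0) = 0 := by decide +kernel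
theorem c1tl5_e_0 : allZ (dent c1tl5 c1th_P (nat_lit 276)) (nat_lit 0) (nat_lit 23) = true := by decide +kernel
theorem c1tl5_h : 0 < c1tl5.n ∧ 0 < c1tl5.K ∧ c1tl5.Pt 0 < 276 ∧ c1tl5.Q (c1tl5.Pt 0) = 0 := by decide +kernel
theorem c1tl6_e_0 : allZ (dent c1tl6 c1th_P (nat_lit 276)) (nat_lit 0) (nat_lit 2) = true := by decide +kernel
theorem c1tl6_h : 0 < c1tl6.n ∧ 0 < c1tl6.K ∧ c1tl6.Pt 0 < 276 ∧ c1tl6.Q (c1tl6.Pt 0) = 0 := by decide +kernel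
theorem c1t_f6 : (Nat.ble c1tl6.K 16 && Nat.ble (topK []) c1tl6.K && fixLetters c1th_P (topK []) (c1tl6.Pt 0)) = true := by decide +kernel
theorem c1t_f5 : (Nat.ble c1tl5.K 16 && Nat.ble (topK [c1tl6]) c1tl5.K && fixLetters c1th_P (topK [c1tl6]) (c1tl5.Pt 0)) = true := by decide +kernel
theorem c1t_f4 : (Nat.ble c1tl4.K 16 && Nat.ble (topK [c1tl5, c1tl6]) c1tl4.K && fixLetters c1th_P (topK [c1tl5, c1tl6]) (c1tl4.Pt 0)) = true := by decide +kernel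
theorem c1t_f3 : (Nat.ble c1tl3.K 16 && Nat.ble (topK [c1tl4, c1tl5, c1tl6]) c1tl3.K && fixLetters c1th_P (topK [c1tl4, c1tl5, c1tl6]) (c1tl3.Pt 0)) = true := by decide +kernel
theorem c1t_f2 : (Nat.ble c1tl2.K 16 && Nat.ble (topK [c1tl3, c1tl4, c1tl5, c1tl6]) c1tl2.K && fixLetters c1th_P (topK [c1tl3, c1tl4, c1tl5, c1tl6]) (c1tl2.Pt 0)) = true := by decide +kernel
theorem c1t_f1 : (Nat.ble c1tl1.K 16 && Nat.ble (topK [c1tl2, c1tl3, c1tl4, c1tl5, c1tl6]) c1tl1.K && fixLetters c1th_P (topK [c1tl2, c1tl3, c1tl4, c1tl5, c1tl6]) (c1tl1.Pt 0)) = true := by decide +kernel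
theorem c1t_f0 : (Nat.ble c1tl0.K 16 && Nat.ble (topK [c1tl1, c1tl2, c1tl3, c1tl4, c1tl5, c1tl6]) c1tl0.K && fixLetters c1th_P (topK [c1tl1, c1tl2, c1tl3, c1tl4, c1tl5, c1tl6]) (c1tl0.Pt 0)) = true := by decide +kernel
theorem c1t_c : chainCard [c1tl0, c1tl1, c1tl2, c1tl3, c1tl4, c1tl5, c1tl6] = 495766656000 := by decide +kernel
theorem c1ce_lt : allL (ltAll 7) c1ce_W = true := by decide +kernel
theorem c1cc6_e_0 : allZ (dent c1cc6 c1ce_P (nat_lit 276)) (nat_lit 0) (nat_lit 2) = true := by decide +kernel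
theorem c1cc6_h : 0 < c1cc6.n ∧ 0 < c1cc6.K ∧ c1cc6.Pt 0 < 276 ∧ c1cc6.Q (c1cc6.Pt 0) = 0 := by decide +kernel
theorem c1tn0_0 : (Nat.ble c1tl6.K 16 && Nat.beq (ltAll 276 [c1tl5.Pt 0, c1tl4.Pt 0, c1tl3.Pt 0, c1tl2.Pt 0, c1tl1.Pt 0, c1tl0.Pt 0]) 0 && kChk c1ce_P c1x_P c1tn0.Kn 1 H15.Co3.B [c1tl5.Pt 0, c1tl4.Pt 0, c1tl3.Pt 0, c1tl2.Pt 0, c1tl1.Pt 0, c1tl0.Pt 0] && allL (ltAll 1) c1tn0.pre && planOK c1th_P c1x_P 1 (c1tl6.Pt 0) c1tn0.plan [c1tl6]) = true := by decide +kernel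
theorem c1tn0_1_0 : allZ (c1tn0.ent H15.Co3.P c1th_P c1x_P c1x_P c1ce_P (nat_lit 7) (nat_lit 1) H15.Co3.B c1tl6 [] (memO c1cc6)) (nat_lit 0) (nat_lit 3) = true := by decide +kernel
theorem c1c_f6 : (Nat.ble c1cc6.K 4 && Nat.ble (topK []) c1cc6.K && Nat.beq (c1cc6.Pt 0) (c1tl6.Pt 0) && Nat.beq (ltAll 276 [c1tl5.Pt 0, c1tl4.Pt 0, c1tl3.Pt 0, c1tl2.Pt 0, c1tl1.Pt 0, c1tl0.Pt 0]) 0 && kChk c1ce_P c1x_P c1cc6.K 1 H15.Co3.B [c1tl5.Pt 0, c1tl4.Pt 0, c1tl3.Pt 0, c1tl2.Pt 0, c1tl1.Pt 0, c1tl0.Pt 0]) = true := by decide +kernel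
theorem c1c_f5 : (Nat.ble c1tl5.K 16 && Nat.blt (nat_lit 2) 276 && fixLetters c1th_P c1tl5.K (nat_lit 2) && Nat.beq (ltAll 1 [nat_lit 0, nat_lit 0]) 0 && Nat.beq (apW c1x_P [nat_lit 0, nat_lit 0] (nat_lit 2)) (c1tl5.Pt 0)) = true := by decide +kernel
theorem c1c_f4 : (Nat.ble c1tl4.K 16 && Nat.blt (nat_lit 2) 276 && fixLetters c1th_P c1tl4.K (nat_lit 2) && Nat.beq (ltAll 1 [nat_lit 0]) 0 && Nat.beq (apW c1x_P [nat_lit 0] (nat_lit 2)) (c1tl4.Pt 0)) = true := by decide +kernel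
theorem c1cc3_e_0 : allZ (dent c1cc3 c1ce_P (nat_lit 276)) (nat_lit 0) (nat_lit 8) = true := by decide +kernel
theorem c1cc3_h : 0 < c1cc3.n ∧ 0 < c1cc3.K ∧ c1cc3.Pt 0 < 276 ∧ c1cc3.Q (c1cc3.Pt 0) = 0 := by decide +kernel
theorem c1tn1y191_lt : allL (ltAll 7) c1tn1y191_W = true := by decide +kernel
theorem c1tr2k_lt : allL (ltAll 7) c1tr2k_W = true := by decide +kernel
theorem c1tn2_0 : (Nat.ble c1tl6.K 16 && Nat.beq (ltAll 276 [c1tl5.Pt 0, c1tl4.Pt 0, c1tl3.Pt 0, c1tl2.Pt 0, c1tl1.Pt 0, c1tl0.Pt 0]) 0 && kChk c1tr2k_P c1tn1y191_P c1tn2.Kn 1 H15.Co3.B [c1tl5.Pt 0, c1tl4.Pt 0, c1tl3.Pt 0, c1tl2.Pt 0, c1tl1.Pt 0, c1tl0.Pt 0] && allL (ltAll 1) c1tn2.pre && planOK c1th_P c1x_P 1 (c1tl6.Pt 0) c1tn2.plan [c1tl6]) = true := by decide +kernel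
theorem c1tn2_1_0 : allZ (c1tn2.ent H15.Co3.P c1th_P c1x_P c1tn1y191_P c1tr2k_P (nat_lit 7) (nat_lit 1) H15.Co3.B c1tl6 [] (fun _ => nat_lit 1)) (nat_lit 0) (nat_lit 3) = true := by decide +kernel
theorem c1tn1y258_lt : allL (ltAll 7) c1tn1y258_W = true := by decide +kernel
theorem c1tr3k_lt : allL (ltAll 7) c1tr3k_W = true := by decide +kernel
theorem c1tn3_0 : (Nat.ble c1tl6.K 16 && Nat.beq (ltAll 276 [c1tl5.Pt 0, c1tl4.Pt 0, c1tl3.Pt 0, c1tl2.Pt 0, c1tl1.Pt 0, c1tl0.Pt 0]) 0 && kChk c1tr3k_P c1tn1y258_P c1tn3.Kn 1 H15.Co3.B [c1tl5.Pt 0, c1tl4.Pt 0, c1tl3.Pt 0, c1tl2.Pt 0, c1tl1.Pt 0, c1tl0.Pt 0] && allL (ltAll 1) c1tn3.pre && planOK c1th_P c1x_P 1 (c1tl6.Pt 0) c1tn3.plan [c1tl6]) = true := by decide +kernel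
theorem c1tn3_1_0 : allZ (c1tn3.ent H15.Co3.P c1th_P c1x_P c1tn1y258_P c1tr3k_P (nat_lit 7) (nat_lit 1) H15.Co3.B c1tl6 [] (fun _ => nat_lit 1)) (nat_lit 0) (nat_lit 3) = true := by decide +kernel
theorem c1tn1_0 : (Nat.ble c1tl3.K 16 && Nat.beq (ltAll 276 [c1tl2.Pt 0, c1tl1.Pt 0, c1tl0.Pt 0]) 0 && kChk c1ce_P c1x_P c1tn1.Kn 1 H15.Co3.B [c1tl2.Pt 0, c1tl1.Pt 0, c1tl0.Pt 0] && allL (ltAll 1) c1tn1.pre && planOK c1th_P c1x_P 1 (c1tl3.Pt 0) c1tn1.plan [c1tl3, c1tl4, c1tl5, c1tl6]) = true := by decide +kernel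
theorem c1tn1_1_0 : allZ (c1tn1.ent H15.Co3.P c1th_P c1x_P c1x_P c1ce_P (nat_lit 7) (nat_lit 1) H15.Co3.B c1tl3 [c1tl4, c1tl5, c1tl6] (memO c1cc3)) (nat_lit 0) (nat_lit 30) = true := by decide +kernel
theorem c1c_f3 : (Nat.ble c1cc3.K 4 && Nat.ble (topK [c1cc6]) c1cc3.K && Nat.beq (c1cc3.Pt 0) (c1tl3.Pt 0) && Nat.beq (ltAll 276 [c1tl2.Pt 0, c1tl1.Pt 0, c1tl0.Pt 0]) 0 && kChk c1ce_P c1x_P c1cc3.K 1 H15.Co3.B [c1tl2.Pt 0, c1tl1.Pt 0, c1tl0.Pt 0]) = true := by decide +kernel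
theorem c1c_f2 : (Nat.ble c1tl2.K 16 && Nat.blt (nat_lit 0) 276 && fixLetters c1th_P c1tl2.K (nat_lit 0) && Nat.beq (ltAll 1 [nat_lit 0, nat_lit 0]) 0 && Nat.beq (apW c1x_P [nat_lit 0, nat_lit 0] (nat_lit 0)) (c1tl2.Pt 0)) = true := by decide +kernel
theorem c1c_f1 : (Nat.ble c1tl1.K 16 && Nat.blt (nat_lit 0) 276 && fixLetters c1th_P c1tl1.K (nat_lit 0) && Nat.beq (ltAll 1 [nat_lit 0]) 0 && Nat.beq (apW c1x_P [nat_lit 0] (nat_lit 0)) (c1tl1.Pt 0)) = true := by decide +kernel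
theorem c1cc0_e_0 : allZ (dent c1cc0 c1ce_P (nat_lit 276)) (nat_lit 0) (nat_lit 167) = true := by decide +kernel
theorem c1cc0_h : 0 < c1cc0.n ∧ 0 < c1cc0.K ∧ c1cc0.Pt 0 < 276 ∧ c1cc0.Q (c1cc0.Pt 0) = 0 := by decide +kernel
theorem c1tn4_0 : (Nat.ble c1tl0.K 16 && Nat.beq (ltAll 276 []) 0 && kChk c1ce_P c1x_P c1tn4.Kn 1 H15.Co3.B [] && allL (ltAll 1) c1tn4.pre && planOK c1th_P c1x_P 1 (c1tl0.Pt 0) c1tn4.plan [c1tl0, c1tl1, c1tl2, c1tl3, c1tl4, c1tl5, c1tl6]) = true := by decide +kernel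
theorem c1tn4_1_0 : allZ (c1tn4.ent H15.Co3.P c1th_P c1x_P c1x_P c1ce_P (nat_lit 7) (nat_lit 1) H15.Co3.B c1tl0 [c1tl1, c1tl2, c1tl3, c1tl4, c1tl5, c1tl6] (memO c1cc0)) (nat_lit 0) (nat_lit 276) = true := by decide +kernel
theorem c1c_f0 : (Nat.ble c1cc0.K 4 && Nat.ble (topK [c1cc3, c1cc6]) c1cc0.K && Nat.beq (c1cc0.Pt 0) (c1tl0.Pt 0) && Nat.beq (ltAll 276 []) 0 && kChk c1ce_P c1x_P c1cc0.K 1 H15.Co3.B []) = true := by decide +kernel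
theorem c1c_c : chainCard [c1cc0, c1cc3, c1cc6] = 4536 ∧ topK [c1cc0, c1cc3, c1cc6] = 4 := by decide +kernel
theorem c2x_lt : allL (ltAll 7) c2x_W = true := by decide +kernel
theorem c2th_lt : allL (ltAll 7) c2th_W = true := by decide +kernel
theorem c2tl0_e_0 : allZ (dent c2tl0 c2th_P (nat_lit 276)) (nat_lit 0) (nat_lit 275) = true := by decide +kernel
theorem c2tl0_h : 0 < c2tl0.n ∧ 0 < c2tl0.K ∧ c2tl0.Pt 0 < 276 ∧ c2tl0.Q (c2tl0.Pt 0) = 0 := by decide +kernel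
theorem c2tl1_e_0 : allZ (dent c2tl1 c2th_P (nat_lit 276)) (nat_lit 0) (nat_lit 274) = true := by decide +kernel
theorem c2tl1_h : 0 < c2tl1.n ∧ 0 < c2tl1.K ∧ c2tl1.Pt 0 < 276 ∧ c2tl1.Q (c2tl1.Pt 0) = 0 := by decide +kernel
theorem c2tl2_e_0 : allZ (dent c2tl2 c2th_P (nat_lit 276)) (nat_lit 0) (nat_lit 111) = true := by decide +kernel
theorem c2tl2_h : 0 < c2tl2.n ∧ 0 < c2tl2.K ∧ c2tl2.Pt 0 < 276 ∧ c2tl2.Q (c2tl2.Pt 0) = 0 := by decide +kernel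
theorem c2tl3_e_0 : allZ (dent c2tl3 c2th_P (nat_lit 276)) (nat_lit 0) (nat_lit 29) = true := by decide +kernel
theorem c2tl3_h : 0 < c2tl3.n ∧ 0 < c2tl3.K ∧ c2tl3.Pt 0 < 276 ∧ c2tl3.Q (c2tl3.Pt 0) = 0 := by decide +kernel
theorem c2tl4_e_0 : allZ (dent c2tl4 c2th_P (nat_lit 276)) (nat_lit 0) (nat_lit 26) = true := by decide +kernel
theorem c2tl4_h : 0 < c2tl4.n ∧ 0 < c2tl4.K ∧ c2tl4.Pt 0 < 276 ∧ c2tl4.Q (c2tl4.Pt 0) = 0 := by decide +kernel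
theorem c2tl5_e_0 : allZ (dent c2tl5 c2th_P (nat_lit 276)) (nat_lit 0) (nat_lit 23) = true := by decide +kernel
theorem c2tl5_h : 0 < c2tl5.n ∧ 0 < c2tl5.K ∧ c2tl5.Pt 0 < 276 ∧ c2tl5.Q (c2tl5.Pt 0) = 0 := by decide +kernel
theorem c2tl6_e_0 : allZ (dent c2tl6 c2th_P (nat_lit 276)) (nat_lit 0) (nat_lit 2) = true := by decide +kernel
theorem c2tl6_h : 0 < c2tl6.n ∧ 0 < c2tl6.K ∧ c2tl6.Pt 0 < 276 ∧ c2tl6.Q (c2tl6.Pt 0) = 0 := by decide +kernel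
theorem c2t_f6 : (Nat.ble c2tl6.K 23 && Nat.ble (topK []) c2tl6.K && fixLetters c2th_P (topK []) (c2tl6.Pt 0)) = true := by decide +kernel
theorem c2t_f5 : (Nat.ble c2tl5.K 23 && Nat.ble (topK [c2tl6]) c2tl5.K && fixLetters c2th_P (topK [c2tl6]) (c2tl5.Pt 0)) = true := by decide +kernel
theorem c2t_f4 : (Nat.ble c2tl4.K 23 && Nat.ble (topK [c2tl5, c2tl6]) c2tl4.K && fixLetters c2th_P (topK [c2tl5, c2tl6]) (c2tl4.Pt 0)) = true := by decide +kernel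
theorem c2t_f3 : (Nat.ble c2tl3.K 23 && Nat.ble (topK [c2tl4, c2tl5, c2tl6]) c2tl3.K && fixLetters c2th_P (topK [c2tl4, c2tl5, c2tl6]) (c2tl3.Pt 0)) = true := by decide +kernel
theorem c2t_f2 : (Nat.ble c2tl2.K 23 && Nat.ble (topK [c2tl3, c2tl4, c2tl5, c2tl6]) c2tl2.K && fixLetters c2th_P (topK [c2tl3, c2tl4, c2tl5, c2tl6]) (c2tl2.Pt 0)) = true := by decide +kernel
theorem c2t_f1 : (Nat.ble c2tl1.K 23 && Nat.ble (topK [c2tl2, c2tl3, c2tl4, c2tl5, c2tl6]) c2tl1.K && fixLetters c2th_P (topK [c2tl2, c2tl3, c2tl4, c2tl5, c2tl6]) (c2tl1.Pt 0)) = true := by decide +kernel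
theorem c2t_f0 : (Nat.ble c2tl0.K 23 && Nat.ble (topK [c2tl1, c2tl2, c2tl3, c2tl4, c2tl5, c2tl6]) c2tl0.K && fixLetters c2th_P (topK [c2tl1, c2tl2, c2tl3, c2tl4, c2tl5, c2tl6]) (c2tl0.Pt 0)) = true := by decide +kernel
theorem c2t_c : chainCard [c2tl0, c2tl1, c2tl2, c2tl3, c2tl4, c2tl5, c2tl6] = 495766656000 := by decide +kernel
theorem c2ce_lt : allL (ltAll 7) c2ce_W = true := by decide +kernel
theorem c2c_f6 : (Nat.ble c2tl6.K 23 && Nat.blt (nat_lit 23) 276 && fixLetters c2th_P c2tl6.K (nat_lit 23) && Nat.beq (ltAll 1 [nat_lit 0, nat_lit 0, nat_lit 0]) 0 && Nat.beq (apW c2x_P [nat_lit 0, nat_lit 0, nat_lit 0] (nat_lit 23)) (c2tl6.Pt 0)) = true := by decide +kernel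
theorem c2c_f5 : (Nat.ble c2tl5.K 23 && Nat.blt (nat_lit 23) 276 && fixLetters c2th_P c2tl5.K (nat_lit 23) && Nat.beq (ltAll 1 [nat_lit 0, nat_lit 0]) 0 && Nat.beq (apW c2x_P [nat_lit 0, nat_lit 0] (nat_lit 23)) (c2tl5.Pt 0)) = true := by decide +kernel
theorem c2c_f4 : (Nat.ble c2tl4.K 23 && Nat.blt (nat_lit 23) 276 && fixLetters c2th_P c2tl4.K (nat_lit 23) && Nat.beq (ltAll 1 [nat_lit 0]) 0 && Nat.beq (apW c2x_P [nat_lit 0] (nat_lit 23)) (c2tl4.Pt 0)) = true := by decide +kernel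
theorem c2cc3_e_0 : allZ (dent c2cc3 c2ce_P (nat_lit 276)) (nat_lit 0) (nat_lit 4) = true := by decide +kernel
theorem c2cc3_h : 0 < c2cc3.n ∧ 0 < c2cc3.K ∧ c2cc3.Pt 0 < 276 ∧ c2cc3.Q (c2cc3.Pt 0) = 0 := by decide +kernel
theorem c2tn0_0 : (Nat.ble c2tl3.K 23 && Nat.beq (ltAll 276 [c2tl2.Pt 0, c2tl1.Pt 0, c2tl0.Pt 0]) 0 && kChk c2ce_P c2x_P c2tn0.Kn 1 H15.Co3.B [c2tl2.Pt 0, c2tl1.Pt 0, c2tl0.Pt 0] && allL (ltAll 1) c2tn0.pre && planOK c2th_P c2x_P 1 (c2tl3.Pt 0) c2tn0.plan [c2tl3, c2tl4, c2tl5, c2tl6]) = true := by decide +kernel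
theorem c2tn0_1_0 : allZ (c2tn0.ent H15.Co3.P c2th_P c2x_P c2x_P c2ce_P (nat_lit 7) (nat_lit 1) H15.Co3.B c2tl3 [c2tl4, c2tl5, c2tl6] (memO c2cc3)) (nat_lit 0) (nat_lit 30) = true := by decide +kernel
theorem c2c_f3 : (Nat.ble c2cc3.K 4 && Nat.ble (topK []) c2cc3.K && Nat.beq (c2cc3.Pt 0) (c2tl3.Pt 0) && Nat.beq (ltAll 276 [c2tl2.Pt 0, c2tl1.Pt 0, c2tl0.Pt 0]) 0 && kChk c2ce_P c2x_P c2cc3.K 1 H15.Co3.B [c2tl2.Pt 0, c2tl1.Pt 0, c2tl0.Pt 0]) = true := by decide +kernel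
theorem c2cc2_e_0 : allZ (dent c2cc2 c2ce_P (nat_lit 276)) (nat_lit 0) (nat_lit 1) = true := by decide +kernel
theorem c2cc2_h : 0 < c2cc2.n ∧ 0 < c2cc2.K ∧ c2cc2.Pt 0 < 276 ∧ c2cc2.Q (c2cc2.Pt 0) = 0 := by decide +kernel
theorem c2tn1_0 : (Nat.ble c2tl2.K 23 && Nat.beq (ltAll 276 [c2tl1.Pt 0, c2tl0.Pt 0]) 0 && kChk c2ce_P c2x_P c2tn1.Kn 1 H15.Co3.B [c2tl1.Pt 0, c2tl0.Pt 0] && allL (ltAll 1) c2tn1.pre && planOK c2th_P c2x_P 1 (c2tl2.Pt 0) c2tn1.plan [c2tl2, c2tl3, c2tl4, c2tl5, c2tl6]) = true := by decide +kernel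
theorem c2tn1_1_0 : allZ (c2tn1.ent H15.Co3.P c2th_P c2x_P c2x_P c2ce_P (nat_lit 7) (nat_lit 1) H15.Co3.B c2tl2 [c2tl3, c2tl4, c2tl5, c2tl6] (memO c2cc2)) (nat_lit 0) (nat_lit 112) = true := by decide +kernel
theorem c2c_f2 : (Nat.ble c2cc2.K 4 && Nat.ble (topK [c2cc3]) c2cc2.K && Nat.beq (c2cc2.Pt 0) (c2tl2.Pt 0) && Nat.beq (ltAll 276 [c2tl1.Pt 0, c2tl0.Pt 0]) 0 && kChk c2ce_P c2x_P c2cc2.K 1 H15.Co3.B [c2tl1.Pt 0, c2tl0.Pt 0]) = true := by decide +kernel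
theorem c2cc1_e_0 : allZ (dent c2cc1 c2ce_P (nat_lit 276)) (nat_lit 0) (nat_lit 4) = true := by decide +kernel
theorem c2cc1_h : 0 < c2cc1.n ∧ 0 < c2cc1.K ∧ c2cc1.Pt 0 < 276 ∧ c2cc1.Q (c2cc1.Pt 0) = 0 := by decide +kernel
theorem c2tn2_0 : (Nat.ble c2tl1.K 23 && Nat.beq (ltAll 276 [c2tl0.Pt 0]) 0 && kChk c2ce_P c2x_P c2tn2.Kn 1 H15.Co3.B [c2tl0.Pt 0] && allL (ltAll 1) c2tn2.pre && planOK c2th_P c2x_P 1 (c2tl1.Pt 0) c2tn2.plan [c2tl1, c2tl2, c2tl3, c2tl4, c2tl5, c2tl6]) = true := by decide +kernel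
theorem c2tn2_1_0 : allZ (c2tn2.ent H15.Co3.P c2th_P c2x_P c2x_P c2ce_P (nat_lit 7) (nat_lit 1) H15.Co3.B c2tl1 [c2tl2, c2tl3, c2tl4, c2tl5, c2tl6] (memO c2cc1)) (nat_lit 0) (nat_lit 275) = true := by decide +kernel
theorem c2c_f1 : (Nat.ble c2cc1.K 4 && Nat.ble (topK [c2cc2, c2cc3]) c2cc1.K && Nat.beq (c2cc1.Pt 0) (c2tl1.Pt 0) && Nat.beq (ltAll 276 [c2tl0.Pt 0]) 0 && kChk c2ce_P c2x_P c2cc1.K 1 H15.Co3.B [c2tl0.Pt 0]) = true := by decide +kernel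
theorem c2cc0_e_0 : allZ (dent c2cc0 c2ce_P (nat_lit 276)) (nat_lit 0) (nat_lit 5) = true := by decide +kernel
theorem c2cc0_h : 0 < c2cc0.n ∧ 0 < c2cc0.K ∧ c2cc0.Pt 0 < 276 ∧ c2cc0.Q (c2cc0.Pt 0) = 0 := by decide +kernel
theorem c2tn3_0 : (Nat.ble c2tl0.K 23 && Nat.beq (ltAll 276 []) 0 && kChk c2ce_P c2x_P c2tn3.Kn 1 H15.Co3.B [] && allL (ltAll 1) c2tn3.pre && planOK c2th_P c2x_P 1 (c2tl0.Pt 0) c2tn3.plan [c2tl0, c2tl1, c2tl2, c2tl3, c2tl4, c2tl5, c2tl6]) = true := by decide +kernel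
theorem c2tn3_1_0 : allZ (c2tn3.ent H15.Co3.P c2th_P c2x_P c2x_P c2ce_P (nat_lit 7) (nat_lit 1) H15.Co3.B c2tl0 [c2tl1, c2tl2, c2tl3, c2tl4, c2tl5, c2tl6] (memO c2cc0)) (nat_lit 0) (nat_lit 276) = true := by decide +kernel
theorem c2c_f0 : (Nat.ble c2cc0.K 4 && Nat.ble (topK [c2cc1, c2cc2, c2cc3]) c2cc0.K && Nat.beq (c2cc0.Pt 0) (c2tl0.Pt 0) && Nat.beq (ltAll 276 []) 0 && kChk c2ce_P c2x_P c2cc0.K 1 H15.Co3.B []) = true := by decide +kernel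
theorem c2c_c : chainCard [c2cc0, c2cc1, c2cc2, c2cc3] = 300 ∧ topK [c2cc0, c2cc1, c2cc2, c2cc3] = 4 := by decide +kernel
theorem c3x_lt : allL (ltAll 7) c3x_W = true := by decide +kernel
theorem c3th_lt : allL (ltAll 7) c3th_W = true := by decide +kernel
theorem c3tl0_e_0 : allZ (dent c3tl0 c3th_P (nat_lit 276)) (nat_lit 0) (nat_lit 275) = true := by decide +kernel
theorem c3tl0_h : 0 < c3tl0.n ∧ 0 < c3tl0.K ∧ c3tl0.Pt 0 < 276 ∧ c3tl0.Q (c3tl0.Pt 0) = 0 := by decide +kernel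
theorem c3tl1_e_0 : allZ (dent c3tl1 c3th_P (nat_lit 276)) (nat_lit 0) (nat_lit 274) = true := by decide +kernel
theorem c3tl1_h : 0 < c3tl1.n ∧ 0 < c3tl1.K ∧ c3tl1.Pt 0 < 276 ∧ c3tl1.Q (c3tl1.Pt 0) = 0 := by decide +kernel
theorem c3tl2_e_0 : allZ (dent c3tl2 c3th_P (nat_lit 276)) (nat_lit 0) (nat_lit 161) = true := by decide +kernel
theorem c3tl2_h : 0 < c3tl2.n ∧ 0 < c3tl2.K ∧ c3tl2.Pt 0 < 276 ∧ c3tl2.Q (c3tl2.Pt 0) = 0 := by decide +kernel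
theorem c3tl3_e_0 : allZ (dent c3tl3 c3th_P (nat_lit 276)) (nat_lit 0) (nat_lit 55) = true := by decide +kernel
theorem c3tl3_h : 0 < c3tl3.n ∧ 0 < c3tl3.K ∧ c3tl3.Pt 0 < 276 ∧ c3tl3.Q (c3tl3.Pt 0) = 0 := by decide +kernel
theorem c3tl4_e_0 : allZ (dent c3tl4 c3th_P (nat_lit 276)) (nat_lit 0) (nat_lit 44) = true := by decide +kernel
theorem c3tl4_h : 0 < c3tl4.n ∧ 0 < c3tl4.K ∧ c3tl4.Pt 0 < 276 ∧ c3tl4.Q (c3tl4.Pt 0) = 0 := by decide +kernel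
theorem c3tl5_e_0 : allZ (dent c3tl5 c3th_P (nat_lit 276)) (nat_lit 0) (nat_lit 15) = true := by decide +kernel
theorem c3tl5_h : 0 < c3tl5.n ∧ 0 < c3tl5.K ∧ c3tl5.Pt 0 < 276 ∧ c3tl5.Q (c3tl5.Pt 0) = 0 := by decide +kernel
theorem c3t_f5 : (Nat.ble c3tl5.K 16 && Nat.ble (topK []) c3tl5.K && fixLetters c3th_P (topK []) (c3tl5.Pt 0)) = true := by decide +kernel
theorem c3t_f4 : (Nat.ble c3tl4.K 16 && Nat.ble (topK [c3tl5]) c3tl4.K && fixLetters c3th_P (topK [c3tl5]) (c3tl4.Pt 0)) = true := by decide +kernel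
theorem c3t_f3 : (Nat.ble c3tl3.K 16 && Nat.ble (topK [c3tl4, c3tl5]) c3tl3.K && fixLetters c3th_P (topK [c3tl4, c3tl5]) (c3tl3.Pt 0)) = true := by decide +kernel
theorem c3t_f2 : (Nat.ble c3tl2.K 16 && Nat.ble (topK [c3tl3, c3tl4, c3tl5]) c3tl2.K && fixLetters c3th_P (topK [c3tl3, c3tl4, c3tl5]) (c3tl2.Pt 0)) = true := by decide +kernel
theorem c3t_f1 : (Nat.ble c3tl1.K 16 && Nat.ble (topK [c3tl2, c3tl3, c3tl4, c3tl5]) c3tl1.K && fixLetters c3th_P (topK [c3tl2, c3tl3, c3tl4, c3tl5]) (c3tl1.Pt 0)) = true := by decide +kernel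
theorem c3t_f0 : (Nat.ble c3tl0.K 16 && Nat.ble (topK [c3tl1, c3tl2, c3tl3, c3tl4, c3tl5]) c3tl0.K && fixLetters c3th_P (topK [c3tl1, c3tl2, c3tl3, c3tl4, c3tl5]) (c3tl0.Pt 0)) = true := by decide +kernel
theorem c3t_c : chainCard [c3tl0, c3tl1, c3tl2, c3tl3, c3tl4, c3tl5] = 495766656000 := by decide +kernel
theorem c3ce_lt : allL (ltAll 7) c3ce_W = true := by decide +kernel
theorem c3c_f5 : (Nat.ble c3tl5.K 16 && Nat.blt (nat_lit 1) 276 && fixLetters c3th_P c3tl5.K (nat_lit 1) && Nat.beq (ltAll 1 [nat_lit 0, nat_lit 0]) 0 && Nat.beq (apW c3x_P [nat_lit 0, nat_lit 0] (nat_lit 1)) (c3tl5.Pt 0)) = true := by decide +kernel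
theorem c3c_f4 : (Nat.ble c3tl4.K 16 && Nat.blt (nat_lit 1) 276 && fixLetters c3th_P c3tl4.K (nat_lit 1) && Nat.beq (ltAll 1 [nat_lit 0]) 0 && Nat.beq (apW c3x_P [nat_lit 0] (nat_lit 1)) (c3tl4.Pt 0)) = true := by decide +kernel
theorem c3cc3_e_0 : allZ (dent c3cc3 c3ce_P (nat_lit 276)) (nat_lit 0) (nat_lit 6) = true := by decide +kernel
theorem c3cc3_h : 0 < c3cc3.n ∧ 0 < c3cc3.K ∧ c3cc3.Pt 0 < 276 ∧ c3cc3.Q (c3cc3.Pt 0) = 0 := by decide +kernel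
theorem c3tn0_0 : (Nat.ble c3tl3.K 16 && Nat.beq (ltAll 276 [c3tl2.Pt 0, c3tl1.Pt 0, c3tl0.Pt 0]) 0 && kChk c3ce_P c3x_P c3tn0.Kn 1 H15.Co3.B [c3tl2.Pt 0, c3tl1.Pt 0, c3tl0.Pt 0] && allL (ltAll 1) c3tn0.pre && planOK c3th_P c3x_P 1 (c3tl3.Pt 0) c3tn0.plan [c3tl3, c3tl4, c3tl5]) = true := by decide +kernel
theorem c3tn0_1_0 : allZ (c3tn0.ent H15.Co3.P c3th_P c3x_P c3x_P c3ce_P (nat_lit 7) (nat_lit 1) H15.Co3.B c3tl3 [c3tl4, c3tl5] (memO c3cc3)) (nat_lit 0) (nat_lit 56) = true := by decide +kernel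
theorem c3c_f3 : (Nat.ble c3cc3.K 3 && Nat.ble (topK []) c3cc3.K && Nat.beq (c3cc3.Pt 0) (c3tl3.Pt 0) && Nat.beq (ltAll 276 [c3tl2.Pt 0, c3tl1.Pt 0, c3tl0.Pt 0]) 0 && kChk c3ce_P c3x_P c3cc3.K 1 H15.Co3.B [c3tl2.Pt 0, c3tl1.Pt 0, c3tl0.Pt 0]) = true := by decide +kernel
theorem c3tn1_0 : (Nat.ble c3tl2.K 16 && Nat.beq (ltAll 276 [c3tl1.Pt 0, c3tl0.Pt 0]) 0 && kChk c3ce_P c3x_P c3tn1.Kn 1 H15.Co3.B [c3tl1.Pt 0, c3tl0.Pt 0] && allL (ltAll 1) c3tn1.pre && planOK c3th_P c3x_P 1 (c3tl2.Pt 0) c3tn1.plan [c3tl2, c3tl3, c3tl4, c3tl5]) = true := by decide +kernel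
theorem c3tn1_1_0 : allZ (c3tn1.ent H15.Co3.P c3th_P c3x_P c3x_P c3ce_P (nat_lit 7) (nat_lit 1) H15.Co3.B c3tl2 [c3tl3, c3tl4, c3tl5] (fun w => Nat.xor w (c3tl2.Pt (nat_lit 0)))) (nat_lit 0) (nat_lit 162) = true := by decide +kernel
theorem c3cc1_e_0 : allZ (dent c3cc1 c3ce_P (nat_lit 276)) (nat_lit 0) (nat_lit 1) = true := by decide +kernel
theorem c3cc1_h : 0 < c3cc1.n ∧ 0 < c3cc1.K ∧ c3cc1.Pt 0 < 276 ∧ c3cc1.Q (c3cc1.Pt 0) = 0 := by decide +kernel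
theorem c3tn2_0 : (Nat.ble c3tl1.K 16 && Nat.beq (ltAll 276 [c3tl0.Pt 0]) 0 && kChk c3ce_P c3x_P c3tn2.Kn 1 H15.Co3.B [c3tl0.Pt 0] && allL (ltAll 1) c3tn2.pre && planOK c3th_P c3x_P 1 (c3tl1.Pt 0) c3tn2.plan [c3tl1, c3tl2, c3tl3, c3tl4, c3tl5]) = true := by decide +kernel
theorem c3tn2_1_0 : allZ (c3tn2.ent H15.Co3.P c3th_P c3x_P c3x_P c3ce_P (nat_lit 7) (nat_lit 1) H15.Co3.B c3tl1 [c3tl2, c3tl3, c3tl4, c3tl5] (memO c3cc1)) (nat_lit 0) (nat_lit 275) = true := by decide +kernel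
theorem c3c_f1 : (Nat.ble c3cc1.K 3 && Nat.ble (topK [c3cc3]) c3cc1.K && Nat.beq (c3cc1.Pt 0) (c3tl1.Pt 0) && Nat.beq (ltAll 276 [c3tl0.Pt 0]) 0 && kChk c3ce_P c3x_P c3cc1.K 1 H15.Co3.B [c3tl0.Pt 0]) = true := by decide +kernel
theorem c3cc0_e_0 : allZ (dent c3cc0 c3ce_P (nat_lit 276)) (nat_lit 0) (nat_lit 2) = true := by decide +kernel
theorem c3cc0_h : 0 < c3cc0.n ∧ 0 < c3cc0.K ∧ c3cc0.Pt 0 < 276 ∧ c3cc0.Q (c3cc0.Pt 0) = 0 := by decide +kernel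
theorem c3tn3_0 : (Nat.ble c3tl0.K 16 && Nat.beq (ltAll 276 []) 0 && kChk c3ce_P c3x_P c3tn3.Kn 1 H15.Co3.B [] && allL (ltAll 1) c3tn3.pre && planOK c3th_P c3x_P 1 (c3tl0.Pt 0) c3tn3.plan [c3tl0, c3tl1, c3tl2, c3tl3, c3tl4, c3tl5]) = true := by decide +kernel
theorem c3tn3_1_0 : allZ (c3tn3.ent H15.Co3.P c3th_P c3x_P c3x_P c3ce_P (nat_lit 7) (nat_lit 1) H15.Co3.B c3tl0 [c3tl1, c3tl2, c3tl3, c3tl4, c3tl5] (memO c3cc0)) (nat_lit 0) (nat_lit 276) = true := by decide +kernel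
theorem c3c_f0 : (Nat.ble c3cc0.K 3 && Nat.ble (topK [c3cc1, c3cc3]) c3cc0.K && Nat.beq (c3cc0.Pt 0) (c3tl0.Pt 0) && Nat.beq (ltAll 276 []) 0 && kChk c3ce_P c3x_P c3cc0.K 1 H15.Co3.B []) = true := by decide +kernel
theorem c3c_c : chainCard [c3cc0, c3cc1, c3cc3] = 42 ∧ topK [c3cc0, c3cc1, c3cc3] = 3 := by decide +kernel

open scoped Pointwise in
theorem md {G : Type*} [Group G] (e : gen H15.Co3.g 7 ≃* G) :
    ∃ (_ : MulAction G (Set H15.Lam)) (g : ℕ → G), Md g H15.Co3.pt H15.Co3.P 276 7 H15.Co3.B 495766656000 ∧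
      ∀ k < 7, (e.symm (g k)).1 = H15.Co3.g k :=
  exists_md H15.Co3.act H15.Co3.inj H15.Co3.card H15.Co3.isBase md_b e
theorem x_act {G Ω : Type*} [Group G] [MulAction G Ω] {g : ℕ → G} {pt : ℕ → Ω}
    (M : Md g pt H15.Co3.P 276 7 H15.Co3.B 495766656000) : Act (wds g x_W) pt x_P 276 4 :=
  M.wact x_lt
theorem c0x_act {G Ω : Type*} [Group G] [MulAction G Ω] {g : ℕ → G} {pt : ℕ → Ω}
    (M : Md g pt H15.Co3.P 276 7 H15.Co3.B 495766656000) : Act (wds g c0x_W) pt c0x_P 276 1 :=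
  M.wact c0x_lt
theorem c0th_act {G Ω : Type*} [Group G] [MulAction G Ω] {g : ℕ → G} {pt : ℕ → Ω}
    (M : Md g pt H15.Co3.P 276 7 H15.Co3.B 495766656000) : Act (wds g c0th_W) pt c0th_P 276 16 :=
  M.wact c0th_lt
theorem c0tl0_e : ∀ i < 275, (dent c0tl0 c0th_P (nat_lit 276)) i = 0 := allZ_sound0 c0tl0_e_0
theorem c0tl0_ok : DOK c0tl0 c0th_P 276 := ⟨c0tl0_h, c0tl0_e⟩
theorem c0tl1_e : ∀ i < 274, (dent c0tl1 c0th_P (nat_lit 276)) i = 0 := allZ_sound0 c0tl1_e_0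
theorem c0tl1_ok : DOK c0tl1 c0th_P 276 := ⟨c0tl1_h, c0tl1_e⟩
theorem c0tl2_e : ∀ i < 111, (dent c0tl2 c0th_P (nat_lit 276)) i = 0 := allZ_sound0 c0tl2_e_0
theorem c0tl2_ok : DOK c0tl2 c0th_P 276 := ⟨c0tl2_h, c0tl2_e⟩
theorem c0tl3_e : ∀ i < 29, (dent c0tl3 c0th_P (nat_lit 276)) i = 0 := allZ_sound0 c0tl3_e_0
theorem c0tl3_ok : DOK c0tl3 c0th_P 276 := ⟨c0tl3_h, c0tl3_e⟩
theorem c0tl4_e : ∀ i < 26, (dent c0tl4 c0th_P (nat_lit 276)) i = 0 := allZ_sound0 c0tl4_e_0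
theorem c0tl4_ok : DOK c0tl4 c0th_P 276 := ⟨c0tl4_h, c0tl4_e⟩
theorem c0tl5_e : ∀ i < 23, (dent c0tl5 c0th_P (nat_lit 276)) i = 0 := allZ_sound0 c0tl5_e_0
theorem c0tl5_ok : DOK c0tl5 c0th_P 276 := ⟨c0tl5_h, c0tl5_e⟩
theorem c0tl6_e : ∀ i < 2, (dent c0tl6 c0th_P (nat_lit 276)) i = 0 := allZ_sound0 c0tl6_e_0
theorem c0tl6_ok : DOK c0tl6 c0th_P 276 := ⟨c0tl6_h, c0tl6_e⟩
theorem c0t_low {G Ω : Type*} [Group G] [MulAction G Ω] {g : ℕ → G} {pt : ℕ → Ω}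
    (M : Md g pt H15.Co3.P 276 7 H15.Co3.B 495766656000) : SLow (gi (wds g c0th_W)) pt 276 [c0tl0, c0tl1, c0tl2, c0tl3, c0tl4, c0tl5, c0tl6] :=
  (((((((SLow.nil).cons c0tl6_ok (c0th_act M) c0t_f6).cons c0tl5_ok (c0th_act M) c0t_f5).cons c0tl4_ok (c0th_act M) c0t_f4).cons c0tl3_ok (c0th_act M) c0t_f3).cons c0tl2_ok (c0th_act M) c0t_f2).cons c0tl1_ok (c0th_act M) c0t_f1).cons c0tl0_ok (c0th_act M) c0t_f0
theorem c0t_S0 {G Ω : Type*} [Group G] [MulAction G Ω] {g : ℕ → G} {pt : ℕ → Ω}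
    (M : Md g pt H15.Co3.P 276 7 H15.Co3.B 495766656000) : Stage ⊤ (wds g c0th_W) pt 276 [c0tl0, c0tl1, c0tl2, c0tl3, c0tl4, c0tl5, c0tl6] [] :=
  M.stage (c0t_low M) c0t_c
theorem c0t_S1 {G Ω : Type*} [Group G] [MulAction G Ω] {g : ℕ → G} {pt : ℕ → Ω}
    (M : Md g pt H15.Co3.P 276 7 H15.Co3.B 495766656000) : Stage ⊤ (wds g c0th_W) pt 276 [c0tl1, c0tl2, c0tl3, c0tl4, c0tl5, c0tl6] [c0tl0.Pt 0] :=
  (c0t_S0 M).next
theorem c0t_S2 {G Ω : Type*} [Group G] [MulAction G Ω] {g : ℕ → G} {pt : ℕ → Ω}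
    (M : Md g pt H15.Co3.P 276 7 H15.Co3.B 495766656000) : Stage ⊤ (wds g c0th_W) pt 276 [c0tl2, c0tl3, c0tl4, c0tl5, c0tl6] [c0tl1.Pt 0, c0tl0.Pt 0] :=
  (c0t_S1 M).next
theorem c0t_S3 {G Ω : Type*} [Group G] [MulAction G Ω] {g : ℕ → G} {pt : ℕ → Ω}
    (M : Md g pt H15.Co3.P 276 7 H15.Co3.B 495766656000) : Stage ⊤ (wds g c0th_W) pt 276 [c0tl3, c0tl4, c0tl5, c0tl6] [c0tl2.Pt 0, c0tl1.Pt 0, c0tl0.Pt 0] :=
  (c0t_S2 M).next
theorem c0t_S4 {G Ω : Type*} [Group G] [MulAction G Ω] {g : ℕ → G} {pt : ℕ → Ω}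
    (M : Md g pt H15.Co3.P 276 7 H15.Co3.B 495766656000) : Stage ⊤ (wds g c0th_W) pt 276 [c0tl4, c0tl5, c0tl6] [c0tl3.Pt 0, c0tl2.Pt 0, c0tl1.Pt 0, c0tl0.Pt 0] :=
  (c0t_S3 M).next
theorem c0t_S5 {G Ω : Type*} [Group G] [MulAction G Ω] {g : ℕ → G} {pt : ℕ → Ω}
    (M : Md g pt H15.Co3.P 276 7 H15.Co3.B 495766656000) : Stage ⊤ (wds g c0th_W) pt 276 [c0tl5, c0tl6] [c0tl4.Pt 0, c0tl3.Pt 0, c0tl2.Pt 0, c0tl1.Pt 0, c0tl0.Pt 0] :=
  (c0t_S4 M).next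
theorem c0t_S6 {G Ω : Type*} [Group G] [MulAction G Ω] {g : ℕ → G} {pt : ℕ → Ω}
    (M : Md g pt H15.Co3.P 276 7 H15.Co3.B 495766656000) : Stage ⊤ (wds g c0th_W) pt 276 [c0tl6] [c0tl5.Pt 0, c0tl4.Pt 0, c0tl3.Pt 0, c0tl2.Pt 0, c0tl1.Pt 0, c0tl0.Pt 0] :=
  (c0t_S5 M).next
theorem c0t_S7 {G Ω : Type*} [Group G] [MulAction G Ω] {g : ℕ → G} {pt : ℕ → Ω}
    (M : Md g pt H15.Co3.P 276 7 H15.Co3.B 495766656000) : Stage ⊤ (wds g c0th_W) pt 276 [] [c0tl6.Pt 0, c0tl5.Pt 0, c0tl4.Pt 0, c0tl3.Pt 0, c0tl2.Pt 0, c0tl1.Pt 0, c0tl0.Pt 0] :=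
  (c0t_S6 M).next
theorem c0ce_act {G Ω : Type*} [Group G] [MulAction G Ω] {g : ℕ → G} {pt : ℕ → Ω}
    (M : Md g pt H15.Co3.P 276 7 H15.Co3.B 495766656000) : Act (wds g c0ce_W) pt c0ce_P 276 6 :=
  M.wact c0ce_lt
theorem c0cc6_e : ∀ i < 2, (dent c0cc6 c0ce_P (nat_lit 276)) i = 0 := allZ_sound0 c0cc6_e_0
theorem c0cc6_ok : DOK c0cc6 c0ce_P 276 := ⟨c0cc6_h, c0cc6_e⟩
theorem c0tn0_1 : ∀ i < 3, (c0tn0.ent H15.Co3.P c0th_P c0x_P c0x_P c0ce_P (nat_lit 7) (nat_lit 1) H15.Co3.B c0tl6 [] (memO c0cc6)) i = 0 := allZ_sound0 c0tn0_1_0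
theorem c0tn0_t {G Ω : Type*} [Group G] [MulAction G Ω] {g : ℕ → G} {pt : ℕ → Ω}
    (M : Md g pt H15.Co3.P 276 7 H15.Co3.B 495766656000) : TrO (gen (wds g c0th_W) c0tl6.K) (wds g c0x_W) (wds g c0x_W) 1 pt 276 (c0tl6.Pt 0) (memO c0cc6) :=
  node M (c0t_S6 M) (c0th_act M) (c0x_act M) (c0x_act M) c0tn0 ((c0ce_act M).mono (by decide)) (fun _ _ => trivial) c0tn0_0 c0tn0_1 (List.forall_mem_nil _)
theorem c0cc3_e : ∀ i < 26, (dent c0cc3 c0ce_P (nat_lit 276)) i = 0 := allZ_sound0 c0cc3_e_0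
theorem c0cc3_ok : DOK c0cc3 c0ce_P 276 := ⟨c0cc3_h, c0cc3_e⟩
theorem c0tn1_1 : ∀ i < 30, (c0tn1.ent H15.Co3.P c0th_P c0x_P c0x_P c0ce_P (nat_lit 7) (nat_lit 1) H15.Co3.B c0tl3 [c0tl4, c0tl5, c0tl6] (memO c0cc3)) i = 0 := allZ_sound0 c0tn1_1_0
theorem c0tn1_t {G Ω : Type*} [Group G] [MulAction G Ω] {g : ℕ → G} {pt : ℕ → Ω}
    (M : Md g pt H15.Co3.P 276 7 H15.Co3.B 495766656000) : TrO (gen (wds g c0th_W) c0tl3.K) (wds g c0x_W) (wds g c0x_W) 1 pt 276 (c0tl3.Pt 0) (memO c0cc3) :=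
  node M (c0t_S3 M) (c0th_act M) (c0x_act M) (c0x_act M) c0tn1 ((c0ce_act M).mono (by decide)) (fun _ _ => trivial) c0tn1_0 c0tn1_1 (List.forall_mem_nil _)
theorem c0cc2_e : ∀ i < 1, (dent c0cc2 c0ce_P (nat_lit 276)) i = 0 := allZ_sound0 c0cc2_e_0
theorem c0cc2_ok : DOK c0cc2 c0ce_P 276 := ⟨c0cc2_h, c0cc2_e⟩
theorem c0tn2y139_act {G Ω : Type*} [Group G] [MulAction G Ω] {g : ℕ → G} {pt : ℕ → Ω}
    (M : Md g pt H15.Co3.P 276 7 H15.Co3.B 495766656000) : Act (wds g c0tn2y139_W) pt c0tn2y139_P 276 1 :=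
  M.wact c0tn2y139_lt
theorem c0tr3k_act {G Ω : Type*} [Group G] [MulAction G Ω] {g : ℕ → G} {pt : ℕ → Ω}
    (M : Md g pt H15.Co3.P 276 7 H15.Co3.B 495766656000) : Act (wds g c0tr3k_W) pt c0tr3k_P 276 4 :=
  M.wact c0tr3k_lt
theorem c0tn3y108_act {G Ω : Type*} [Group G] [MulAction G Ω] {g : ℕ → G} {pt : ℕ → Ω}
    (M : Md g pt H15.Co3.P 276 7 H15.Co3.B 495766656000) : Act (wds g c0tn3y108_W) pt c0tn3y108_P 276 1 :=
  M.wact c0tn3y108_lt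
theorem c0tr4k_act {G Ω : Type*} [Group G] [MulAction G Ω] {g : ℕ → G} {pt : ℕ → Ω}
    (M : Md g pt H15.Co3.P 276 7 H15.Co3.B 495766656000) : Act (wds g c0tr4k_W) pt c0tr4k_P 276 2 :=
  M.wact c0tr4k_lt
theorem c0tn4_1 : ∀ i < 3, (c0tn4.ent H15.Co3.P c0th_P c0x_P c0tn3y108_P c0tr4k_P (nat_lit 7) (nat_lit 1) H15.Co3.B c0tl6 [] (fun _ => nat_lit 1)) i = 0 := allZ_sound0 c0tn4_1_0
theorem c0tn4_t {G Ω : Type*} [Group G] [MulAction G Ω] {g : ℕ → G} {pt : ℕ → Ω}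
    (M : Md g pt H15.Co3.P 276 7 H15.Co3.B 495766656000) : TrO (gen (wds g c0th_W) c0tl6.K) (wds g c0x_W) (wds g c0tn3y108_W) 1 pt 276 (c0tl6.Pt 0) (fun _ => nat_lit 1) :=
  node M (c0t_S6 M) (c0th_act M) (c0x_act M) (c0tn3y108_act M) c0tn4 ((c0tr4k_act M).mono (by decide)) (fun _ _ => trivial) c0tn4_0 c0tn4_1 (List.forall_mem_nil _)
theorem c0tr4 {G Ω : Type*} [Group G] [MulAction G Ω] {g : ℕ → G} {pt : ℕ → Ω}
    (M : Md g pt H15.Co3.P 276 7 H15.Co3.B 495766656000) : Ref (gen (wds g c0th_W) (topK [c0tl6])) (wds g c0x_W) (wds g c0tn3y108_W) 1 :=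
  (c0tn4_t M).ref
theorem c0tn3_1 : ∀ i < 30, (c0tn3.ent H15.Co3.P c0th_P c0x_P c0tn2y139_P c0tr3k_P (nat_lit 7) (nat_lit 1) H15.Co3.B c0tl3 [c0tl4, c0tl5, c0tl6] (fun _ => nat_lit 1)) i = 0 := allZ_sound0 c0tn3_1_0
theorem c0tn3_t {G Ω : Type*} [Group G] [MulAction G Ω] {g : ℕ → G} {pt : ℕ → Ω}
    (M : Md g pt H15.Co3.P 276 7 H15.Co3.B 495766656000) : TrO (gen (wds g c0th_W) c0tl3.K) (wds g c0x_W) (wds g c0tn2y139_W) 1 pt 276 (c0tl3.Pt 0) (fun _ => nat_lit 1) :=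
  node M (c0t_S3 M) (c0th_act M) (c0x_act M) (c0tn2y139_act M) c0tn3 ((c0tr3k_act M).mono (by decide)) (fun _ _ => trivial) c0tn3_0 c0tn3_1 (List.forall_mem_cons.2 ⟨c0tr4 M, List.forall_mem_nil _⟩)
theorem c0tr3 {G Ω : Type*} [Group G] [MulAction G Ω] {g : ℕ → G} {pt : ℕ → Ω}
    (M : Md g pt H15.Co3.P 276 7 H15.Co3.B 495766656000) : Ref (gen (wds g c0th_W) (topK [c0tl3, c0tl4, c0tl5, c0tl6])) (wds g c0x_W) (wds g c0tn2y139_W) 1 :=
  (c0tn3_t M).ref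
theorem c0tn2_1 : ∀ i < 112, (c0tn2.ent H15.Co3.P c0th_P c0x_P c0x_P c0ce_P (nat_lit 7) (nat_lit 1) H15.Co3.B c0tl2 [c0tl3, c0tl4, c0tl5, c0tl6] (memO c0cc2)) i = 0 := allZ_sound0 c0tn2_1_0
theorem c0tn2_t {G Ω : Type*} [Group G] [MulAction G Ω] {g : ℕ → G} {pt : ℕ → Ω}
    (M : Md g pt H15.Co3.P 276 7 H15.Co3.B 495766656000) : TrO (gen (wds g c0th_W) c0tl2.K) (wds g c0x_W) (wds g c0x_W) 1 pt 276 (c0tl2.Pt 0) (memO c0cc2) :=
  node M (c0t_S2 M) (c0th_act M) (c0x_act M) (c0x_act M) c0tn2 ((c0ce_act M).mono (by decide)) (fun _ _ => trivial) c0tn2_0 c0tn2_1 (List.forall_mem_cons.2 ⟨c0tr3 M, List.forall_mem_nil _⟩)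
theorem c0cc1_e : ∀ i < 11, (dent c0cc1 c0ce_P (nat_lit 276)) i = 0 := allZ_sound0 c0cc1_e_0
theorem c0cc1_ok : DOK c0cc1 c0ce_P 276 := ⟨c0cc1_h, c0cc1_e⟩
theorem c0tn5y15_act {G Ω : Type*} [Group G] [MulAction G Ω] {g : ℕ → G} {pt : ℕ → Ω}
    (M : Md g pt H15.Co3.P 276 7 H15.Co3.B 495766656000) : Act (wds g c0tn5y15_W) pt c0tn5y15_P 276 1 :=
  M.wact c0tn5y15_lt
theorem c0tr6k_act {G Ω : Type*} [Group G] [MulAction G Ω] {g : ℕ → G} {pt : ℕ → Ω}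
    (M : Md g pt H15.Co3.P 276 7 H15.Co3.B 495766656000) : Act (wds g c0tr6k_W) pt c0tr6k_P 276 3 :=
  M.wact c0tr6k_lt
theorem c0tn6y15_act {G Ω : Type*} [Group G] [MulAction G Ω] {g : ℕ → G} {pt : ℕ → Ω}
    (M : Md g pt H15.Co3.P 276 7 H15.Co3.B 495766656000) : Act (wds g c0tn6y15_W) pt c0tn6y15_P 276 1 :=
  M.wact c0tn6y15_lt
theorem c0tr7k_act {G Ω : Type*} [Group G] [MulAction G Ω] {g : ℕ → G} {pt : ℕ → Ω}
    (M : Md g pt H15.Co3.P 276 7 H15.Co3.B 495766656000) : Act (wds g c0tr7k_W) pt c0tr7k_P 276 4 :=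
  M.wact c0tr7k_lt
theorem c0tn7y20_act {G Ω : Type*} [Group G] [MulAction G Ω] {g : ℕ → G} {pt : ℕ → Ω}
    (M : Md g pt H15.Co3.P 276 7 H15.Co3.B 495766656000) : Act (wds g c0tn7y20_W) pt c0tn7y20_P 276 1 :=
  M.wact c0tn7y20_lt
theorem c0tr8k_act {G Ω : Type*} [Group G] [MulAction G Ω] {g : ℕ → G} {pt : ℕ → Ω}
    (M : Md g pt H15.Co3.P 276 7 H15.Co3.B 495766656000) : Act (wds g c0tr8k_W) pt c0tr8k_P 276 2 :=
  M.wact c0tr8k_lt
theorem c0tn8_1 : ∀ i < 3, (c0tn8.ent H15.Co3.P c0th_P c0x_P c0tn7y20_P c0tr8k_P (nat_lit 7) (nat_lit 1) H15.Co3.B c0tl6 [] (fun _ => nat_lit 1)) i = 0 := allZ_sound0 c0tn8_1_0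
theorem c0tn8_t {G Ω : Type*} [Group G] [MulAction G Ω] {g : ℕ → G} {pt : ℕ → Ω}
    (M : Md g pt H15.Co3.P 276 7 H15.Co3.B 495766656000) : TrO (gen (wds g c0th_W) c0tl6.K) (wds g c0x_W) (wds g c0tn7y20_W) 1 pt 276 (c0tl6.Pt 0) (fun _ => nat_lit 1) :=
  node M (c0t_S6 M) (c0th_act M) (c0x_act M) (c0tn7y20_act M) c0tn8 ((c0tr8k_act M).mono (by decide)) (fun _ _ => trivial) c0tn8_0 c0tn8_1 (List.forall_mem_nil _)
theorem c0tr8 {G Ω : Type*} [Group G] [MulAction G Ω] {g : ℕ → G} {pt : ℕ → Ω}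
    (M : Md g pt H15.Co3.P 276 7 H15.Co3.B 495766656000) : Ref (gen (wds g c0th_W) (topK [c0tl6])) (wds g c0x_W) (wds g c0tn7y20_W) 1 :=
  (c0tn8_t M).ref
theorem c0tn7_1 : ∀ i < 30, (c0tn7.ent H15.Co3.P c0th_P c0x_P c0tn6y15_P c0tr7k_P (nat_lit 7) (nat_lit 1) H15.Co3.B c0tl3 [c0tl4, c0tl5, c0tl6] (fun _ => nat_lit 1)) i = 0 := allZ_sound0 c0tn7_1_0
theorem c0tn7_t {G Ω : Type*} [Group G] [MulAction G Ω] {g : ℕ → G} {pt : ℕ → Ω}
    (M : Md g pt H15.Co3.P 276 7 H15.Co3.B 495766656000) : TrO (gen (wds g c0th_W) c0tl3.K) (wds g c0x_W) (wds g c0tn6y15_W) 1 pt 276 (c0tl3.Pt 0) (fun _ => nat_lit 1) :=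
  node M (c0t_S3 M) (c0th_act M) (c0x_act M) (c0tn6y15_act M) c0tn7 ((c0tr7k_act M).mono (by decide)) (fun _ _ => trivial) c0tn7_0 c0tn7_1 (List.forall_mem_cons.2 ⟨c0tr8 M, List.forall_mem_nil _⟩)
theorem c0tr7 {G Ω : Type*} [Group G] [MulAction G Ω] {g : ℕ → G} {pt : ℕ → Ω}
    (M : Md g pt H15.Co3.P 276 7 H15.Co3.B 495766656000) : Ref (gen (wds g c0th_W) (topK [c0tl3, c0tl4, c0tl5, c0tl6])) (wds g c0x_W) (wds g c0tn6y15_W) 1 :=
  (c0tn7_t M).ref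
theorem c0tn6y70_act {G Ω : Type*} [Group G] [MulAction G Ω] {g : ℕ → G} {pt : ℕ → Ω}
    (M : Md g pt H15.Co3.P 276 7 H15.Co3.B 495766656000) : Act (wds g c0tn6y70_W) pt c0tn6y70_P 276 1 :=
  M.wact c0tn6y70_lt
theorem c0tr9k_act {G Ω : Type*} [Group G] [MulAction G Ω] {g : ℕ → G} {pt : ℕ → Ω}
    (M : Md g pt H15.Co3.P 276 7 H15.Co3.B 495766656000) : Act (wds g c0tr9k_W) pt c0tr9k_P 276 3 :=
  M.wact c0tr9k_lt
theorem c0tn9_1 : ∀ i < 30, (c0tn9.ent H15.Co3.P c0th_P c0x_P c0tn6y70_P c0tr9k_P (nat_lit 7) (nat_lit 1) H15.Co3.B c0tl3 [c0tl4, c0tl5, c0tl6] (fun _ => nat_lit 1)) i = 0 := allZ_sound0 c0tn9_1_0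
theorem c0tn9_t {G Ω : Type*} [Group G] [MulAction G Ω] {g : ℕ → G} {pt : ℕ → Ω}
    (M : Md g pt H15.Co3.P 276 7 H15.Co3.B 495766656000) : TrO (gen (wds g c0th_W) c0tl3.K) (wds g c0x_W) (wds g c0tn6y70_W) 1 pt 276 (c0tl3.Pt 0) (fun _ => nat_lit 1) :=
  node M (c0t_S3 M) (c0th_act M) (c0x_act M) (c0tn6y70_act M) c0tn9 ((c0tr9k_act M).mono (by decide)) (fun _ _ => trivial) c0tn9_0 c0tn9_1 (List.forall_mem_nil _)
theorem c0tr9 {G Ω : Type*} [Group G] [MulAction G Ω] {g : ℕ → G} {pt : ℕ → Ω}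
    (M : Md g pt H15.Co3.P 276 7 H15.Co3.B 495766656000) : Ref (gen (wds g c0th_W) (topK [c0tl3, c0tl4, c0tl5, c0tl6])) (wds g c0x_W) (wds g c0tn6y70_W) 1 :=
  (c0tn9_t M).ref
theorem c0tn6_1 : ∀ i < 112, (c0tn6.ent H15.Co3.P c0th_P c0x_P c0tn5y15_P c0tr6k_P (nat_lit 7) (nat_lit 1) H15.Co3.B c0tl2 [c0tl3, c0tl4, c0tl5, c0tl6] (fun _ => nat_lit 1)) i = 0 := allZ_sound0 c0tn6_1_0
theorem c0tn6_t {G Ω : Type*} [Group G] [MulAction G Ω] {g : ℕ → G} {pt : ℕ → Ω}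
    (M : Md g pt H15.Co3.P 276 7 H15.Co3.B 495766656000) : TrO (gen (wds g c0th_W) c0tl2.K) (wds g c0x_W) (wds g c0tn5y15_W) 1 pt 276 (c0tl2.Pt 0) (fun _ => nat_lit 1) :=
  node M (c0t_S2 M) (c0th_act M) (c0x_act M) (c0tn5y15_act M) c0tn6 ((c0tr6k_act M).mono (by decide)) (fun _ _ => trivial) c0tn6_0 c0tn6_1 (List.forall_mem_cons.2 ⟨c0tr7 M, List.forall_mem_cons.2 ⟨c0tr9 M, List.forall_mem_nil _⟩⟩)
theorem c0tr6 {G Ω : Type*} [Group G] [MulAction G Ω] {g : ℕ → G} {pt : ℕ → Ω}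
    (M : Md g pt H15.Co3.P 276 7 H15.Co3.B 495766656000) : Ref (gen (wds g c0th_W) (topK [c0tl2, c0tl3, c0tl4, c0tl5, c0tl6])) (wds g c0x_W) (wds g c0tn5y15_W) 1 :=
  (c0tn6_t M).ref
theorem c0tn5_1 : ∀ i < 275, (c0tn5.ent H15.Co3.P c0th_P c0x_P c0x_P c0ce_P (nat_lit 7) (nat_lit 1) H15.Co3.B c0tl1 [c0tl2, c0tl3, c0tl4, c0tl5, c0tl6] (memO c0cc1)) i = 0 := allZ_sound0 c0tn5_1_0
theorem c0tn5_t {G Ω : Type*} [Group G] [MulAction G Ω] {g : ℕ → G} {pt : ℕ → Ω}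
    (M : Md g pt H15.Co3.P 276 7 H15.Co3.B 495766656000) : TrO (gen (wds g c0th_W) c0tl1.K) (wds g c0x_W) (wds g c0x_W) 1 pt 276 (c0tl1.Pt 0) (memO c0cc1) :=
  node M (c0t_S1 M) (c0th_act M) (c0x_act M) (c0x_act M) c0tn5 ((c0ce_act M).mono (by decide)) (fun _ _ => trivial) c0tn5_0 c0tn5_1 (List.forall_mem_cons.2 ⟨c0tr6 M, List.forall_mem_nil _⟩)
theorem c0cc0_e : ∀ i < 14, (dent c0cc0 c0ce_P (nat_lit 276)) i = 0 := allZ_sound0 c0cc0_e_0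
theorem c0cc0_ok : DOK c0cc0 c0ce_P 276 := ⟨c0cc0_h, c0cc0_e⟩
theorem c0tn10_1 : ∀ i < 276, (c0tn10.ent H15.Co3.P c0th_P c0x_P c0x_P c0ce_P (nat_lit 7) (nat_lit 1) H15.Co3.B c0tl0 [c0tl1, c0tl2, c0tl3, c0tl4, c0tl5, c0tl6] (memO c0cc0)) i = 0 := allZ_sound0 c0tn10_1_0
theorem c0tn10_t {G Ω : Type*} [Group G] [MulAction G Ω] {g : ℕ → G} {pt : ℕ → Ω}
    (M : Md g pt H15.Co3.P 276 7 H15.Co3.B 495766656000) : TrO (gen (wds g c0th_W) c0tl0.K) (wds g c0x_W) (wds g c0x_W) 1 pt 276 (c0tl0.Pt 0) (memO c0cc0) :=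
  node M (c0t_S0 M) (c0th_act M) (c0x_act M) (c0x_act M) c0tn10 ((c0ce_act M).mono (by decide)) (fun _ _ => trivial) c0tn10_0 c0tn10_1 (List.forall_mem_nil _)
theorem c0c {G Ω : Type*} [Group G] [MulAction G Ω] {g : ℕ → G} {pt : ℕ → Ω}
    (M : Md g pt H15.Co3.P 276 7 H15.Co3.B 495766656000) : Cen ⊤ (wds g c0x_W) 1 (wds g c0ce_W) pt 276 [c0cc0, c0cc1, c0cc2, c0cc3, c0cc6] :=
  (c0t_S0 M).top ▸ Cen.lev M (c0t_S0 M) (Cen.lev M (c0t_S1 M) (Cen.lev M (c0t_S2 M) (Cen.lev M (c0t_S3 M) (Cen.triv (c0t_S4 M) (Cen.triv (c0t_S5 M) (Cen.lev M (c0t_S6 M) (Cen.bot) (c0tn0_t M) (c0x_act M) (c0ce_act M) (fun _ _ => trivial) c0cc6_ok c0c_f6) (forced (c0t_S5 M) (c0th_act M) (c0x_act M) _ _ c0c_f5)) (forced (c0t_S4 M) (c0th_act M) (c0x_act M) _ _ c0c_f4)) (c0tn1_t M) (c0x_act M) (c0ce_act M) (fun _ _ => trivial) c0cc3_ok c0c_f3) (c0tn2_t M) (c0x_act M) (c0ce_act M) (fun _ _ => trivial)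 c0cc2_ok c0c_f2) (c0tn5_t M) (c0x_act M) (c0ce_act M) (fun _ _ => trivial) c0cc1_ok c0c_f1) (c0tn10_t M) (c0x_act M) (c0ce_act M) (fun _ _ => trivial) c0cc0_ok c0c_f0
theorem c0c_card {G Ω : Type*} [Group G] [MulAction G Ω] {g : ℕ → G} {pt : ℕ → Ω}
    (M : Md g pt H15.Co3.P 276 7 H15.Co3.B 495766656000) : Nat.card (Subgroup.centralizer {(wds g c0x_W) 0}) = 29160 :=
  (c0c M).card_cent1 M.inj c0c_c.1
theorem c0c_eq {G Ω : Type*} [Group G] [MulAction G Ω] {g : ℕ → G} {pt : ℕ → Ω}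
    (M : Md g pt H15.Co3.P 276 7 H15.Co3.B 495766656000) : Subgroup.centralizer (gen (wds g c0x_W) 1) = gen (wds g c0ce_W) 6 ∧ Nat.card (gen (wds g c0ce_W) 6) = 29160 :=
  c0c_c.1 ▸ c0c_c.2 ▸ ⟨(c0c M).cent, (c0c M).card M.inj⟩
theorem c0 {G Ω : Type*} [Group G] [MulAction G Ω] {g : ℕ → G} {pt : ℕ → Ω}
    (M : Md g pt H15.Co3.P 276 7 H15.Co3.B 495766656000) : Nat.card (Subgroup.centralizer {(wds g x_W) 0}) = 29160 :=
  c0c_card M
theorem c1x_act {G Ω : Type*} [Group G] [MulAction G Ω] {g : ℕ → G} {pt : ℕ → Ω}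
    (M : Md g pt H15.Co3.P 276 7 H15.Co3.B 495766656000) : Act (wds g c1x_W) pt c1x_P 276 1 :=
  M.wact c1x_lt
theorem c1th_act {G Ω : Type*} [Group G] [MulAction G Ω] {g : ℕ → G} {pt : ℕ → Ω}
    (M : Md g pt H15.Co3.P 276 7 H15.Co3.B 495766656000) : Act (wds g c1th_W) pt c1th_P 276 16 :=
  M.wact c1th_lt
theorem c1tl0_e : ∀ i < 275, (dent c1tl0 c1th_P (nat_lit 276)) i = 0 := allZ_sound0 c1tl0_e_0
theorem c1tl0_ok : DOK c1tl0 c1th_P 276 := ⟨c1tl0_h, c1tl0_e⟩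
theorem c1tl1_e : ∀ i < 274, (dent c1tl1 c1th_P (nat_lit 276)) i = 0 := allZ_sound0 c1tl1_e_0
theorem c1tl1_ok : DOK c1tl1 c1th_P 276 := ⟨c1tl1_h, c1tl1_e⟩
theorem c1tl2_e : ∀ i < 111, (dent c1tl2 c1th_P (nat_lit 276)) i = 0 := allZ_sound0 c1tl2_e_0
theorem c1tl2_ok : DOK c1tl2 c1th_P 276 := ⟨c1tl2_h, c1tl2_e⟩
theorem c1tl3_e : ∀ i < 29, (dent c1tl3 c1th_P (nat_lit 276)) i = 0 := allZ_sound0 c1tl3_e_0
theorem c1tl3_ok : DOK c1tl3 c1th_P 276 := ⟨c1tl3_h, c1tl3_e⟩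
theorem c1tl4_e : ∀ i < 26, (dent c1tl4 c1th_P (nat_lit 276)) i = 0 := allZ_sound0 c1tl4_e_0
theorem c1tl4_ok : DOK c1tl4 c1th_P 276 := ⟨c1tl4_h, c1tl4_e⟩
theorem c1tl5_e : ∀ i < 23, (dent c1tl5 c1th_P (nat_lit 276)) i = 0 := allZ_sound0 c1tl5_e_0
theorem c1tl5_ok : DOK c1tl5 c1th_P 276 := ⟨c1tl5_h, c1tl5_e⟩
theorem c1tl6_e : ∀ i < 2, (dent c1tl6 c1th_P (nat_lit 276)) i = 0 := allZ_sound0 c1tl6_e_0
theorem c1tl6_ok : DOK c1tl6 c1th_P 276 := ⟨c1tl6_h, c1tl6_e⟩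
theorem c1t_low {G Ω : Type*} [Group G] [MulAction G Ω] {g : ℕ → G} {pt : ℕ → Ω}
    (M : Md g pt H15.Co3.P 276 7 H15.Co3.B 495766656000) : SLow (gi (wds g c1th_W)) pt 276 [c1tl0, c1tl1, c1tl2, c1tl3, c1tl4, c1tl5, c1tl6] :=
  (((((((SLow.nil).cons c1tl6_ok (c1th_act M) c1t_f6).cons c1tl5_ok (c1th_act M) c1t_f5).cons c1tl4_ok (c1th_act M) c1t_f4).cons c1tl3_ok (c1th_act M) c1t_f3).cons c1tl2_ok (c1th_act M) c1t_f2).cons c1tl1_ok (c1th_act M) c1t_f1).cons c1tl0_ok (c1th_act M) c1t_f0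
theorem c1t_S0 {G Ω : Type*} [Group G] [MulAction G Ω] {g : ℕ → G} {pt : ℕ → Ω}
    (M : Md g pt H15.Co3.P 276 7 H15.Co3.B 495766656000) : Stage ⊤ (wds g c1th_W) pt 276 [c1tl0, c1tl1, c1tl2, c1tl3, c1tl4, c1tl5, c1tl6] [] :=
  M.stage (c1t_low M) c1t_c
theorem c1t_S1 {G Ω : Type*} [Group G] [MulAction G Ω] {g : ℕ → G} {pt : ℕ → Ω}
    (M : Md g pt H15.Co3.P 276 7 H15.Co3.B 495766656000) : Stage ⊤ (wds g c1th_W) pt 276 [c1tl1, c1tl2, c1tl3, c1tl4, c1tl5, c1tl6] [c1tl0.Pt 0] :=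
  (c1t_S0 M).next
theorem c1t_S2 {G Ω : Type*} [Group G] [MulAction G Ω] {g : ℕ → G} {pt : ℕ → Ω}
    (M : Md g pt H15.Co3.P 276 7 H15.Co3.B 495766656000) : Stage ⊤ (wds g c1th_W) pt 276 [c1tl2, c1tl3, c1tl4, c1tl5, c1tl6] [c1tl1.Pt 0, c1tl0.Pt 0] :=
  (c1t_S1 M).next
theorem c1t_S3 {G Ω : Type*} [Group G] [MulAction G Ω] {g : ℕ → G} {pt : ℕ → Ω}
    (M : Md g pt H15.Co3.P 276 7 H15.Co3.B 495766656000) : Stage ⊤ (wds g c1th_W) pt 276 [c1tl3, c1tl4, c1tl5, c1tl6] [c1tl2.Pt 0, c1tl1.Pt 0, c1tl0.Pt 0] :=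
  (c1t_S2 M).next
theorem c1t_S4 {G Ω : Type*} [Group G] [MulAction G Ω] {g : ℕ → G} {pt : ℕ → Ω}
    (M : Md g pt H15.Co3.P 276 7 H15.Co3.B 495766656000) : Stage ⊤ (wds g c1th_W) pt 276 [c1tl4, c1tl5, c1tl6] [c1tl3.Pt 0, c1tl2.Pt 0, c1tl1.Pt 0, c1tl0.Pt 0] :=
  (c1t_S3 M).next
theorem c1t_S5 {G Ω : Type*} [Group G] [MulAction G Ω] {g : ℕ → G} {pt : ℕ → Ω}
    (M : Md g pt H15.Co3.P 276 7 H15.Co3.B 495766656000) : Stage ⊤ (wds g c1th_W) pt 276 [c1tl5, c1tl6] [c1tl4.Pt 0, c1tl3.Pt 0, c1tl2.Pt 0, c1tl1.Pt 0, c1tl0.Pt 0] :=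
  (c1t_S4 M).next
theorem c1t_S6 {G Ω : Type*} [Group G] [MulAction G Ω] {g : ℕ → G} {pt : ℕ → Ω}
    (M : Md g pt H15.Co3.P 276 7 H15.Co3.B 495766656000) : Stage ⊤ (wds g c1th_W) pt 276 [c1tl6] [c1tl5.Pt 0, c1tl4.Pt 0, c1tl3.Pt 0, c1tl2.Pt 0, c1tl1.Pt 0, c1tl0.Pt 0] :=
  (c1t_S5 M).next
theorem c1t_S7 {G Ω : Type*} [Group G] [MulAction G Ω] {g : ℕ → G} {pt : ℕ → Ω}
    (M : Md g pt H15.Co3.P 276 7 H15.Co3.B 495766656000) : Stage ⊤ (wds g c1th_W) pt 276 [] [c1tl6.Pt 0, c1tl5.Pt 0, c1tl4.Pt 0, c1tl3.Pt 0, c1tl2.Pt 0, c1tl1.Pt 0, c1tl0.Pt 0] :=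
  (c1t_S6 M).next
theorem c1ce_act {G Ω : Type*} [Group G] [MulAction G Ω] {g : ℕ → G} {pt : ℕ → Ω}
    (M : Md g pt H15.Co3.P 276 7 H15.Co3.B 495766656000) : Act (wds g c1ce_W) pt c1ce_P 276 4 :=
  M.wact c1ce_lt
theorem c1cc6_e : ∀ i < 2, (dent c1cc6 c1ce_P (nat_lit 276)) i = 0 := allZ_sound0 c1cc6_e_0
theorem c1cc6_ok : DOK c1cc6 c1ce_P 276 := ⟨c1cc6_h, c1cc6_e⟩
theorem c1tn0_1 : ∀ i < 3, (c1tn0.ent H15.Co3.P c1th_P c1x_P c1x_P c1ce_P (nat_lit 7) (nat_lit 1) H15.Co3.B c1tl6 [] (memO c1cc6)) i = 0 := allZ_sound0 c1tn0_1_0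
theorem c1tn0_t {G Ω : Type*} [Group G] [MulAction G Ω] {g : ℕ → G} {pt : ℕ → Ω}
    (M : Md g pt H15.Co3.P 276 7 H15.Co3.B 495766656000) : TrO (gen (wds g c1th_W) c1tl6.K) (wds g c1x_W) (wds g c1x_W) 1 pt 276 (c1tl6.Pt 0) (memO c1cc6) :=
  node M (c1t_S6 M) (c1th_act M) (c1x_act M) (c1x_act M) c1tn0 ((c1ce_act M).mono (by decide)) (fun _ _ => trivial) c1tn0_0 c1tn0_1 (List.forall_mem_nil _)
theorem c1cc3_e : ∀ i < 8, (dent c1cc3 c1ce_P (nat_lit 276)) i = 0 := allZ_sound0 c1cc3_e_0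
theorem c1cc3_ok : DOK c1cc3 c1ce_P 276 := ⟨c1cc3_h, c1cc3_e⟩
theorem c1tn1y191_act {G Ω : Type*} [Group G] [MulAction G Ω] {g : ℕ → G} {pt : ℕ → Ω}
    (M : Md g pt H15.Co3.P 276 7 H15.Co3.B 495766656000) : Act (wds g c1tn1y191_W) pt c1tn1y191_P 276 1 :=
  M.wact c1tn1y191_lt
theorem c1tr2k_act {G Ω : Type*} [Group G] [MulAction G Ω] {g : ℕ → G} {pt : ℕ → Ω}
    (M : Md g pt H15.Co3.P 276 7 H15.Co3.B 495766656000) : Act (wds g c1tr2k_W) pt c1tr2k_P 276 2 :=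
  M.wact c1tr2k_lt
theorem c1tn2_1 : ∀ i < 3, (c1tn2.ent H15.Co3.P c1th_P c1x_P c1tn1y191_P c1tr2k_P (nat_lit 7) (nat_lit 1) H15.Co3.B c1tl6 [] (fun _ => nat_lit 1)) i = 0 := allZ_sound0 c1tn2_1_0
theorem c1tn2_t {G Ω : Type*} [Group G] [MulAction G Ω] {g : ℕ → G} {pt : ℕ → Ω}
    (M : Md g pt H15.Co3.P 276 7 H15.Co3.B 495766656000) : TrO (gen (wds g c1th_W) c1tl6.K) (wds g c1x_W) (wds g c1tn1y191_W) 1 pt 276 (c1tl6.Pt 0) (fun _ => nat_lit 1) :=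
  node M (c1t_S6 M) (c1th_act M) (c1x_act M) (c1tn1y191_act M) c1tn2 ((c1tr2k_act M).mono (by decide)) (fun _ _ => trivial) c1tn2_0 c1tn2_1 (List.forall_mem_nil _)
theorem c1tr2 {G Ω : Type*} [Group G] [MulAction G Ω] {g : ℕ → G} {pt : ℕ → Ω}
    (M : Md g pt H15.Co3.P 276 7 H15.Co3.B 495766656000) : Ref (gen (wds g c1th_W) (topK [c1tl6])) (wds g c1x_W) (wds g c1tn1y191_W) 1 :=
  (c1tn2_t M).ref
theorem c1tn1y258_act {G Ω : Type*} [Group G] [MulAction G Ω] {g : ℕ → G} {pt : ℕ → Ω}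
    (M : Md g pt H15.Co3.P 276 7 H15.Co3.B 495766656000) : Act (wds g c1tn1y258_W) pt c1tn1y258_P 276 1 :=
  M.wact c1tn1y258_lt
theorem c1tr3k_act {G Ω : Type*} [Group G] [MulAction G Ω] {g : ℕ → G} {pt : ℕ → Ω}
    (M : Md g pt H15.Co3.P 276 7 H15.Co3.B 495766656000) : Act (wds g c1tr3k_W) pt c1tr3k_P 276 2 :=
  M.wact c1tr3k_lt
theorem c1tn3_1 : ∀ i < 3, (c1tn3.ent H15.Co3.P c1th_P c1x_P c1tn1y258_P c1tr3k_P (nat_lit 7) (nat_lit 1) H15.Co3.B c1tl6 [] (fun _ => nat_lit 1)) i = 0 := allZ_sound0 c1tn3_1_0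
theorem c1tn3_t {G Ω : Type*} [Group G] [MulAction G Ω] {g : ℕ → G} {pt : ℕ → Ω}
    (M : Md g pt H15.Co3.P 276 7 H15.Co3.B 495766656000) : TrO (gen (wds g c1th_W) c1tl6.K) (wds g c1x_W) (wds g c1tn1y258_W) 1 pt 276 (c1tl6.Pt 0) (fun _ => nat_lit 1) :=
  node M (c1t_S6 M) (c1th_act M) (c1x_act M) (c1tn1y258_act M) c1tn3 ((c1tr3k_act M).mono (by decide)) (fun _ _ => trivial) c1tn3_0 c1tn3_1 (List.forall_mem_nil _)
theorem c1tr3 {G Ω : Type*} [Group G] [MulAction G Ω] {g : ℕ → G} {pt : ℕ → Ω}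
    (M : Md g pt H15.Co3.P 276 7 H15.Co3.B 495766656000) : Ref (gen (wds g c1th_W) (topK [c1tl6])) (wds g c1x_W) (wds g c1tn1y258_W) 1 :=
  (c1tn3_t M).ref
theorem c1tn1_1 : ∀ i < 30, (c1tn1.ent H15.Co3.P c1th_P c1x_P c1x_P c1ce_P (nat_lit 7) (nat_lit 1) H15.Co3.B c1tl3 [c1tl4, c1tl5, c1tl6] (memO c1cc3)) i = 0 := allZ_sound0 c1tn1_1_0
theorem c1tn1_t {G Ω : Type*} [Group G] [MulAction G Ω] {g : ℕ → G} {pt : ℕ → Ω}
    (M : Md g pt H15.Co3.P 276 7 H15.Co3.B 495766656000) : TrO (gen (wds g c1th_W) c1tl3.K) (wds g c1x_W) (wds g c1x_W) 1 pt 276 (c1tl3.Pt 0) (memO c1cc3) :=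
  node M (c1t_S3 M) (c1th_act M) (c1x_act M) (c1x_act M) c1tn1 ((c1ce_act M).mono (by decide)) (fun _ _ => trivial) c1tn1_0 c1tn1_1 (List.forall_mem_cons.2 ⟨c1tr2 M, List.forall_mem_cons.2 ⟨c1tr3 M, List.forall_mem_nil _⟩⟩)
theorem c1cc0_e : ∀ i < 167, (dent c1cc0 c1ce_P (nat_lit 276)) i = 0 := allZ_sound0 c1cc0_e_0
theorem c1cc0_ok : DOK c1cc0 c1ce_P 276 := ⟨c1cc0_h, c1cc0_e⟩
theorem c1tn4_1 : ∀ i < 276, (c1tn4.ent H15.Co3.P c1th_P c1x_P c1x_P c1ce_P (nat_lit 7) (nat_lit 1) H15.Co3.B c1tl0 [c1tl1, c1tl2, c1tl3, c1tl4, c1tl5, c1tl6] (memO c1cc0)) i = 0 := allZ_sound0 c1tn4_1_0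
theorem c1tn4_t {G Ω : Type*} [Group G] [MulAction G Ω] {g : ℕ → G} {pt : ℕ → Ω}
    (M : Md g pt H15.Co3.P 276 7 H15.Co3.B 495766656000) : TrO (gen (wds g c1th_W) c1tl0.K) (wds g c1x_W) (wds g c1x_W) 1 pt 276 (c1tl0.Pt 0) (memO c1cc0) :=
  node M (c1t_S0 M) (c1th_act M) (c1x_act M) (c1x_act M) c1tn4 ((c1ce_act M).mono (by decide)) (fun _ _ => trivial) c1tn4_0 c1tn4_1 (List.forall_mem_nil _)
theorem c1c {G Ω : Type*} [Group G] [MulAction G Ω] {g : ℕ → G} {pt : ℕ → Ω}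
    (M : Md g pt H15.Co3.P 276 7 H15.Co3.B 495766656000) : Cen ⊤ (wds g c1x_W) 1 (wds g c1ce_W) pt 276 [c1cc0, c1cc3, c1cc6] :=
  (c1t_S0 M).top ▸ Cen.lev M (c1t_S0 M) (Cen.triv (c1t_S1 M) (Cen.triv (c1t_S2 M) (Cen.lev M (c1t_S3 M) (Cen.triv (c1t_S4 M) (Cen.triv (c1t_S5 M) (Cen.lev M (c1t_S6 M) (Cen.bot) (c1tn0_t M) (c1x_act M) (c1ce_act M) (fun _ _ => trivial) c1cc6_ok c1c_f6) (forced (c1t_S5 M) (c1th_act M) (c1x_act M) _ _ c1c_f5)) (forced (c1t_S4 M) (c1th_act M) (c1x_act M) _ _ c1c_f4)) (c1tn1_t M) (c1x_act M) (c1ce_act M) (fun _ _ => trivial) c1cc3_ok c1c_f3) (forced (c1t_S2 M) (c1th_act M) (c1x_act M) _ _ c1c_f2)) (forced (c1t_S1 M) (c1th_act M) (c1x_act M) _ _ c1c_f1)) (c1tn4_t M) (c1x_act M) (c1ce_act M) (fun _ _ => trivial) c1cc0_ok c1c_f0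
theorem c1c_card {G Ω : Type*} [Group G] [MulAction G Ω] {g : ℕ → G} {pt : ℕ → Ω}
    (M : Md g pt H15.Co3.P 276 7 H15.Co3.B 495766656000) : Nat.card (Subgroup.centralizer {(wds g c1x_W) 0}) = 4536 :=
  (c1c M).card_cent1 M.inj c1c_c.1
theorem c1c_eq {G Ω : Type*} [Group G] [MulAction G Ω] {g : ℕ → G} {pt : ℕ → Ω}
    (M : Md g pt H15.Co3.P 276 7 H15.Co3.B 495766656000) : Subgroup.centralizer (gen (wds g c1x_W) 1) = gen (wds g c1ce_W) 4 ∧ Nat.card (gen (wds g c1ce_W) 4) = 4536 :=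
  c1c_c.1 ▸ c1c_c.2 ▸ ⟨(c1c M).cent, (c1c M).card M.inj⟩
theorem c1 {G Ω : Type*} [Group G] [MulAction G Ω] {g : ℕ → G} {pt : ℕ → Ω}
    (M : Md g pt H15.Co3.P 276 7 H15.Co3.B 495766656000) : Nat.card (Subgroup.centralizer {(wds g x_W) 1}) = 4536 :=
  c1c_card M
theorem c2x_act {G Ω : Type*} [Group G] [MulAction G Ω] {g : ℕ → G} {pt : ℕ → Ω}
    (M : Md g pt H15.Co3.P 276 7 H15.Co3.B 495766656000) : Act (wds g c2x_W) pt c2x_P 276 1 :=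
  M.wact c2x_lt
theorem c2th_act {G Ω : Type*} [Group G] [MulAction G Ω] {g : ℕ → G} {pt : ℕ → Ω}
    (M : Md g pt H15.Co3.P 276 7 H15.Co3.B 495766656000) : Act (wds g c2th_W) pt c2th_P 276 23 :=
  M.wact c2th_lt
theorem c2tl0_e : ∀ i < 275, (dent c2tl0 c2th_P (nat_lit 276)) i = 0 := allZ_sound0 c2tl0_e_0
theorem c2tl0_ok : DOK c2tl0 c2th_P 276 := ⟨c2tl0_h, c2tl0_e⟩
theorem c2tl1_e : ∀ i < 274, (dent c2tl1 c2th_P (nat_lit 276)) i = 0 := allZ_sound0 c2tl1_e_0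
theorem c2tl1_ok : DOK c2tl1 c2th_P 276 := ⟨c2tl1_h, c2tl1_e⟩
theorem c2tl2_e : ∀ i < 111, (dent c2tl2 c2th_P (nat_lit 276)) i = 0 := allZ_sound0 c2tl2_e_0
theorem c2tl2_ok : DOK c2tl2 c2th_P 276 := ⟨c2tl2_h, c2tl2_e⟩
theorem c2tl3_e : ∀ i < 29, (dent c2tl3 c2th_P (nat_lit 276)) i = 0 := allZ_sound0 c2tl3_e_0
theorem c2tl3_ok : DOK c2tl3 c2th_P 276 := ⟨c2tl3_h, c2tl3_e⟩
theorem c2tl4_e : ∀ i < 26, (dent c2tl4 c2th_P (nat_lit 276)) i = 0 := allZ_sound0 c2tl4_e_0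
theorem c2tl4_ok : DOK c2tl4 c2th_P 276 := ⟨c2tl4_h, c2tl4_e⟩
theorem c2tl5_e : ∀ i < 23, (dent c2tl5 c2th_P (nat_lit 276)) i = 0 := allZ_sound0 c2tl5_e_0
theorem c2tl5_ok : DOK c2tl5 c2th_P 276 := ⟨c2tl5_h, c2tl5_e⟩
theorem c2tl6_e : ∀ i < 2, (dent c2tl6 c2th_P (nat_lit 276)) i = 0 := allZ_sound0 c2tl6_e_0
theorem c2tl6_ok : DOK c2tl6 c2th_P 276 := ⟨c2tl6_h, c2tl6_e⟩
theorem c2t_low {G Ω : Type*} [Group G] [MulAction G Ω] {g : ℕ → G} {pt : ℕ → Ω}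
    (M : Md g pt H15.Co3.P 276 7 H15.Co3.B 495766656000) : SLow (gi (wds g c2th_W)) pt 276 [c2tl0, c2tl1, c2tl2, c2tl3, c2tl4, c2tl5, c2tl6] :=
  (((((((SLow.nil).cons c2tl6_ok (c2th_act M) c2t_f6).cons c2tl5_ok (c2th_act M) c2t_f5).cons c2tl4_ok (c2th_act M) c2t_f4).cons c2tl3_ok (c2th_act M) c2t_f3).cons c2tl2_ok (c2th_act M) c2t_f2).cons c2tl1_ok (c2th_act M) c2t_f1).cons c2tl0_ok (c2th_act M) c2t_f0
theorem c2t_S0 {G Ω : Type*} [Group G] [MulAction G Ω] {g : ℕ → G} {pt : ℕ → Ω}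
    (M : Md g pt H15.Co3.P 276 7 H15.Co3.B 495766656000) : Stage ⊤ (wds g c2th_W) pt 276 [c2tl0, c2tl1, c2tl2, c2tl3, c2tl4, c2tl5, c2tl6] [] :=
  M.stage (c2t_low M) c2t_c
theorem c2t_S1 {G Ω : Type*} [Group G] [MulAction G Ω] {g : ℕ → G} {pt : ℕ → Ω}
    (M : Md g pt H15.Co3.P 276 7 H15.Co3.B 495766656000) : Stage ⊤ (wds g c2th_W) pt 276 [c2tl1, c2tl2, c2tl3, c2tl4, c2tl5, c2tl6] [c2tl0.Pt 0] :=
  (c2t_S0 M).next
theorem c2t_S2 {G Ω : Type*} [Group G] [MulAction G Ω] {g : ℕ → G} {pt : ℕ → Ω}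
    (M : Md g pt H15.Co3.P 276 7 H15.Co3.B 495766656000) : Stage ⊤ (wds g c2th_W) pt 276 [c2tl2, c2tl3, c2tl4, c2tl5, c2tl6] [c2tl1.Pt 0, c2tl0.Pt 0] :=
  (c2t_S1 M).next
theorem c2t_S3 {G Ω : Type*} [Group G] [MulAction G Ω] {g : ℕ → G} {pt : ℕ → Ω}
    (M : Md g pt H15.Co3.P 276 7 H15.Co3.B 495766656000) : Stage ⊤ (wds g c2th_W) pt 276 [c2tl3, c2tl4, c2tl5, c2tl6] [c2tl2.Pt 0, c2tl1.Pt 0, c2tl0.Pt 0] :=
  (c2t_S2 M).next
theorem c2t_S4 {G Ω : Type*} [Group G] [MulAction G Ω] {g : ℕ → G} {pt : ℕ → Ω}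
    (M : Md g pt H15.Co3.P 276 7 H15.Co3.B 495766656000) : Stage ⊤ (wds g c2th_W) pt 276 [c2tl4, c2tl5, c2tl6] [c2tl3.Pt 0, c2tl2.Pt 0, c2tl1.Pt 0, c2tl0.Pt 0] :=
  (c2t_S3 M).next
theorem c2t_S5 {G Ω : Type*} [Group G] [MulAction G Ω] {g : ℕ → G} {pt : ℕ → Ω}
    (M : Md g pt H15.Co3.P 276 7 H15.Co3.B 495766656000) : Stage ⊤ (wds g c2th_W) pt 276 [c2tl5, c2tl6] [c2tl4.Pt 0, c2tl3.Pt 0, c2tl2.Pt 0, c2tl1.Pt 0, c2tl0.Pt 0] :=
  (c2t_S4 M).next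
theorem c2t_S6 {G Ω : Type*} [Group G] [MulAction G Ω] {g : ℕ → G} {pt : ℕ → Ω}
    (M : Md g pt H15.Co3.P 276 7 H15.Co3.B 495766656000) : Stage ⊤ (wds g c2th_W) pt 276 [c2tl6] [c2tl5.Pt 0, c2tl4.Pt 0, c2tl3.Pt 0, c2tl2.Pt 0, c2tl1.Pt 0, c2tl0.Pt 0] :=
  (c2t_S5 M).next
theorem c2t_S7 {G Ω : Type*} [Group G] [MulAction G Ω] {g : ℕ → G} {pt : ℕ → Ω}
    (M : Md g pt H15.Co3.P 276 7 H15.Co3.B 495766656000) : Stage ⊤ (wds g c2th_W) pt 276 [] [c2tl6.Pt 0, c2tl5.Pt 0, c2tl4.Pt 0, c2tl3.Pt 0, c2tl2.Pt 0, c2tl1.Pt 0, c2tl0.Pt 0] :=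
  (c2t_S6 M).next
theorem c2ce_act {G Ω : Type*} [Group G] [MulAction G Ω] {g : ℕ → G} {pt : ℕ → Ω}
    (M : Md g pt H15.Co3.P 276 7 H15.Co3.B 495766656000) : Act (wds g c2ce_W) pt c2ce_P 276 4 :=
  M.wact c2ce_lt
theorem c2cc3_e : ∀ i < 4, (dent c2cc3 c2ce_P (nat_lit 276)) i = 0 := allZ_sound0 c2cc3_e_0
theorem c2cc3_ok : DOK c2cc3 c2ce_P 276 := ⟨c2cc3_h, c2cc3_e⟩
theorem c2tn0_1 : ∀ i < 30, (c2tn0.ent H15.Co3.P c2th_P c2x_P c2x_P c2ce_P (nat_lit 7) (nat_lit 1) H15.Co3.B c2tl3 [c2tl4, c2tl5, c2tl6] (memO c2cc3)) i = 0 := allZ_sound0 c2tn0_1_0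
theorem c2tn0_t {G Ω : Type*} [Group G] [MulAction G Ω] {g : ℕ → G} {pt : ℕ → Ω}
    (M : Md g pt H15.Co3.P 276 7 H15.Co3.B 495766656000) : TrO (gen (wds g c2th_W) c2tl3.K) (wds g c2x_W) (wds g c2x_W) 1 pt 276 (c2tl3.Pt 0) (memO c2cc3) :=
  node M (c2t_S3 M) (c2th_act M) (c2x_act M) (c2x_act M) c2tn0 ((c2ce_act M).mono (by decide)) (fun _ _ => trivial) c2tn0_0 c2tn0_1 (List.forall_mem_nil _)
theorem c2cc2_e : ∀ i < 1, (dent c2cc2 c2ce_P (nat_lit 276)) i = 0 := allZ_sound0 c2cc2_e_0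
theorem c2cc2_ok : DOK c2cc2 c2ce_P 276 := ⟨c2cc2_h, c2cc2_e⟩
theorem c2tn1_1 : ∀ i < 112, (c2tn1.ent H15.Co3.P c2th_P c2x_P c2x_P c2ce_P (nat_lit 7) (nat_lit 1) H15.Co3.B c2tl2 [c2tl3, c2tl4, c2tl5, c2tl6] (memO c2cc2)) i = 0 := allZ_sound0 c2tn1_1_0
theorem c2tn1_t {G Ω : Type*} [Group G] [MulAction G Ω] {g : ℕ → G} {pt : ℕ → Ω}
    (M : Md g pt H15.Co3.P 276 7 H15.Co3.B 495766656000) : TrO (gen (wds g c2th_W) c2tl2.K) (wds g c2x_W) (wds g c2x_W) 1 pt 276 (c2tl2.Pt 0) (memO c2cc2) :=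
  node M (c2t_S2 M) (c2th_act M) (c2x_act M) (c2x_act M) c2tn1 ((c2ce_act M).mono (by decide)) (fun _ _ => trivial) c2tn1_0 c2tn1_1 (List.forall_mem_nil _)
theorem c2cc1_e : ∀ i < 4, (dent c2cc1 c2ce_P (nat_lit 276)) i = 0 := allZ_sound0 c2cc1_e_0
theorem c2cc1_ok : DOK c2cc1 c2ce_P 276 := ⟨c2cc1_h, c2cc1_e⟩
theorem c2tn2_1 : ∀ i < 275, (c2tn2.ent H15.Co3.P c2th_P c2x_P c2x_P c2ce_P (nat_lit 7) (nat_lit 1) H15.Co3.B c2tl1 [c2tl2, c2tl3, c2tl4, c2tl5, c2tl6] (memO c2cc1)) i = 0 := allZ_sound0 c2tn2_1_0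
theorem c2tn2_t {G Ω : Type*} [Group G] [MulAction G Ω] {g : ℕ → G} {pt : ℕ → Ω}
    (M : Md g pt H15.Co3.P 276 7 H15.Co3.B 495766656000) : TrO (gen (wds g c2th_W) c2tl1.K) (wds g c2x_W) (wds g c2x_W) 1 pt 276 (c2tl1.Pt 0) (memO c2cc1) :=
  node M (c2t_S1 M) (c2th_act M) (c2x_act M) (c2x_act M) c2tn2 ((c2ce_act M).mono (by decide)) (fun _ _ => trivial) c2tn2_0 c2tn2_1 (List.forall_mem_nil _)
theorem c2cc0_e : ∀ i < 5, (dent c2cc0 c2ce_P (nat_lit 276)) i = 0 := allZ_sound0 c2cc0_e_0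
theorem c2cc0_ok : DOK c2cc0 c2ce_P 276 := ⟨c2cc0_h, c2cc0_e⟩
theorem c2tn3_1 : ∀ i < 276, (c2tn3.ent H15.Co3.P c2th_P c2x_P c2x_P c2ce_P (nat_lit 7) (nat_lit 1) H15.Co3.B c2tl0 [c2tl1, c2tl2, c2tl3, c2tl4, c2tl5, c2tl6] (memO c2cc0)) i = 0 := allZ_sound0 c2tn3_1_0
theorem c2tn3_t {G Ω : Type*} [Group G] [MulAction G Ω] {g : ℕ → G} {pt : ℕ → Ω}
    (M : Md g pt H15.Co3.P 276 7 H15.Co3.B 495766656000) : TrO (gen (wds g c2th_W) c2tl0.K) (wds g c2x_W) (wds g c2x_W) 1 pt 276 (c2tl0.Pt 0) (memO c2cc0) :=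
  node M (c2t_S0 M) (c2th_act M) (c2x_act M) (c2x_act M) c2tn3 ((c2ce_act M).mono (by decide)) (fun _ _ => trivial) c2tn3_0 c2tn3_1 (List.forall_mem_nil _)
theorem c2c {G Ω : Type*} [Group G] [MulAction G Ω] {g : ℕ → G} {pt : ℕ → Ω}
    (M : Md g pt H15.Co3.P 276 7 H15.Co3.B 495766656000) : Cen ⊤ (wds g c2x_W) 1 (wds g c2ce_W) pt 276 [c2cc0, c2cc1, c2cc2, c2cc3] :=
  (c2t_S0 M).top ▸ Cen.lev M (c2t_S0 M) (Cen.lev M (c2t_S1 M) (Cen.lev M (c2t_S2 M) (Cen.lev M (c2t_S3 M) (Cen.triv (c2t_S4 M) (Cen.triv (c2t_S5 M) (Cen.triv (c2t_S6 M) (Cen.bot) (forced (c2t_S6 M) (c2th_act M) (c2x_act M) _ _ c2c_f6)) (forced (c2t_S5 M) (c2th_act M) (c2x_act M) _ _ c2c_f5)) (forced (c2t_S4 M) (c2th_act M) (c2x_act M) _ _ c2c_f4)) (c2tn0_t M) (c2x_act M) (c2ce_act M) (fun _ _ => trivial) c2cc3_ok c2c_f3) (c2tn1_t M) (c2x_act M) (c2ce_act M) (fun _ _ => trivial) c2cc2_ok c2c_f2) (c2tn2_t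 M) (c2x_act M) (c2ce_act M) (fun _ _ => trivial) c2cc1_ok c2c_f1) (c2tn3_t M) (c2x_act M) (c2ce_act M) (fun _ _ => trivial) c2cc0_ok c2c_f0
theorem c2c_card {G Ω : Type*} [Group G] [MulAction G Ω] {g : ℕ → G} {pt : ℕ → Ω}
    (M : Md g pt H15.Co3.P 276 7 H15.Co3.B 495766656000) : Nat.card (Subgroup.centralizer {(wds g c2x_W) 0}) = 300 :=
  (c2c M).card_cent1 M.inj c2c_c.1
theorem c2c_eq {G Ω : Type*} [Group G] [MulAction G Ω] {g : ℕ → G} {pt : ℕ → Ω}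
    (M : Md g pt H15.Co3.P 276 7 H15.Co3.B 495766656000) : Subgroup.centralizer (gen (wds g c2x_W) 1) = gen (wds g c2ce_W) 4 ∧ Nat.card (gen (wds g c2ce_W) 4) = 300 :=
  c2c_c.1 ▸ c2c_c.2 ▸ ⟨(c2c M).cent, (c2c M).card M.inj⟩
theorem c2 {G Ω : Type*} [Group G] [MulAction G Ω] {g : ℕ → G} {pt : ℕ → Ω}
    (M : Md g pt H15.Co3.P 276 7 H15.Co3.B 495766656000) : Nat.card (Subgroup.centralizer {(wds g x_W) 2}) = 300 :=
  c2c_card M
theorem c3x_act {G Ω : Type*} [Group G] [MulAction G Ω] {g : ℕ → G} {pt : ℕ → Ω}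
    (M : Md g pt H15.Co3.P 276 7 H15.Co3.B 495766656000) : Act (wds g c3x_W) pt c3x_P 276 1 :=
  M.wact c3x_lt
theorem c3th_act {G Ω : Type*} [Group G] [MulAction G Ω] {g : ℕ → G} {pt : ℕ → Ω}
    (M : Md g pt H15.Co3.P 276 7 H15.Co3.B 495766656000) : Act (wds g c3th_W) pt c3th_P 276 16 :=
  M.wact c3th_lt
theorem c3tl0_e : ∀ i < 275, (dent c3tl0 c3th_P (nat_lit 276)) i = 0 := allZ_sound0 c3tl0_e_0
theorem c3tl0_ok : DOK c3tl0 c3th_P 276 := ⟨c3tl0_h, c3tl0_e⟩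
theorem c3tl1_e : ∀ i < 274, (dent c3tl1 c3th_P (nat_lit 276)) i = 0 := allZ_sound0 c3tl1_e_0
theorem c3tl1_ok : DOK c3tl1 c3th_P 276 := ⟨c3tl1_h, c3tl1_e⟩
theorem c3tl2_e : ∀ i < 161, (dent c3tl2 c3th_P (nat_lit 276)) i = 0 := allZ_sound0 c3tl2_e_0
theorem c3tl2_ok : DOK c3tl2 c3th_P 276 := ⟨c3tl2_h, c3tl2_e⟩
theorem c3tl3_e : ∀ i < 55, (dent c3tl3 c3th_P (nat_lit 276)) i = 0 := allZ_sound0 c3tl3_e_0
theorem c3tl3_ok : DOK c3tl3 c3th_P 276 := ⟨c3tl3_h, c3tl3_e⟩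
theorem c3tl4_e : ∀ i < 44, (dent c3tl4 c3th_P (nat_lit 276)) i = 0 := allZ_sound0 c3tl4_e_0
theorem c3tl4_ok : DOK c3tl4 c3th_P 276 := ⟨c3tl4_h, c3tl4_e⟩
theorem c3tl5_e : ∀ i < 15, (dent c3tl5 c3th_P (nat_lit 276)) i = 0 := allZ_sound0 c3tl5_e_0
theorem c3tl5_ok : DOK c3tl5 c3th_P 276 := ⟨c3tl5_h, c3tl5_e⟩
theorem c3t_low {G Ω : Type*} [Group G] [MulAction G Ω] {g : ℕ → G} {pt : ℕ → Ω}
    (M : Md g pt H15.Co3.P 276 7 H15.Co3.B 495766656000) : SLow (gi (wds g c3th_W)) pt 276 [c3tl0, c3tl1, c3tl2, c3tl3, c3tl4, c3tl5] :=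
  ((((((SLow.nil).cons c3tl5_ok (c3th_act M) c3t_f5).cons c3tl4_ok (c3th_act M) c3t_f4).cons c3tl3_ok (c3th_act M) c3t_f3).cons c3tl2_ok (c3th_act M) c3t_f2).cons c3tl1_ok (c3th_act M) c3t_f1).cons c3tl0_ok (c3th_act M) c3t_f0
theorem c3t_S0 {G Ω : Type*} [Group G] [MulAction G Ω] {g : ℕ → G} {pt : ℕ → Ω}
    (M : Md g pt H15.Co3.P 276 7 H15.Co3.B 495766656000) : Stage ⊤ (wds g c3th_W) pt 276 [c3tl0, c3tl1, c3tl2, c3tl3, c3tl4, c3tl5] [] :=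
  M.stage (c3t_low M) c3t_c
theorem c3t_S1 {G Ω : Type*} [Group G] [MulAction G Ω] {g : ℕ → G} {pt : ℕ → Ω}
    (M : Md g pt H15.Co3.P 276 7 H15.Co3.B 495766656000) : Stage ⊤ (wds g c3th_W) pt 276 [c3tl1, c3tl2, c3tl3, c3tl4, c3tl5] [c3tl0.Pt 0] :=
  (c3t_S0 M).next
theorem c3t_S2 {G Ω : Type*} [Group G] [MulAction G Ω] {g : ℕ → G} {pt : ℕ → Ω}
    (M : Md g pt H15.Co3.P 276 7 H15.Co3.B 495766656000) : Stage ⊤ (wds g c3th_W) pt 276 [c3tl2, c3tl3, c3tl4, c3tl5] [c3tl1.Pt 0, c3tl0.Pt 0] :=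
  (c3t_S1 M).next
theorem c3t_S3 {G Ω : Type*} [Group G] [MulAction G Ω] {g : ℕ → G} {pt : ℕ → Ω}
    (M : Md g pt H15.Co3.P 276 7 H15.Co3.B 495766656000) : Stage ⊤ (wds g c3th_W) pt 276 [c3tl3, c3tl4, c3tl5] [c3tl2.Pt 0, c3tl1.Pt 0, c3tl0.Pt 0] :=
  (c3t_S2 M).next
theorem c3t_S4 {G Ω : Type*} [Group G] [MulAction G Ω] {g : ℕ → G} {pt : ℕ → Ω}
    (M : Md g pt H15.Co3.P 276 7 H15.Co3.B 495766656000) : Stage ⊤ (wds g c3th_W) pt 276 [c3tl4, c3tl5] [c3tl3.Pt 0, c3tl2.Pt 0, c3tl1.Pt 0, c3tl0.Pt 0] :=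
  (c3t_S3 M).next
theorem c3t_S5 {G Ω : Type*} [Group G] [MulAction G Ω] {g : ℕ → G} {pt : ℕ → Ω}
    (M : Md g pt H15.Co3.P 276 7 H15.Co3.B 495766656000) : Stage ⊤ (wds g c3th_W) pt 276 [c3tl5] [c3tl4.Pt 0, c3tl3.Pt 0, c3tl2.Pt 0, c3tl1.Pt 0, c3tl0.Pt 0] :=
  (c3t_S4 M).next
theorem c3t_S6 {G Ω : Type*} [Group G] [MulAction G Ω] {g : ℕ → G} {pt : ℕ → Ω}
    (M : Md g pt H15.Co3.P 276 7 H15.Co3.B 495766656000) : Stage ⊤ (wds g c3th_W) pt 276 [] [c3tl5.Pt 0, c3tl4.Pt 0, c3tl3.Pt 0, c3tl2.Pt 0, c3tl1.Pt 0, c3tl0.Pt 0] :=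
  (c3t_S5 M).next
theorem c3ce_act {G Ω : Type*} [Group G] [MulAction G Ω] {g : ℕ → G} {pt : ℕ → Ω}
    (M : Md g pt H15.Co3.P 276 7 H15.Co3.B 495766656000) : Act (wds g c3ce_W) pt c3ce_P 276 3 :=
  M.wact c3ce_lt
theorem c3cc3_e : ∀ i < 6, (dent c3cc3 c3ce_P (nat_lit 276)) i = 0 := allZ_sound0 c3cc3_e_0
theorem c3cc3_ok : DOK c3cc3 c3ce_P 276 := ⟨c3cc3_h, c3cc3_e⟩
theorem c3tn0_1 : ∀ i < 56, (c3tn0.ent H15.Co3.P c3th_P c3x_P c3x_P c3ce_P (nat_lit 7) (nat_lit 1) H15.Co3.B c3tl3 [c3tl4, c3tl5] (memO c3cc3)) i = 0 := allZ_sound0 c3tn0_1_0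
theorem c3tn0_t {G Ω : Type*} [Group G] [MulAction G Ω] {g : ℕ → G} {pt : ℕ → Ω}
    (M : Md g pt H15.Co3.P 276 7 H15.Co3.B 495766656000) : TrO (gen (wds g c3th_W) c3tl3.K) (wds g c3x_W) (wds g c3x_W) 1 pt 276 (c3tl3.Pt 0) (memO c3cc3) :=
  node M (c3t_S3 M) (c3th_act M) (c3x_act M) (c3x_act M) c3tn0 ((c3ce_act M).mono (by decide)) (fun _ _ => trivial) c3tn0_0 c3tn0_1 (List.forall_mem_nil _)
theorem c3tn1_1 : ∀ i < 162, (c3tn1.ent H15.Co3.P c3th_P c3x_P c3x_P c3ce_P (nat_lit 7) (nat_lit 1) H15.Co3.B c3tl2 [c3tl3, c3tl4, c3tl5] (fun w => Nat.xor w (c3tl2.Pt (nat_lit 0)))) i = 0 := allZ_sound0 c3tn1_1_0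
theorem c3tn1_t {G Ω : Type*} [Group G] [MulAction G Ω] {g : ℕ → G} {pt : ℕ → Ω}
    (M : Md g pt H15.Co3.P 276 7 H15.Co3.B 495766656000) : TrO (gen (wds g c3th_W) c3tl2.K) (wds g c3x_W) (wds g c3x_W) 1 pt 276 (c3tl2.Pt 0) (fun w => Nat.xor w (c3tl2.Pt (nat_lit 0))) :=
  node M (c3t_S2 M) (c3th_act M) (c3x_act M) (c3x_act M) c3tn1 ((c3ce_act M).mono (by decide)) (fun _ _ => trivial) c3tn1_0 c3tn1_1 (List.forall_mem_nil _)
theorem c3cc1_e : ∀ i < 1, (dent c3cc1 c3ce_P (nat_lit 276)) i = 0 := allZ_sound0 c3cc1_e_0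
theorem c3cc1_ok : DOK c3cc1 c3ce_P 276 := ⟨c3cc1_h, c3cc1_e⟩
theorem c3tn2_1 : ∀ i < 275, (c3tn2.ent H15.Co3.P c3th_P c3x_P c3x_P c3ce_P (nat_lit 7) (nat_lit 1) H15.Co3.B c3tl1 [c3tl2, c3tl3, c3tl4, c3tl5] (memO c3cc1)) i = 0 := allZ_sound0 c3tn2_1_0
theorem c3tn2_t {G Ω : Type*} [Group G] [MulAction G Ω] {g : ℕ → G} {pt : ℕ → Ω}
    (M : Md g pt H15.Co3.P 276 7 H15.Co3.B 495766656000) : TrO (gen (wds g c3th_W) c3tl1.K) (wds g c3x_W) (wds g c3x_W) 1 pt 276 (c3tl1.Pt 0) (memO c3cc1) :=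
  node M (c3t_S1 M) (c3th_act M) (c3x_act M) (c3x_act M) c3tn2 ((c3ce_act M).mono (by decide)) (fun _ _ => trivial) c3tn2_0 c3tn2_1 (List.forall_mem_nil _)
theorem c3cc0_e : ∀ i < 2, (dent c3cc0 c3ce_P (nat_lit 276)) i = 0 := allZ_sound0 c3cc0_e_0
theorem c3cc0_ok : DOK c3cc0 c3ce_P 276 := ⟨c3cc0_h, c3cc0_e⟩
theorem c3tn3_1 : ∀ i < 276, (c3tn3.ent H15.Co3.P c3th_P c3x_P c3x_P c3ce_P (nat_lit 7) (nat_lit 1) H15.Co3.B c3tl0 [c3tl1, c3tl2, c3tl3, c3tl4, c3tl5] (memO c3cc0)) i = 0 := allZ_sound0 c3tn3_1_0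
theorem c3tn3_t {G Ω : Type*} [Group G] [MulAction G Ω] {g : ℕ → G} {pt : ℕ → Ω}
    (M : Md g pt H15.Co3.P 276 7 H15.Co3.B 495766656000) : TrO (gen (wds g c3th_W) c3tl0.K) (wds g c3x_W) (wds g c3x_W) 1 pt 276 (c3tl0.Pt 0) (memO c3cc0) :=
  node M (c3t_S0 M) (c3th_act M) (c3x_act M) (c3x_act M) c3tn3 ((c3ce_act M).mono (by decide)) (fun _ _ => trivial) c3tn3_0 c3tn3_1 (List.forall_mem_nil _)
theorem c3c {G Ω : Type*} [Group G] [MulAction G Ω] {g : ℕ → G} {pt : ℕ → Ω}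
    (M : Md g pt H15.Co3.P 276 7 H15.Co3.B 495766656000) : Cen ⊤ (wds g c3x_W) 1 (wds g c3ce_W) pt 276 [c3cc0, c3cc1, c3cc3] :=
  (c3t_S0 M).top ▸ Cen.lev M (c3t_S0 M) (Cen.lev M (c3t_S1 M) (Cen.triv (c3t_S2 M) (Cen.lev M (c3t_S3 M) (Cen.triv (c3t_S4 M) (Cen.triv (c3t_S5 M) (Cen.bot) (forced (c3t_S5 M) (c3th_act M) (c3x_act M) _ _ c3c_f5)) (forced (c3t_S4 M) (c3th_act M) (c3x_act M) _ _ c3c_f4)) (c3tn0_t M) (c3x_act M) (c3ce_act M) (fun _ _ => trivial) c3cc3_ok c3c_f3) (c3tn1_t M)) (c3tn2_t M) (c3x_act M) (c3ce_act M) (fun _ _ => trivial) c3cc1_ok c3c_f1) (c3tn3_t M) (c3x_act M) (c3ce_act M) (fun _ _ => trivial) c3cc0_ok c3c_f0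
theorem c3c_card {G Ω : Type*} [Group G] [MulAction G Ω] {g : ℕ → G} {pt : ℕ → Ω}
    (M : Md g pt H15.Co3.P 276 7 H15.Co3.B 495766656000) : Nat.card (Subgroup.centralizer {(wds g c3x_W) 0}) = 42 :=
  (c3c M).card_cent1 M.inj c3c_c.1
theorem c3c_eq {G Ω : Type*} [Group G] [MulAction G Ω] {g : ℕ → G} {pt : ℕ → Ω}
    (M : Md g pt H15.Co3.P 276 7 H15.Co3.B 495766656000) : Subgroup.centralizer (gen (wds g c3x_W) 1) = gen (wds g c3ce_W) 3 ∧ Nat.card (gen (wds g c3ce_W) 3) = 42 :=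
  c3c_c.1 ▸ c3c_c.2 ▸ ⟨(c3c M).cent, (c3c M).card M.inj⟩
theorem c3 {G Ω : Type*} [Group G] [MulAction G Ω] {g : ℕ → G} {pt : ℕ → Ω}
    (M : Md g pt H15.Co3.P 276 7 H15.Co3.B 495766656000) : Nat.card (Subgroup.centralizer {(wds g x_W) 3}) = 42 :=
  c3c_card M
theorem main : ∃ x : ℕ → gen H15.Co3.g 7, (∀ k, (x k).1 = evA H15.Co3.g (nth [] x_W k)) ∧
    Nat.card (Subgroup.centralizer {x 0}) = 29160 ∧ Nat.card (Subgroup.centralizer {x 1}) = 4536 ∧ Nat.card (Subgroup.centralizer {x 2}) = 300 ∧ Nat.card (Subgroup.centralizer {x 3}) = 42 := by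
  obtain ⟨_, g, M, h⟩ := md (MulEquiv.refl _)
  exact ⟨wds g x_W, fun k => (map_evA g (Subgroup.subtype _) _).trans
    (evA_congr _ fun j hj => h j (nth_lt x_lt k j hj)), c0 M, c1 M, c2 M, c3 M⟩

end H0.Mo.X3
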